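/-
Parities and spinor norms in even dimension: elements of one factor, of the other factors, and conjugates by
similitudes.
-/
import Cfsg.Agent.Lib.Geo.OrthWreath.Ctx

set_option autoImplicit false
set_option linter.unusedSectionVars false

namespace CfsgLib.Geo.OrthWreath

open CfsgLib.Classical CfsgLib.Classical.Quad CfsgLib.Known.OmegaCriterion Module
open CfsgLib.Geo.MixTensor (SymForm)
open QuadraticMap (polar polarBilin)
open LinearMap (BilinForm)

variable {F : Type*} [Field F]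

theorem zmod_two (a : ZMod 2) : a = 0 ∨ a = 1 := by revert a; decide

/-- The square class attached to a parity. -/
noncomputable def pcl (K : SqClass F) (a : ZMod 2) : SqClass F := if a = 0 then 1 else K

theorem pcl_zero (K : SqClass F) : pcl K 0 = 1 := if_pos rfl

theorem pcl_one (K : SqClass F) : pcl K 1 = K := if_neg one_ne_zero

theorem pcl_add (K : SqClass F) (a b : ZMod 2) : pcl K (a + b) = pcl K a * pcl K b := by
  rcases zmod_two a with rfl | rfl <;> rcases zmod_two b with rfl | rfl <;>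
    simp [pcl_zero, pcl_one, CharTwo.add_self_eq_zero, sqClass_mul_self]

section sim

variable [Finite F] {V : Type*} [AddCommGroup V] [Module F V] [FiniteDimensional F V] {Q : QuadraticForm F V}
  (hQ : (polarBilin Q).Nondegenerate) (hR : reflGroup Q = ⊤)
include hQ hR

theorem spinor_inv (g : OQ Q) : spinor g⁻¹ = spinor g := by
  have h := spinor_mul hQ hR g g⁻¹
  rw [mul_inv_cancel, spinor_one hQ] at h
  calc spinor g⁻¹ = spinor g * (spinor g * spinor g⁻¹) := by rw [← mul_assoc, sqClass_mul_self, one_mul]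
    _ = spinor g := by rw [← h, mul_one]

theorem par_inv (g : OQ Q) : par g⁻¹ = par g := by
  have h := par_mul hQ hR g g⁻¹
  rw [mul_inv_cancel, par_one hQ] at h
  rcases zmod_two (par g) with e | e <;> rcases zmod_two (par g⁻¹) with e' | e' <;> simp_all

/-- The conjugate of an isometry by a similitude. -/
theorem exists_sim_conj (B : V ≃ₗ[F] V) {μ : F} (hμ : μ ≠ 0) (hB : ∀ v, Q (B v) = μ * Q v) (g : OQ Q) :
    ∃ y : OQ Q, (∀ v, (y : V ≃ₗ[F] V) (B v) = B ((g : V ≃ₗ[F] V) v)) ∧ par y = par g ∧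
      spinor y = spinor g * pcl (sqc μ) (par g) := by
  have hg : g ∈ reflGroup Q := by rw [hR]; trivial
  induction hg using Subgroup.closure_induction with
  | mem x hx =>
    obtain ⟨v, hv, rfl⟩ := hx
    have hBv : Q (B v) ≠ 0 := by rw [hB]; exact mul_ne_zero hμ hv
    have hpol : ∀ a b, polar Q (B a) (B b) = μ * polar Q a b := fun a b => by
      simp only [polar, ← map_add, hB]
      ring
    refine ⟨Quad.refl hBv, fun a => ?_, by rw [par_refl hQ, par_refl hQ], ?_⟩
    · rw [Quad.refl_apply, Quad.refl_apply, hpol, hB, map_sub, map_smul]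
      congr 2
      field_simp
    · rw [spinor_refl hQ, spinor_refl hQ, par_refl hQ, pcl_one, hB, sqc_mul hμ hv, mul_comm]
  | one => exact ⟨1, fun v => rfl, rfl, by rw [par_one hQ, pcl_zero, mul_one]⟩
  | mul x x' _ _ h h' =>
    obtain ⟨y, e, p, s⟩ := h
    obtain ⟨y', e', p', s'⟩ := h'
    refine ⟨y * y', fun v => ?_, by rw [par_mul hQ hR, par_mul hQ hR, p, p'], ?_⟩
    · simp only [Subgroup.coe_mul, LinearEquiv.mul_apply, e, e']
    · rw [spinor_mul hQ hR, spinor_mul hQ hR, par_mul hQ hR, pcl_add, s, s', mul_mul_mul_comm]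
  | inv x _ h =>
    obtain ⟨y, e, p, s⟩ := h
    refine ⟨y⁻¹, fun v => ?_, by rw [par_inv hQ hR, par_inv hQ hR, p], by
      rw [spinor_inv hQ hR, spinor_inv hQ hR, par_inv hQ hR, s]⟩
    rw [Subgroup.coe_inv, Subgroup.coe_inv]
    refine (y : V ≃ₗ[F] V).symm_apply_eq.2 ?_
    rw [e]
    exact congrArg B ((x : V ≃ₗ[F] V).apply_symm_apply v).symm

end sim

variable [Finite F] {k t : ℕ} {f : BilinForm F (Ud F k)} (hf : SymForm f)
include hf

theorem exists_ne_one : ∃ c : F, c ≠ 0 ∧ c ≠ 1 :=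
  ⟨-1, neg_ne_zero.2 one_ne_zero, fun e => hf.two (by linear_combination -e)⟩

theorem reflTopU : reflGroup (qU f) = ⊤ := reflGroup_eq_top (qU_nd hf) (Or.inl (exists_ne_one hf))

theorem reflTopT : reflGroup (qT f t) = ⊤ := reflGroup_eq_top (qT_nd hf) (Or.inl (exists_ne_one hf))

variable (hk : 4 ≤ k) (hke : Even k)
include hk hke

theorem five_even (ht : 1 ≤ t) : 5 ≤ finrank F (Vt F k (t + 1)) := five_le hf (by omega) (by omega)

theorem pow_cast_zero (ht : 1 ≤ t) : ((k ^ t : ℕ) : ZMod 2) = 0 :=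
  (ZMod.natCast_eq_zero_iff_even).2 (hke.pow_of_ne_zero (by omega))

/-- The class of a reflection of one factor. -/
theorem refl_class_at (ht : 1 ≤ t) (i : Fin (t + 1)) : ∃ K₀ : SqClass F, ∀ (c : Ud F k) (hc : f c c ≠ 0),
    par (slot hf i (rfU hf hc)) = 0 ∧ spinor (slot hf i (rfU hf hc)) = K₀ := by
  obtain ⟨K₀, h⟩ := (tensor hf i).flip.refl_invariants (five_even hf hk hke ht)
  refine ⟨K₀, fun c hc => ?_⟩
  obtain ⟨g, hg, hp, hs⟩ := h c hc
  have e : g = slot hf i (rfU hf hc) := el_ext_Tm i fun u w => by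
    rw [slot_Tm_self, rfU_apply]
    exact hg w u
  rw [finrank_Vt] at hp hs
  rw [← e]
  refine ⟨by rw [hp, pow_cast_zero hf hk hke ht], ?_⟩
  obtain ⟨m, hm⟩ := hke.pow_of_ne_zero (show t ≠ 0 by omega)
  rw [hs, hm, pow_add, sqClass_mul_self, mul_one]

/-- **The classes of the elements of one factor.** -/
theorem exists_slot_class (ht : 1 ≤ t) : ∃ K₀ : SqClass F, ∀ (i : Fin (t + 1)) (u : OQ (qU f)),
    par (slot hf i u) = 0 ∧ spinor (slot hf i u) = pcl K₀ (par u) := by
  have hQ := qT_nd hf (t := t + 1)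
  have hR := reflTopT hf (t := t + 1)
  obtain ⟨K₀, h₀⟩ := refl_class_at hf hk hke ht 0
  refine ⟨K₀, fun i u => ?_⟩
  have hu : u ∈ reflGroup (qU f) := by rw [reflTopU hf]; trivial
  induction hu using Subgroup.closure_induction with
  | mem x hx =>
    obtain ⟨c, hc, rfl⟩ := hx
    have hc' : f c c ≠ 0 := fun h => hc (by
      rw [qU, smul_apply, LinearMap.BilinMap.toQuadraticMap_apply, h, smul_zero])
    rw [show (Quad.refl hc : OQ (qU f)) = rfU hf hc' from rfl]
    obtain ⟨K₁, h₁⟩ := refl_class_at hf hk hke ht i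
    refine ⟨(h₁ c hc').1, ?_⟩
    have hm := slot_slot_mem hf (five_even hf hk hke ht) i 0 (rfU hf hc')
    rw [mem_commutator_iff hQ hR, spinor_mul hQ hR, (h₀ c hc').2] at hm
    rw [show (rfU hf hc' : OQ (qU f)) = Quad.refl hc from rfl, par_refl (qU_nd hf), pcl_one]
    calc spinor (slot hf i (rfU hf hc')) = spinor (slot hf i (rfU hf hc')) * K₀ * K₀ := by
          rw [mul_assoc, sqClass_mul_self, mul_one]
      _ = K₀ := by rw [hm.2, one_mul]
  | one => rw [map_one, par_one hQ, spinor_one hQ, par_one (qU_nd hf), pcl_zero]; exact ⟨rfl, rfl⟩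
  | mul x y _ _ hx hy =>
    rw [map_mul, par_mul hQ hR, spinor_mul hQ hR, par_mul (qU_nd hf) (reflTopU hf), pcl_add, hx.1, hy.1, hx.2, hy.2,
      add_zero]
    exact ⟨rfl, rfl⟩
  | inv x _ hx =>
    rw [map_inv, par_inv hQ hR, spinor_inv hQ hR, par_inv (qU_nd hf) (reflTopU hf)]
    exact hx

/-- An element of one factor of even parity lies in `Ω`. -/
theorem slot_mem_of_par (ht : 1 ≤ t) (i : Fin (t + 1)) {u : OQ (qU f)} (hu : par u = 0) :
    slot hf i u ∈ commutator (OQ (qT f (t + 1))) := by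
  obtain ⟨K₀, h⟩ := exists_slot_class hf hk hke ht
  rw [mem_commutator_iff (qT_nd hf) (reflTopT hf), (h i u).1, (h i u).2, hu, pcl_zero]
  exact ⟨rfl, rfl⟩

theorem par_tor (P : Fr f) {m : F} (hm : m ≠ 0) : par (P.tor hf hm) = 0 := by
  rw [Fr.tor, par_mul (qU_nd hf) (reflTopU hf), Fr.sw, Fr.sw]
  simp only [rfU]
  rw [par_refl (qU_nd hf), par_refl (qU_nd hf)]
  decide

theorem par_rfU {c : Ud F k} (hc : f c c ≠ 0) : par (rfU hf hc) = 1 := par_refl (qU_nd hf) _

/-- The classes of the elements of the other factors. -/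
theorem exists_wl_class (ht : 1 ≤ t) (i : Fin (t + 1)) : ∃ K₁ : SqClass F, ∀ y : OQ (qT f t),
    par (wl hf i y) = 0 ∧ spinor (wl hf i y) = pcl K₁ (par y) := by
  have hQ := qT_nd hf (t := t + 1)
  have hR := reflTopT hf (t := t + 1)
  obtain ⟨K₁, h⟩ := (tensor hf i).refl_invariants (five_even hf hk hke ht)
  refine ⟨K₁, fun y => ?_⟩
  have hy : y ∈ reflGroup (qT f t) := by rw [reflTopT hf]; trivial
  induction hy using Subgroup.closure_induction with
  | mem x hx =>
    obtain ⟨c, hc, rfl⟩ := hx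
    have hc' : frm f t c c ≠ 0 := fun h' => hc (by
      rw [qT, smul_apply, LinearMap.BilinMap.toQuadraticMap_apply, h', smul_zero])
    obtain ⟨g, hg, hp, hs⟩ := h c hc'
    have e : g = wl hf i (Quad.refl hc) := el_ext_Tm i fun u w => by
      rw [wl_Tm, hg, Quad.refl_apply, MixTensor.refl_apply, polar_qT hf, qT, smul_apply,
        LinearMap.BilinMap.toQuadraticMap_apply, smul_eq_mul, frm_symm hf w c, _root_.mul_inv_rev, inv_inv]
      congr 3
      field_simp
    rw [finrank_fin_fun] at hp hs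
    obtain ⟨m, hm⟩ := hke
    have hpow : ∀ {n : ℕ}, n = m + m → ∀ s : SqClass F, s ^ n = 1 := fun hn s => by
      rw [hn, pow_add, sqClass_mul_self]
    rw [← e, hp, hs, par_refl (qT_nd hf), pcl_one, (ZMod.natCast_eq_zero_iff_even).2 ⟨m, hm⟩, hpow hm, mul_one]
    exact ⟨rfl, rfl⟩
  | one => rw [map_one, par_one hQ, spinor_one hQ, par_one (qT_nd hf), pcl_zero]; exact ⟨rfl, rfl⟩
  | mul x y _ _ hx hy =>
    rw [map_mul, par_mul hQ hR, spinor_mul hQ hR, par_mul (qT_nd hf) (reflTopT hf), pcl_add, hx.1, hy.1, hx.2, hy.2,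
      add_zero]
    exact ⟨rfl, rfl⟩
  | inv x _ hx =>
    rw [map_inv, par_inv hQ hR, spinor_inv hQ hR, par_inv (qT_nd hf) (reflTopT hf)]
    exact hx

/-- An element of the other factors of even parity lies in `Ω`. -/
theorem wl_mem_of_par (ht : 1 ≤ t) (i : Fin (t + 1)) {y : OQ (qT f t)} (hy : par y = 0) :
    wl hf i y ∈ commutator (OQ (qT f (t + 1))) := by
  obtain ⟨K₁, h⟩ := exists_wl_class hf hk hke ht i
  rw [mem_commutator_iff (qT_nd hf) (reflTopT hf), (h y).1, (h y).2, hy, pcl_zero]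
  exact ⟨rfl, rfl⟩

/-- With three or more factors every element of one factor lies in `Ω`. -/
theorem slot_mem_of_two (ht : 2 ≤ t) (l : Fin (t + 1)) (u : OQ (qU f)) :
    slot hf l u ∈ commutator (OQ (qT f (t + 1))) := by
  obtain ⟨s, rfl⟩ : ∃ s, t = s + 1 := ⟨t - 1, by omega⟩
  obtain ⟨j, hj⟩ := exists_ne l
  obtain ⟨j', rfl⟩ := Fin.exists_succAbove_eq hj.symm
  obtain ⟨K₀, h⟩ := exists_slot_class hf hk hke (t := s) (by omega)
  rw [← wl_slot hf j]
  exact wl_mem_of_par hf hk hke (by omega) j (h j' u).1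

/-- **A compensator.** -/
theorem comp_even (ht : 1 ≤ t) (i : Fin (t + 1)) (P : Fr f) {z : Ud F k} (hdz : f P.d z = 0) (hez : f P.e z = 0)
    (hz : f z z ≠ 0) {g : OQ (qT f (t + 1))} (hg : g ∈ slots hf (t + 1)) :
    ∃ (c : OQ (qU f)) (m ε : F), m ≠ 0 ∧ ε * ε = 1 ∧ (c : Ud F k ≃ₗ[F] Ud F k) P.d = m • P.d ∧
      (c : Ud F k ≃ₗ[F] Ud F k) P.e = m⁻¹ • P.e ∧
      (∀ y, f P.d y = 0 → f P.e y = 0 → f z y = 0 → (c : Ud F k ≃ₗ[F] Ud F k) y = y) ∧
      (c : Ud F k ≃ₗ[F] Ud F k) z = ε • z ∧ slot hf i c * g ∈ commutator (OQ (qT f (t + 1))) := by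
  have hQ := qT_nd hf (t := t + 1)
  have hR := reflTopT hf (t := t + 1)
  obtain ⟨K₀, h⟩ := exists_slot_class hf hk hke ht
  let S : Subgroup (OQ (qT f (t + 1))) :=
    { carrier := {g | par g = 0 ∧ ∃ a, spinor g = pcl K₀ a}
      one_mem' := ⟨par_one hQ, 0, by rw [spinor_one hQ, pcl_zero]⟩
      mul_mem' := by
        rintro x y ⟨hx, a, ha⟩ ⟨hy, b, hb⟩
        exact ⟨by rw [par_mul hQ hR, hx, hy, add_zero], a + b, by rw [spinor_mul hQ hR, ha, hb, pcl_add]⟩
      inv_mem' := by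
        rintro x ⟨hx, a, ha⟩
        exact ⟨by rw [par_inv hQ hR, hx], a, by rw [spinor_inv hQ hR, ha]⟩ }
  have hS : slots hf (t + 1) ≤ S := iSup_le fun l => by
    rintro _ ⟨u, rfl⟩
    exact ⟨(h l u).1, par u, (h l u).2⟩
  obtain ⟨hgp, a, ha⟩ := hS hg
  have hzd : f z P.d = 0 := by rw [hf.symm, hdz]
  have hze : f z P.e = 0 := by rw [hf.symm, hez]
  rcases zmod_two a with rfl | rfl
  · refine ⟨1, 1, 1, one_ne_zero, one_mul 1, by simp, by simp, fun y _ _ _ => rfl, by simp, ?_⟩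
    rw [map_one, one_mul, mem_commutator_iff hQ hR, hgp, ha, pcl_zero]
    exact ⟨rfl, rfl⟩
  · refine ⟨rfU hf hz, 1, -1, one_ne_zero, by norm_num, ?_, ?_, fun y _ _ h3 => ?_, ?_, ?_⟩
    · rw [rfU_apply, hf.refl_fix hzd, one_smul]
    · rw [rfU_apply, hf.refl_fix hze, inv_one, one_smul]
    · rw [rfU_apply, hf.refl_fix h3]
    · rw [rfU_apply, MixTensor.refl_apply]
      match_scalars
      field_simp
      ring
    · rw [mem_commutator_iff hQ hR, par_mul hQ hR, spinor_mul hQ hR, (h i _).1, (h i _).2, hgp, ha, par_rfU hf hk hke,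
        sqClass_mul_self]
      exact ⟨add_zero _, rfl⟩

end CfsgLib.Geo.OrthWreath
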