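/-
Standard elements in any dimension: similitude factors, involutions and the difference of their eigenspace
dimensions.
-/
import Cfsg.Agent.Lib.Geo.OrthWreath.Sign
import Cfsg.Agent.Lib.Geo.OrthWreath.Pure

set_option autoImplicit false
set_option linter.unusedSectionVars false

namespace CfsgLib.Geo.OrthWreath

open CfsgLib.Classical CfsgLib.Classical.Quad Module
open CfsgLib.Geo.MixTensor (SymForm)
open CfsgLib.Geo.TensorWreath (pvec pvec_prop)
open LinearMap (BilinForm)

variable {F : Type*} [Field F] {k t : ℕ}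

/-- A map exchanging a projection with its complement has equal eigenspaces. -/
theorem dd_eq_zero_of_proj {V : Type*} [AddCommGroup V] [Module F V] [FiniteDimensional F V] (h2 : (2 : F) ≠ 0)
    {L P : Module.End F V} (hP : P * P = P) (hLP : L * P = (1 - P) * L) (hL : L * L = 1) : dd L = 0 := by
  have key : ∀ M : Module.End F V, M * P = (1 - P) * M → M * M = 1 →
      finrank F (fixS M) = finrank F (LinearMap.range P) := by
    intro M hM hMM
    have e1 : ∀ v, M (P v) = M v - P (M v) := fun v => by
      have := LinearMap.congr_fun hM v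
      simpa [sub_mul] using this
    have e2 : ∀ v, M (M v) = v := fun v => LinearMap.congr_fun hMM v
    have e3 : ∀ v, P (P v) = P v := fun v => LinearMap.congr_fun hP v
    apply le_antisymm
    · refine LinearMap.finrank_le_finrank_of_injective
        (f := (P.comp (fixS M).subtype).codRestrict (LinearMap.range P) fun v => ⟨_, rfl⟩)
        ((injective_iff_map_eq_zero _).2 fun ⟨v, hv⟩ h => ?_)
      have hPv : P v = 0 := congrArg Subtype.val h
      have h1 := e1 v
      rw [mem_fixS] at hv
      rw [hPv, map_zero, hv, hPv, sub_zero] at h1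
      exact Subtype.ext h1.symm
    · refine LinearMap.finrank_le_finrank_of_injective
        (f := ((1 + M).comp (LinearMap.range P).subtype).codRestrict (fixS M) fun v => by
          rw [mem_fixS]
          simp [e2, add_comm]) ((injective_iff_map_eq_zero _).2 fun ⟨v, w, hw⟩ h => ?_)
      have hv : v + M v = 0 := congrArg Subtype.val h
      subst hw
      have h1 := congrArg P hv
      rw [map_add, map_zero, e3, e1, map_sub, e3, sub_self, add_zero] at h1
      exact Subtype.ext h1
  have hn : (-L) * P = (1 - P) * (-L) := by rw [neg_mul, hLP, mul_neg]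
  rw [dd, key L hLP hL, key (-L) hn (by rw [neg_mul_neg, hL]), sub_self]

/-- A map with a non-square square has a projection which it exchanges with the complement. -/
theorem exists_half {V : Type*} [AddCommGroup V] [Module F V] [FiniteDimensional F V] {u : Module.End F V} {s : F}
    (hu : ∀ v, u (u v) = s • v) (hs : ¬ IsSquare s) : ∃ P : Module.End F V, P * P = P ∧ u * P = (1 - P) * u := by
  have hs0 : s ≠ 0 := fun h => hs (h ▸ IsSquare.zero)
  obtain ⟨A, hA, hmax⟩ := wellFounded_gt.has_min {A : Submodule F V | Disjoint A (A.map u)} ⟨⊥, disjoint_bot_left⟩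
  have hM : A ⊔ A.map u = ⊤ := by
    by_contra hne
    obtain ⟨v, -, hv⟩ := SetLike.exists_of_lt (lt_top_iff_ne_top.2 hne)
    set M := A ⊔ A.map u
    have huM : ∀ w ∈ M, u w ∈ M := fun w hw => by
      obtain ⟨a, ha, b, hb, rfl⟩ := Submodule.mem_sup.1 hw
      obtain ⟨c, hc, rfl⟩ := Submodule.mem_map.1 hb
      rw [map_add, hu]
      exact M.add_mem (Submodule.mem_sup_right (Submodule.mem_map_of_mem ha))
        (Submodule.mem_sup_left (A.smul_mem s hc))
    refine hmax (A ⊔ Submodule.span F {v}) ?_ (lt_of_le_of_ne le_sup_left fun e => hv ?_)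
    · rw [Set.mem_setOf_eq, Submodule.disjoint_def]
      intro w hw hw'
      obtain ⟨a, ha, b, hb, rfl⟩ := Submodule.mem_sup.1 hw
      obtain ⟨c, rfl⟩ := Submodule.mem_span_singleton.1 hb
      obtain ⟨w', hw'', e⟩ := Submodule.mem_map.1 hw'
      obtain ⟨a', ha', b', hb', rfl⟩ := Submodule.mem_sup.1 hw''
      obtain ⟨c', rfl⟩ := Submodule.mem_span_singleton.1 hb'
      rw [map_add, map_smul] at e
      have h1 : c • v - c' • u v ∈ M := by
        rw [show c • v - c' • u v = u a' - a by linear_combination (norm := module) -e]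
        exact M.sub_mem (Submodule.mem_sup_right (Submodule.mem_map_of_mem ha')) (Submodule.mem_sup_left ha)
      have h3 : (c * c - s * (c' * c')) • v ∈ M := by
        have h2 := M.add_mem (M.smul_mem c h1) (M.smul_mem c' (huM _ h1))
        rw [map_sub, map_smul, map_smul, hu] at h2
        convert h2 using 1
        module
      have hc0 : c * c - s * (c' * c') = 0 := by
        by_contra h0
        exact hv ((Submodule.smul_mem_iff _ h0).1 h3)
      by_cases hc' : c' = 0
      · subst hc'
        obtain rfl : c = 0 := mul_self_eq_zero.1 (by linear_combination hc0)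
        simp only [zero_smul, add_zero] at e ⊢
        exact Submodule.disjoint_def.1 hA a ha ⟨a', ha', e⟩
      · exact absurd ⟨c / c', by field_simp; linear_combination -hc0⟩ hs
    · exact Submodule.mem_sup_left (e ▸ Submodule.mem_sup_right (Submodule.mem_span_singleton_self v))
  have hc : IsCompl A (A.map u) := ⟨hA, codisjoint_iff.2 hM⟩
  set P := A.projection (A.map u) hc
  refine ⟨P, LinearMap.ext fun v => Submodule.projection_apply_left hc ⟨_, Submodule.projection_apply_mem hc v⟩,
    LinearMap.ext fun v => ?_⟩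
  obtain ⟨a, ha, b, hb, rfl⟩ := Submodule.mem_sup.1 (show v ∈ A ⊔ A.map u from hM ▸ Submodule.mem_top)
  obtain ⟨c, hc', rfl⟩ := Submodule.mem_map.1 hb
  have h1 : ∀ w ∈ A, P w = w := fun w hw => Submodule.projection_apply_left hc ⟨w, hw⟩
  have h2 : ∀ w ∈ A.map u, P w = 0 := fun w hw => Submodule.projection_apply_right hc ⟨w, hw⟩
  simp [map_add, hu, map_smul, h1 _ ha, h2 _ (Submodule.mem_map_of_mem hc'), h2 _ (Submodule.mem_map_of_mem ha),
    h1 _ hc']

/-- The difference of dimensions of a pure product of involutions. -/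
theorem dd_pmap (h2 : (2 : F) ≠ 0) {X : Fin t → Module.End F (Ud F k)} (h : ∀ l, X l * X l = 1) :
    dd (pmap X) = ∏ l, dd (X l) := by
  classical
  choose B ε hε hB using fun l => exists_sign_basis h2 (h l)
  obtain ⟨b, hb⟩ := exists_pbasis B
  have hXX : pmap X * pmap X = 1 := by rw [pmap_mul, show X * X = 1 from funext h, pmap_one]
  rw [dd_monomial h2 b (σ := id) (ε := fun c => ∏ l, ε l (c l))
    (fun c => by
      refine Finset.prod_induction (p := fun x : ℤ => x = 1 ∨ x = -1) _ ?_ (Or.inl rfl) fun l _ => hε l (c l)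
      rintro x y (rfl | rfl) (rfl | rfl) <;> simp)
    (fun _ => rfl) hXX fun c => by
      rw [id, hb, pmap_pvec]
      simp only [hB, pvec_smul_all]
      push_cast
      rfl]
  have e : ∀ l, dd (X l) = ∑ j, ε l j := fun l => by
    rw [dd_monomial h2 (B l) (σ := id) (hε l) (fun _ => rfl) (h l) (hB l)]
    simp
  simp only [e, Fintype.prod_sum, id, Finset.filter_true]

/-- The difference of dimensions is congruent to the dimension. -/
theorem dd_even {V : Type*} [AddCommGroup V] [Module F V] [FiniteDimensional F V] (h2 : (2 : F) ≠ 0)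
    {L : Module.End F V} (hL : L * L = 1) (hV : Even (finrank F V)) :
    Even (dd L).natAbs ∧ (dd L).natAbs ≤ finrank F V := by
  have h := fixS_add h2 hL
  obtain ⟨n, hn⟩ := hV
  refine ⟨?_, by simp only [dd]; omega⟩
  rw [Int.natAbs_even, dd]
  exact ⟨(finrank F (fixS L) : ℤ) - n, by omega⟩

theorem dd_scalar {V : Type*} [AddCommGroup V] [Module F V] [FiniteDimensional F V] (h2 : (2 : F) ≠ 0) {c : F}
    (hc : c * c = 1) : (dd (c • (1 : Module.End F V))).natAbs = finrank F V := by
  have hfix : ∀ M : Module.End F V, M = 1 → fixS M = ⊤ := fun M hM => by simp [hM, fixS]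
  have hfix' : ∀ M : Module.End F V, M = -1 → fixS M = ⊥ := fun M hM => eq_bot_iff.2 fun v hv => by
    rw [mem_fixS, hM, LinearMap.neg_apply, Module.End.one_apply, neg_eq_iff_add_eq_zero, ← two_smul F] at hv
    exact (smul_eq_zero.1 hv).resolve_left h2
  rcases mul_self_eq_one_iff.1 hc with rfl | rfl
  · rw [dd, hfix _ (one_smul _ _), hfix' _ (by rw [one_smul]), finrank_top, finrank_bot]
    simp
  · rw [dd, hfix' _ (neg_one_smul _ _), hfix (-((-1 : F) • (1 : Module.End F V))) (by rw [neg_one_smul, neg_neg]),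
      finrank_top, finrank_bot]
    simp

theorem pperm_apply (π : Equiv.Perm (Fin t)) (w : Vt F k t) (c : Fin t → Fin k) :
    pperm π w c = w (c ∘ π) := by
  classical
  rw [pperm, Matrix.toLin'_apply, Matrix.mulVec, dotProduct, Finset.sum_eq_single (c ∘ π)]
  · simp [SpinTensor.perm]
  · intro b _ hb
    simp [SpinTensor.perm, hb]
  · simp

theorem pmap_apply (X : Fin t → Module.End F (Ud F k)) (w : Vt F k t) (c : Fin t → Fin k) :
    pmap X w c = ∑ c', (∏ l, LinearMap.toMatrix' (X l) (c l) (c' l)) * w c' := by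
  rw [pmap, Matrix.toLin'_apply, Matrix.mulVec, dotProduct]
  rfl

/-! ### Maps of standard shape -/

/-- A linear map acting by factor maps and a permutation. -/
def Acts (L : Module.End F (Vt F k t)) (π : Equiv.Perm (Fin t)) (gs : Fin t → Ud F k ≃ₗ[F] Ud F k) : Prop :=
  ∀ ξ, L (pvec ξ) = pvec fun l => gs l (ξ (π⁻¹ l))

theorem Acts.neg {L : Module.End F (Vt F k (t + 1))} {π : Equiv.Perm (Fin (t + 1))}
    {gs : Fin (t + 1) → Ud F k ≃ₗ[F] Ud F k} (h : Acts L π gs) :
    Acts (-L) π (Function.update gs 0 ((gs 0).trans (LinearEquiv.neg F))) := fun ξ => by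
  have h1 := pvec_update_smul (fun l => gs l (ξ (π⁻¹ l))) (0 : Fin (t + 1)) (-1) (gs 0 (ξ (π⁻¹ 0)))
  rw [show Function.update (fun l => gs l (ξ (π⁻¹ l))) 0 (gs 0 (ξ (π⁻¹ 0))) = fun l => gs l (ξ (π⁻¹ l)) from
    Function.update_eq_self (0 : Fin (t + 1)) fun l => gs l (ξ (π⁻¹ l))] at h1
  rw [LinearMap.neg_apply, h, ← neg_one_smul F (pvec fun l => gs l (ξ (π⁻¹ l))), ← h1]
  congr 1
  funext l
  by_cases hl : l = 0
  · subst hl; simp
  · simp [Function.update_of_ne hl]

/-- An involution of standard shape permutes by an involution and its factors square to scalars. -/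
theorem Acts.sq (hk : 2 ≤ k) {L : Module.End F (Vt F k t)} {π : Equiv.Perm (Fin t)}
    {gs : Fin t → Ud F k ≃ₗ[F] Ud F k} (h : Acts L π gs) (hL : L * L = 1) :
    (∀ l, π⁻¹ (π⁻¹ l) = l) ∧ ∃ s : Fin t → F, (∏ l, s l = 1) ∧ ∀ l u, gs l (gs (π⁻¹ l) u) = s l • u := by
  classical
  have e : ∀ ξ, pvec (fun l => gs l (gs (π⁻¹ l) (ξ (π⁻¹ (π⁻¹ l))))) = pvec ξ := fun ξ => by
    rw [← h fun l => gs l (ξ (π⁻¹ l)), ← h ξ, ← Module.End.mul_apply, hL, Module.End.one_apply]
  set z : Ud F k := Pi.single ⟨0, by omega⟩ 1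
  have hz : z ≠ 0 := fun h0 => one_ne_zero (α := F) (by simpa [z] using congrFun h0 ⟨0, by omega⟩)
  have hne : ∀ l (ξ : Fin t → Ud F k) m, ξ m ≠ 0 → gs l (gs (π⁻¹ l) (ξ m)) ≠ 0 := fun l ξ m hm => by simp [hm]
  have key : ∀ (ξ : Fin t → Ud F k), (∀ l, ξ l ≠ 0) → ∀ l, ∃ c : F, c ≠ 0 ∧
      gs l (gs (π⁻¹ l) (ξ (π⁻¹ (π⁻¹ l)))) = c • ξ l := fun ξ hξ l => by
    obtain ⟨c, hc⟩ := pvec_prop hξ (e ξ) l
    exact ⟨c, fun h0 => hne l ξ _ (hξ _) (by rw [hc, h0, zero_smul]), hc⟩
  have hππ : ∀ l, π⁻¹ (π⁻¹ l) = l := by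
    intro l
    by_contra hl
    obtain ⟨w, hw0, hw⟩ := exists_not_prop hk z
    obtain ⟨c, hc0, hc⟩ := key (fun _ => z) (fun _ => hz) l
    obtain ⟨c', hc0', hc'⟩ := key (Function.update (fun _ => z) l w) (fun m => by
      by_cases hm : m = l
      · subst hm; simpa
      · simpa [Function.update_of_ne hm]) l
    rw [Function.update_of_ne hl, Function.update_self, hc] at hc'
    exact hw (c'⁻¹ * c) (by rw [mul_smul, hc', inv_smul_smul₀ hc0'])
  have hsc : ∀ l, ∃ c : F, ((gs l : Ud F k →ₗ[F] Ud F k) * (gs (π⁻¹ l) : Ud F k →ₗ[F] Ud F k)) = c • 1 := fun l =>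
    scalar_of_eigen fun u hu => by
      obtain ⟨c, -, hc⟩ := key (Function.update (fun _ => z) l u) (fun m => by
        by_cases hm : m = l
        · subst hm; simpa
        · simpa [Function.update_of_ne hm]) l
      rw [hππ, Function.update_self] at hc
      exact ⟨c, hc⟩
  choose s hs using hsc
  have hs' : ∀ l u, gs l (gs (π⁻¹ l) u) = s l • u := fun l u => LinearMap.congr_fun (hs l) u
  refine ⟨hππ, s, ?_, hs'⟩
  have h1 := e fun _ => z
  simp only [hs', pvec_smul_all] at h1
  exact smul_left_injective F (pvec_ne_zero fun _ => hz) (show (∏ l, s l) • pvec (fun _ => z) = (1 : F) • pvec _ by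
    rw [h1, one_smul])

/-- The diagonal of two coordinates. -/
theorem card_diag {a b : Fin (t + 1)} (hab : a ≠ b) :
    (Finset.univ.filter fun c : Fin (t + 1) → Fin k => c a = c b).card = k ^ t := by
  classical
  obtain ⟨j, hj⟩ := Fin.exists_succAbove_eq hab
  rw [show k ^ t = (Finset.univ : Finset (Fin t → Fin k)).card by simp]
  refine Finset.card_bij' (fun c _ => fun l => c (b.succAbove l)) (fun c _ => b.insertNth (c j) c) ?_ ?_ ?_ ?_
  · simp
  · intro c _
    simp [← hj]
  · intro c hc
    rw [Finset.mem_filter] at hc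
    funext l
    rcases Fin.eq_self_or_eq_succAbove b l with rfl | ⟨m, rfl⟩
    · simp [hj, hc.2]
    · simp
  · intro c _
    funext l
    simp

/-- The fixed vectors of an involution moving two factors. -/
theorem Acts.fix_le (hk : 2 ≤ k) {L : Module.End F (Vt F k (t + 1))} {π : Equiv.Perm (Fin (t + 1))}
    {gs : Fin (t + 1) → Ud F k ≃ₗ[F] Ud F k} (h : Acts L π gs) (hL : L * L = 1) (hπ : π ≠ 1) :
    2 * finrank F (fixS L) ≤ k ^ (t + 1) + k ^ t := by
  classical
  obtain ⟨hππ, s, -, hs⟩ := h.sq hk hL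
  obtain ⟨b, hb⟩ : ∃ b, π⁻¹ b ≠ b := by
    by_contra! hc
    exact hπ (inv_eq_one.1 (Equiv.ext hc))
  set a := π⁻¹ b with ha
  have hab : a ≠ b := hb
  have hπa : π⁻¹ a = b := hππ b
  have hπb : π⁻¹ b = a := rfl
  have hπab : π a = b := by rw [ha]; simp
  have hπba : π b = a := by rw [← hπa]; simp
  set Cs : Fin (t + 1) → Ud F k ≃ₗ[F] Ud F k := Function.update (fun _ => LinearEquiv.refl F _) b (gs b).symm
  set C := pmap fun l => (Cs l : Ud F k →ₗ[F] Ud F k)
  set Ms : Fin (t + 1) → Module.End F (Ud F k) :=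
    Function.update (Function.update (fun l => (gs l : Ud F k →ₗ[F] Ud F k)) b 1) a (s a • 1)
  have hCinj : Function.Injective C := by
    refine Function.LeftInverse.injective (g := pmap fun l => ((Cs l).symm : Ud F k →ₗ[F] Ud F k)) fun v => ?_
    rw [← Module.End.mul_apply, pmap_mul, show (fun l => ((Cs l).symm : Ud F k →ₗ[F] Ud F k)) *
      (fun l => (Cs l : Ud F k →ₗ[F] Ud F k)) = 1 from funext fun l => LinearMap.ext fun x => (Cs l).symm_apply_apply x,
      pmap_one, Module.End.one_apply]
  have hCL : ∀ v, C (L v) = pmap Ms (pperm π (C v)) := fun v =>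
    LinearMap.congr_fun (pvec_ext (L := C ∘ₗ L) (L' := pmap Ms ∘ₗ pperm π ∘ₗ C) fun ξ => by
      simp only [LinearMap.comp_apply, h ξ, C, pmap_pvec, pperm_pvec]
      congr 1
      funext l
      by_cases hla : l = a
      · subst hla
        rw [hπa]
        simp only [Ms, Cs, Function.update_self, Function.update_of_ne hab, LinearEquiv.coe_coe,
          LinearEquiv.refl_apply, LinearMap.smul_apply, Module.End.one_apply]
        rw [← hs a, hπa, LinearEquiv.apply_symm_apply]
      by_cases hlb : l = b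
      · subst hlb
        simp only [Ms, Cs, Function.update_of_ne hab.symm, Function.update_self, hπb, Function.update_of_ne hab,
          LinearEquiv.coe_coe, LinearEquiv.refl_apply, Module.End.one_apply, LinearEquiv.symm_apply_apply]
      · have hne : π⁻¹ l ≠ b := fun e => hla (by rw [← hππ l, e])
        simp only [Ms, Cs, Function.update_of_ne hla, Function.update_of_ne hlb, Function.update_of_ne hne,
          LinearEquiv.coe_coe, LinearEquiv.refl_apply]) v
  set T := Finset.univ.filter fun c : Fin (t + 1) → Fin k => c a ≤ c b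
  let Φ : fixS L →ₗ[F] (T → F) := (LinearMap.funLeft F F fun c : T => (c : Fin (t + 1) → Fin k)) ∘ₗ C ∘ₗ (fixS L).subtype
  have hΦ : Function.Injective Φ := (injective_iff_map_eq_zero Φ).2 fun ⟨v, hv⟩ h0 => by
    have hz : ∀ c : Fin (t + 1) → Fin k, c a ≤ c b → C v c = 0 := fun c hc =>
      congrFun h0 ⟨c, by simp [T, hc]⟩
    refine Subtype.ext (hCinj ?_)
    show C v = C 0
    rw [map_zero]
    funext c
    by_cases hc : c a ≤ c b
    · exact hz c hc
    rw [← mem_fixS.1 hv, hCL, pmap_apply, Pi.zero_apply]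
    refine Finset.sum_eq_zero fun c' _ => ?_
    rw [pperm_apply]
    by_cases hca : c' a = c a
    · by_cases hcb : c' b = c b
      · refine mul_eq_zero_of_right _ (hz _ ?_)
        simp only [Function.comp_apply, hπab, hπba, hca, hcb]
        exact le_of_lt (not_le.1 hc)
      · refine mul_eq_zero_of_left (Finset.prod_eq_zero (Finset.mem_univ b) ?_) _
        simp [Ms, Function.update_of_ne hab.symm, LinearMap.toMatrix'_one, Matrix.one_apply, Ne.symm hcb]
    · refine mul_eq_zero_of_left (Finset.prod_eq_zero (Finset.mem_univ a) ?_) _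
      simp [Ms, LinearMap.toMatrix'_one, Matrix.one_apply, Ne.symm hca]
  have h1 := LinearMap.finrank_le_finrank_of_injective hΦ
  rw [Module.finrank_pi, Fintype.card_coe] at h1
  have h2 : T.card + T.card = k ^ (t + 1) + k ^ t := by
    set T' := Finset.univ.filter fun c : Fin (t + 1) → Fin k => c b ≤ c a
    have e : T'.card = T.card := by
      refine Finset.card_bij' (fun c _ => c ∘ Equiv.swap a b) (fun c _ => c ∘ Equiv.swap a b) ?_ ?_ ?_ ?_ <;>
        intro c hc
      · simpa [T, T'] using hc
      · simpa [T, T'] using hc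
      · funext l; simp
      · funext l; simp
    have h3 := Finset.card_union_add_card_inter T T'
    have h4 : T ∩ T' = Finset.univ.filter fun c : Fin (t + 1) → Fin k => c a = c b := by
      ext c
      simp only [T, T', Finset.mem_inter, Finset.mem_filter, Finset.mem_univ, true_and]
      exact ⟨fun h => le_antisymm h.1 h.2, fun h => ⟨h.le, h.ge⟩⟩
    have h5 : T ∪ T' = Finset.univ := by
      ext c
      simp only [T, T', Finset.mem_union, Finset.mem_filter, Finset.mem_univ, true_and, iff_true]
      exact le_total _ _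
    rw [e, h4, h5, card_diag hab, Finset.card_univ, Fintype.card_fun, Fintype.card_fin, Fintype.card_fin] at h3
    omega
  omega

variable {f : BilinForm F (Ud F k)} (hf : SymForm f)
include hf

/-- **The factors of a standard element.** -/
theorem IsStd.acts (hk : 1 ≤ k) {x : OQ (qT f (t + 1))} (hx : IsStd x) :
    ∃ (π : Equiv.Perm (Fin (t + 1))) (gs : Fin (t + 1) → Ud F k ≃ₗ[F] Ud F k) (m : Fin (t + 1) → F),
      Acts (lm x) π gs ∧ (∀ l, m l ≠ 0) ∧ ∏ l, m l = 1 ∧ ∀ l a b, f (gs l a) (gs l b) = m l * f a b := by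
  obtain ⟨π, gs, m, e, hm0, hprod, hsim⟩ := hx.sim hf hk
  have hinj : ∀ l, Function.Injective (gs l) := fun l u v h => sub_eq_zero.1 (hf.nd.1 _ fun y => by
    have h1 := hsim l (u - v) y
    rw [map_sub (gs l), h, sub_self, map_zero, LinearMap.zero_apply, zero_eq_mul] at h1
    exact h1.resolve_left (hm0 l))
  exact ⟨π, fun l => LinearEquiv.ofInjectiveEndo (gs l) (hinj l), m, e, hm0, hprod, hsim⟩

/-- **Standard involutions.** -/
theorem IsStd.invol (hk : 2 ≤ k) {x : OQ (qT f (t + 1))} (hx : IsStd x) (hxx : x * x = 1) :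
    (dd (lm x)).natAbs ≤ k ^ t ∨ ∃ gs : Fin (t + 1) → Module.End F (Ud F k),
      (∀ l, gs l * gs l = 1) ∧ lm x = pmap gs := by
  classical
  obtain ⟨π, gs, m, e, -, -, -⟩ := hx.acts hf (by omega)
  have hL : lm x * lm x = 1 := by rw [← lm_mul, hxx, lm_one]
  by_cases hπ : π = 1
  swap
  · left
    have h1 := e.fix_le hk hL hπ
    have h2 := e.neg.fix_le hk ((neg_mul_neg (lm x) (lm x)).trans hL) hπ
    have h3 := fixS_add hf.two hL
    rw [finrank_Vt] at h3
    simp only [dd]
    omega
  subst hπ
  obtain ⟨-, s, hs1, hs⟩ := e.sq hk hL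
  simp only [inv_one, Equiv.Perm.one_apply] at hs
  have hx' : lm x = pmap fun l => (gs l : Ud F k →ₗ[F] Ud F k) := pvec_ext fun ξ => by
    rw [e, pmap_pvec, inv_one]
    rfl
  by_cases hsq : ∀ l, IsSquare (s l)
  · right
    choose r hr using hsq
    have hr0 : ∀ l, r l ≠ 0 := fun l h0 => one_ne_zero (α := F)
      (by rw [← hs1, Finset.prod_eq_zero (Finset.mem_univ l) (by rw [hr l, h0, mul_zero])])
    set R := ∏ l, r l
    have hR : R * R = 1 := by
      rw [← hs1, ← Finset.prod_mul_distrib]
      exact Finset.prod_congr rfl fun l _ => (hr l).symm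
    refine ⟨fun l => ((Function.update (fun _ => (1 : F)) 0 R l) * (r l)⁻¹) • (gs l : Ud F k →ₗ[F] Ud F k),
      fun l => LinearMap.ext fun u => ?_, ?_⟩
    · simp only [Module.End.mul_apply, LinearMap.smul_apply, map_smul, LinearEquiv.coe_coe, hs, smul_smul,
        Module.End.one_apply, hr l]
      have hεε : Function.update (fun _ => (1 : F)) 0 R l * Function.update (fun _ => (1 : F)) 0 R l = 1 := by
        by_cases hl : l = 0
        · subst hl; simp [hR]
        · simp [Function.update_of_ne hl]
      conv_rhs => rw [← one_smul F u]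
      congr 1
      have := hr0 l
      field_simp
      linear_combination hεε
    · rw [hx', pmap_smul_all, Finset.prod_mul_distrib, Finset.prod_inv_distrib, Finset.prod_update_of_mem
        (Finset.mem_univ (0 : Fin (t + 1))), Finset.prod_const_one, mul_one, mul_inv_cancel₀
        (Finset.prod_ne_zero_iff.2 fun l _ => hr0 l), one_smul]
  · left
    push Not at hsq
    obtain ⟨l, hl⟩ := hsq
    obtain ⟨P, hPP, hP⟩ := exists_half (u := (gs l : Ud F k →ₗ[F] Ud F k)) (s := s l) (hs l) hl
    have h0 : dd (lm x) = 0 := by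
      refine dd_eq_zero_of_proj hf.two (P := emb l P) (by rw [← map_mul, hPP]) ?_ hL
      rw [hx', emb_eq, ← map_one (emb (F := F) (k := k) l), ← emb_eq, ← map_sub, emb_eq, emb_eq, pmap_mul, pmap_mul]
      congr 1
      funext j
      by_cases hj : j = l
      · subst hj; simp [hP]
      · simp [Function.update_of_ne hj]
    simp [h0]

end CfsgLib.Geo.OrthWreath
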