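/-
Linear maps carrying the Siegel elements of the factors to elements of single factors have standard shape.
-/
import Cfsg.Agent.Lib.Geo.OrthWreath.Even.Normal
import Cfsg.Agent.Lib.Geo.OrthWreath.Rad

set_option autoImplicit false
set_option linter.unusedSectionVars false

namespace CfsgLib.Geo.OrthWreath

open CfsgLib.Classical CfsgLib.Classical.Quad Module
open CfsgLib.Geo.MixTensor (SymForm)
open CfsgLib.Geo.OrthTensor (sv sv_apply exists_iso_partner)
open CfsgLib.Geo.TensorWreath (pvec)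
open LinearMap (BilinForm)

variable {F : Type*} [Field F] {k t : ℕ} {f : BilinForm F (Ud F k)} (hf : SymForm f)
include hf

/-- Conjugation of a factor element by a map of standard shape with similitude factors. -/
theorem conj_slot_sim {x : OQ (qT f t)} {π : Equiv.Perm (Fin t)} {gs : Fin t → Ud F k ≃ₗ[F] Ud F k}
    (e : Acts (lm x) π gs) {m : Fin t → F} (hm : ∀ l, m l ≠ 0) (hs : ∀ l a b, f (gs l a) (gs l b) = m l * f a b)
    (l : Fin t) (u : OQ (qU f)) :
    ∃ v : OQ (qU f), (∀ a, (v : Ud F k ≃ₗ[F] Ud F k) (gs (π l) a) = gs (π l) ((u : Ud F k ≃ₗ[F] Ud F k) a)) ∧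
      x * slot hf l u * x⁻¹ = slot hf (π l) v := by
  classical
  set A : Module.End F (Ud F k) :=
    (gs (π l) : Ud F k →ₗ[F] Ud F k) * lm u * ((gs (π l)).symm : Ud F k →ₗ[F] Ud F k)
  have hA : ∀ a b, f (A a) (A b) = f a b := fun a b => by
    obtain ⟨a', rfl⟩ := (gs (π l)).surjective a
    obtain ⟨b', rfl⟩ := (gs (π l)).surjective b
    simp only [A, Module.End.mul_apply, LinearEquiv.coe_coe, LinearEquiv.symm_apply_apply, hs]
    exact congrArg (m (π l) * ·) (map_f hf u a' b')
  have hv : ∀ a, (mkU hf hA : Ud F k ≃ₗ[F] Ud F k) (gs (π l) a) = gs (π l) ((u : Ud F k ≃ₗ[F] Ud F k) a) :=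
    fun a => by
      rw [mkU_apply]
      simp [A, lm]
  refine ⟨mkU hf hA, hv, ?_⟩
  rw [mul_inv_eq_iff_eq_mul]
  refine el_ext fun ξ => ?_
  have e' : ∀ ξ, (x : Vt F k t ≃ₗ[F] Vt F k t) (pvec ξ) = pvec fun l => gs l (ξ (π⁻¹ l)) := e
  simp only [Subgroup.coe_mul, LinearEquiv.mul_apply, slot_pvec, e']
  congr 1
  funext j
  by_cases hj : j = π l
  · subst hj
    rw [Function.update_self, hv]
    simp
  · rw [Function.update_of_ne hj, Function.update_of_ne]
    intro h
    exact hj (by rw [← h]; simp)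

/-- Two Siegel elements of non-orthogonal vectors do not commute. -/
theorem sU_noncomm {d z e z' : Ud F k} (hd : f d d = 0) (hdz : f d z = 0) (hz : f z z ≠ 0) (he : f e e = 0)
    (hez : f e z' = 0) (hz' : f z' z' ≠ 0) (hde : f d e ≠ 0) :
    ¬ Commute (sU hf hd hdz) (sU hf he hez) := by
  intro h
  set σ := sU hf hd hdz
  set τ := sU hf he hez
  set x := (σ : Ud F k ≃ₗ[F] Ud F k) e
  have hx : (τ : Ud F k ≃ₗ[F] Ud F k) x = x := by
    have h1 := congrArg (fun g : OQ (qU f) => (g : Ud F k ≃ₗ[F] Ud F k) e) h.eq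
    simp only [Subgroup.coe_mul, LinearEquiv.mul_apply] at h1
    rw [show (τ : Ud F k ≃ₗ[F] Ud F k) e = e from sU_self hf he hez] at h1
    exact h1.symm
  have h2 := congrArg (f z') hx
  simp only [τ, sU_apply, map_add, map_sub, map_smul, smul_eq_mul, hf.symm e z', hez, mul_zero, sub_zero] at h2
  have h3 : f e x = 0 := (mul_eq_zero.1 (show f e x * f z' z' = 0 by linear_combination h2)).resolve_right hz'
  simp only [x, σ, sU_apply, map_add, map_sub, map_smul, smul_eq_mul, he, hf.symm e z, hf.symm d e, zero_add] at h3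
  have h4 : f z z / 2 * f d e * f d e = 0 := by linear_combination -h3
  exact mul_ne_zero (mul_ne_zero (div_ne_zero hz hf.two) hde) hde h4

variable [Finite F]

/-- Commutation with all the Siegel elements from those of anisotropic vectors. -/
theorem comm_sU_of_aniso (hk : 3 ≤ k) {G : Type*} [Group G] (φ : OQ (qU f) →* G) {P : G → Prop}
    (one : P 1) (mul : ∀ a b, P a → P b → P (a * b))
    (h : ∀ (d z : Ud F k) (hd : f d d = 0) (hz : f d z = 0), d ≠ 0 → f z z ≠ 0 → P (φ (sU hf hd hz)))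
    {d z : Ud F k} (hd : f d d = 0) (hz : f d z = 0) : P (φ (sU hf hd hz)) := by
  by_cases hd0 : d = 0
  · subst hd0
    rw [show sU hf hd hz = 1 from qU_ext hf fun a => by simp [sU_apply], map_one]
    exact one
  by_cases hzz : f z z = 0
  swap
  · exact h d z hd hz hd0 hzz
  obtain ⟨e, he, hde⟩ := exists_iso_partner hf hd hd0
  obtain ⟨z₀, hdz₀, -, hz₀⟩ := Fr.exists_z hf ⟨d, e, hd, he, hde⟩ hk
  have hdz₀' : f d z₀ = 0 := hdz₀
  obtain ⟨w, hw, hw'⟩ : ∃ w, f d w = 0 ∧ f w w ≠ 0 ∧ f (z - w) (z - w) ≠ 0 := by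
    by_cases h1 : f (z - z₀) (z - z₀) = 0
    · refine ⟨-z₀, by simp [hdz₀'], by simpa using hz₀, fun h2 => ?_⟩
      simp only [map_sub, map_neg, LinearMap.sub_apply, LinearMap.neg_apply, sub_neg_eq_add, map_add,
        LinearMap.add_apply, hzz] at h1 h2
      exact mul_ne_zero hf.two hz₀ (by linear_combination h1 + h2)
    · exact ⟨z₀, hdz₀', hz₀, h1⟩
  have e1 : sU hf hd hz = sU hf hd hw * sU hf hd (z := z - w) (by rw [map_sub, hz, hw, sub_zero]) := by
    rw [sU_add]
    exact qU_ext hf fun a => by simp [sU_apply]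
  rw [e1, map_mul]
  exact mul _ _ (h d w hd hw hd0 hw'.1) (h d (z - w) hd _ hd0 hw'.2)

/-- A map of one factor commuting with the Siegel elements is a scalar. -/
theorem scalar_of_comm_one (hk : 3 ≤ k) {M : Module.End F (Ud F k)}
    (h : ∀ (d z : Ud F k) (hd : f d d = 0) (hz : f d z = 0), d ≠ 0 → f z z ≠ 0 →
      lm (sU hf hd hz) * M = M * lm (sU hf hd hz)) : ∃ c : F, M = c • 1 := by
  have hall : ∀ (d z : Ud F k) (hd : f d d = 0) (hz : f d z = 0), lm (sU hf hd hz) * M = M * lm (sU hf hd hz) :=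
    fun d z hd hz => comm_sU_of_aniso hf hk (MonoidHom.id _) (P := fun g => lm g * M = M * lm g)
      (by simp [lm_one]) (fun a b ha hb => by rw [lm_mul, mul_assoc, hb, ← mul_assoc, ha, mul_assoc]) h hd hz
  obtain ⟨c, hc⟩ : ∃ c : F, M = c • LinearMap.id := by
    refine OrthTensor.scalar_of_isotropic hf (by rwa [finrank_fin_fun]) fun d hd => ?_
    by_cases hd0 : d = 0
    · exact ⟨0, by simp [hd0]⟩
    obtain ⟨e, he, hde⟩ := exists_iso_partner hf hd hd0
    let P : Fr f := ⟨d, e, hd, he, hde⟩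
    obtain ⟨ζ, hζd, -, hMeq, -⟩ := commutant hf hk P (M := M) fun z h1 h2 v => by
      have := LinearMap.congr_fun (hall d z hd h1) v
      simpa [lm, sU, mkU_apply, P] using this
    refine ⟨f e (M d), ?_⟩
    conv_lhs => rw [hMeq]
    simp [P, pd_apply, nf_apply, hd, hf.symm d ζ, show f d ζ = 0 from hζd]
  exact ⟨c, hc⟩

/-- **A map commuting with the Siegel elements of the other factors is a map of one factor.** -/
theorem exists_emb_of_comm (hk : 3 ≤ k) {l : Fin (t + 1)} {A : Module.End F (Vt F k (t + 1))}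
    (h : ∀ j, j ≠ l → ∀ (d z : Ud F k) (hd : f d d = 0) (hz : f d z = 0), d ≠ 0 → f z z ≠ 0 →
      lm (slot hf j (sU hf hd hz)) * A = A * lm (slot hf j (sU hf hd hz))) :
    ∃ M, A = emb l M := by
  set D := tensor hf l
  have hall : ∀ (j : Fin t) (d z : Ud F k) (hd : f d d = 0) (hz : f d z = 0),
      lm (slot hf (l.succAbove j) (sU hf hd hz)) * A = A * lm (slot hf (l.succAbove j) (sU hf hd hz)) :=
    fun j d z hd hz => comm_sU_of_aniso hf hk (slot hf (l.succAbove j)) (P := fun g => lm g * A = A * lm g)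
      (by simp [lm_one]) (fun a b ha hb => by rw [lm_mul, mul_assoc, hb, ← mul_assoc, ha, mul_assoc])
      (fun d z hd hz h1 h2 => h _ (Fin.succAbove_ne l j) d z hd hz h1 h2) hd hz
  have hsc : ∀ a b, ∃ μ : F, D.flip.C b ∘ₗ A ∘ₗ Tm l a = μ • 1 := fun a b => by
    refine scalar_of_comm_sv hf hk _ fun j d z hd hz => cj_of_comm (LinearMap.ext fun w => ?_)
    set σ := sU hf hd hz
    have hC : ∀ v, D.flip.C b ((slot hf (l.succAbove j) σ : Vt F k (t + 1) ≃ₗ[F] Vt F k (t + 1)) v) =
        (slot hf j σ : Vt F k t ≃ₗ[F] Vt F k t) (D.flip.C b v) := fun v =>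
      LinearMap.congr_fun (D.hom_ext (L := D.flip.C b ∘ₗ lm (slot hf (l.succAbove j) σ))
        (L' := lm (slot hf j σ) ∘ₗ D.flip.C b) fun p q => by
          simp [lm, slot_Tm_succAbove, show ∀ u w, D.flip.C b (Tm l u w) = f b u • w from
            fun u w => D.flip.C_T b w u]) v
    have h1 := LinearMap.congr_fun (hall j d z hd hz) (Tm l a w)
    simp only [Module.End.mul_apply, lm, LinearEquiv.coe_coe, slot_Tm_succAbove] at h1
    simp only [Module.End.mul_apply, LinearMap.comp_apply, lm, LinearEquiv.coe_coe, ← hC]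
    exact congrArg _ h1
  haveI : Nontrivial (Vt F k t) := Module.nontrivial_of_finrank_pos (R := F)
    (by rw [finrank_Vt]; exact Nat.pow_pos (by omega))
  obtain ⟨w₀, hw₀⟩ := (symForm_frm hf (t := t)).exists_aniso
  refine ⟨(frm f t w₀ w₀)⁻¹ • (D.C w₀ ∘ₗ A ∘ₗ (Tm l).flip w₀), Tm_ext l fun a w => D.V_ext fun r => D.fext fun b => ?_⟩
  obtain ⟨μ, hμ⟩ := hsc a b
  have e : ∀ r w, f b (D.C r (A (Tm l a w))) = μ * frm f t r w := fun r w => by
    rw [D.f_C]
    calc _ = frm f t r (D.flip.C b (A (Tm l a w))) := (D.flip.f_C _ _ _).symm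
      _ = _ := by
        rw [show D.flip.C b (A (Tm l a w)) = μ • w from LinearMap.congr_fun hμ w, map_smul, smul_eq_mul]
  rw [e, emb_Tm_self, D.C_T, map_smul, LinearMap.smul_apply, LinearMap.comp_apply, LinearMap.comp_apply,
    LinearMap.flip_apply, map_smul, e, smul_eq_mul, smul_eq_mul]
  field_simp

/-- A map sending the Siegel elements of the factors to elements of single factors. -/
def SlotMap (hf : SymForm f) (B : Vt F k t ≃ₗ[F] Vt F k t) : Prop :=
  ∀ (l : Fin t) (d z : Ud F k), d ≠ 0 → ∀ (hd : f d d = 0) (hz : f d z = 0), f z z ≠ 0 →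
    ∃ (l' : Fin t) (u : OQ (qU f)), ∀ v, B ((slot hf l (sU hf hd hz) : Vt F k t ≃ₗ[F] Vt F k t) v) =
      (slot hf l' u : Vt F k t ≃ₗ[F] Vt F k t) (B v)

/-- The images of all Siegel elements of one factor lie in one factor. -/
theorem SlotMap.exists_target (hk : 3 ≤ k) {B : Vt F k t ≃ₗ[F] Vt F k t} (h : SlotMap hf B) (l : Fin t) :
    ∃ l' : Fin t, ∀ (d z : Ud F k), d ≠ 0 → ∀ (hd : f d d = 0) (hz : f d z = 0), f z z ≠ 0 →
      ∃ u : OQ (qU f), ∀ v, B ((slot hf l (sU hf hd hz) : Vt F k t ≃ₗ[F] Vt F k t) v) =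
        (slot hf l' u : Vt F k t ≃ₗ[F] Vt F k t) (B v) := by
  choose L U hLU using h l
  have same : ∀ d z hd0 hd hz hzz d' z' hd0' hd' hz' hzz', f d d' ≠ 0 →
      L d z hd0 hd hz hzz = L d' z' hd0' hd' hz' hzz' := by
    intro d z hd0 hd hz hzz d' z' hd0' hd' hz' hzz' hne
    by_contra hL
    refine sU_noncomm hf hd hz hzz hd' hz' hzz' hne (slot_injective hf (by omega) l ?_)
    rw [map_mul, map_mul]
    refine Subtype.ext (LinearEquiv.ext fun v => B.injective ?_)
    simp only [Subgroup.coe_mul, LinearEquiv.mul_apply, hLU d z hd0 hd hz hzz, hLU d' z' hd0' hd' hz' hzz']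
    exact LinearEquiv.congr_fun (congrArg Subtype.val
      (slot_comm hf hL (U d z hd0 hd hz hzz) (U d' z' hd0' hd' hz' hzz')).eq) (B v)
  have exz : ∀ (d : Ud F k), d ≠ 0 → f d d = 0 → ∃ z, f d z = 0 ∧ f z z ≠ 0 := fun d hd0 hd => by
    obtain ⟨e, he, hde⟩ := exists_iso_partner hf hd hd0
    obtain ⟨z, h1, -, h3⟩ := Fr.exists_z hf ⟨d, e, hd, he, hde⟩ hk
    exact ⟨z, h1, h3⟩
  have all : ∀ d z hd0 hd hz hzz d' z' hd0' hd' hz' hzz',
      L d z hd0 hd hz hzz = L d' z' hd0' hd' hz' hzz' := by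
    intro d z hd0 hd hz hzz d' z' hd0' hd' hz' hzz'
    have via : ∀ c, f c c = 0 → f d c ≠ 0 → f c d' ≠ 0 → L d z hd0 hd hz hzz = L d' z' hd0' hd' hz' hzz' := by
      intro c hc h1 h2
      have hc0 : c ≠ 0 := fun e => h1 (by rw [e, map_zero])
      obtain ⟨w, w1, w2⟩ := exz c hc0 hc
      exact (same _ _ hd0 hd hz hzz c w hc0 hc w1 w2 h1).trans (same c w hc0 hc w1 w2 _ _ hd0' hd' hz' hzz' h2)
    obtain ⟨e, he, hde⟩ := exists_iso_partner hf hd hd0
    obtain ⟨e', he', hde'⟩ := exists_iso_partner hf hd' hd0'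
    by_cases h1 : f e d' = 0
    swap
    · exact via e he (by rw [hde]; exact one_ne_zero) h1
    by_cases h2 : f d e' = 0
    swap
    · exact via e' he' h2 (by rw [hf.symm, hde']; exact one_ne_zero)
    by_cases h3 : f e e' = 0
    · exact via (e + e') (by simp [he, he', h3, hf.symm e e']) (by simp [hde, h2]) (by
        simp [h1, hf.symm d' e', hde'])
    have he0 : e ≠ 0 := fun h0 => h3 (by rw [h0, map_zero, LinearMap.zero_apply])
    obtain ⟨w, w1, w2⟩ := exz e he0 he
    have he0' : e' ≠ 0 := fun h0 => h3 (by rw [h0, map_zero])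
    obtain ⟨w', w1', w2'⟩ := exz e' he0' he'
    exact (same _ _ hd0 hd hz hzz e w he0 he w1 w2 (by rw [hde]; exact one_ne_zero)).trans
      ((same e w he0 he w1 w2 e' w' he0' he' w1' w2' h3).trans
        (same e' w' he0' he' w1' w2' _ _ hd0' hd' hz' hzz' (by rw [hf.symm, hde']; exact one_ne_zero)))
  obtain ⟨P, -⟩ := exists_frame hf (f := f) hk
  obtain ⟨z₀, d1, -, zz⟩ := P.exists_z hf hk
  exact ⟨L P.d z₀ P.d_ne P.dd d1 zz, fun d z hd0 hd hz hzz => ⟨U d z hd0 hd hz hzz, fun v => by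
    rw [all P.d z₀ P.d_ne P.dd d1 zz d z hd0 hd hz hzz]; exact hLU d z hd0 hd hz hzz v⟩⟩

/-- **Such a map has standard shape.** -/
theorem isStd_of_maps (hk : 3 ≤ k) {B : Vt F k (t + 1) ≃ₗ[F] Vt F k (t + 1)} (h : SlotMap hf B)
    (h' : SlotMap hf B.symm) :
    ∃ (π : Equiv.Perm (Fin (t + 1))) (gs : Fin (t + 1) → Module.End F (Ud F k)),
      ∀ ξ, B (pvec ξ) = pvec fun l => gs l (ξ (π⁻¹ l)) := by
  classical
  choose lam hlam using fun l => h.exists_target hf hk l
  choose mu hmu using fun l => h'.exists_target hf hk l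
  obtain ⟨P, -⟩ := exists_frame hf (f := f) hk
  obtain ⟨z₀, d1, e1, zz⟩ := P.exists_z hf hk
  have hinv : ∀ l, lam (mu l) = l := by
    intro l
    by_contra hne
    obtain ⟨u, hu⟩ := hmu l P.d z₀ P.d_ne P.dd d1 zz
    obtain ⟨c, hc⟩ := scalar_of_comm_one hf hk (M := lm u) fun d z hd hz hd0 hzz => by
      obtain ⟨v, hv⟩ := hlam (mu l) d z hd0 hd hz hzz
      have hcomm : Commute (sU hf hd hz) u := slot_injective hf (by omega) (mu l) (by
        rw [map_mul, map_mul]
        refine Subtype.ext (LinearEquiv.ext fun x => ?_)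
        have hBu : ∀ w, B ((slot hf (mu l) u : Vt F k (t + 1) ≃ₗ[F] Vt F k (t + 1)) w) =
            (slot hf l (sU hf P.dd d1) : Vt F k (t + 1) ≃ₗ[F] Vt F k (t + 1)) (B w) := fun w =>
          B.symm.injective (by rw [LinearEquiv.symm_apply_apply, hu, LinearEquiv.symm_apply_apply])
        refine B.injective ?_
        simp only [Subgroup.coe_mul, LinearEquiv.mul_apply, hv, hBu]
        exact LinearEquiv.congr_fun (congrArg Subtype.val
          (slot_comm hf hne v (sU hf P.dd d1)).eq) (B x))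
      exact congrArg lm hcomm.eq
    refine sU_noncomm hf P.dd d1 zz P.ee e1 zz (by rw [P.de]; exact one_ne_zero)
      (slot_injective hf (by omega) l ?_)
    have hσ : ∀ x, (slot hf l (sU hf P.dd d1) : Vt F k (t + 1) ≃ₗ[F] Vt F k (t + 1)) x = c • x := fun x => by
      refine B.symm.injective ?_
      rw [hu, map_smul]
      generalize B.symm x = y
      refine LinearMap.congr_fun (Tm_ext (mu l) (L := lm (slot hf (mu l) u)) (L' := c • 1) fun a w => ?_) y
      show (slot hf (mu l) u : Vt F k (t + 1) ≃ₗ[F] Vt F k (t + 1)) (Tm (mu l) a w) = c • Tm (mu l) a w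
      rw [slot_Tm_self, show (u : Ud F k ≃ₗ[F] Ud F k) a = c • a from LinearMap.congr_fun hc a, map_smul,
        LinearMap.smul_apply]
    rw [map_mul, map_mul]
    exact Subtype.ext (LinearEquiv.ext fun x => by
      simp only [Subgroup.coe_mul, LinearEquiv.mul_apply, hσ, map_smul])
  set π : Equiv.Perm (Fin (t + 1)) := Equiv.ofBijective lam
    (Finite.surjective_iff_bijective.1 fun l => ⟨mu l, hinv l⟩)
  have hπ : ∀ l, π l = lam l := fun l => rfl
  -- the maps of the factors
  have hN : ∀ l (M : Module.End F (Ud F k)), ∃ N, ∀ v, B (emb l M v) = emb (π l) N (B v) := by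
    intro l M
    obtain ⟨N, hN⟩ := exists_emb_of_comm hf hk (l := π l)
      (A := (B : Vt F k (t + 1) →ₗ[F] Vt F k (t + 1)) * emb l M * (B.symm : Vt F k (t + 1) →ₗ[F] Vt F k (t + 1)))
      fun j hj d z hd hz hd0 hzz => by
        obtain ⟨u, hu⟩ := hmu j d z hd0 hd hz hzz
        have hne : mu j ≠ l := fun e => hj (by rw [← e, hπ, hinv])
        refine LinearMap.ext fun v => ?_
        simp only [Module.End.mul_apply, LinearEquiv.coe_coe, lm]
        refine B.symm.injective ?_
        rw [hu, LinearEquiv.symm_apply_apply, LinearEquiv.symm_apply_apply, hu]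
        have hc := LinearMap.congr_fun (emb_comm hne ((u : Ud F k ≃ₗ[F] Ud F k) : Ud F k →ₗ[F] Ud F k) M).eq (B.symm v)
        simp only [Module.End.mul_apply, ← slot_coe hf, LinearEquiv.coe_coe] at hc
        exact hc
    refine ⟨N, fun v => ?_⟩
    rw [← hN]
    simp
  choose Φ hΦ using hN
  -- the image of a base vector
  obtain ⟨z, hz⟩ := exists_aniso_vec hf (k := k) (by omega)
  have hz0 : z ≠ 0 := fun h0 => hz (by simp [h0])
  set ξ₀ : Fin (t + 1) → Ud F k := fun _ => z
  set p := B (pvec ξ₀)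
  have hp : p ≠ 0 := fun h0 => pvec_ne_zero (fun _ => hz0) (B.injective (by rw [show B (pvec ξ₀) = 0 from h0, map_zero]))
  have hS : ∀ (Y : Fin (t + 1) → Module.End F (Ud F k)) (v : Vt F k (t + 1)),
      B (pmap Y v) = pmap (fun j => Φ (π⁻¹ j) (Y (π⁻¹ j))) (B v) := by
    intro Y
    suffices H : ∀ s : Finset (Fin (t + 1)), ∀ v, B (pmap (fun l => if l ∈ s then Y l else 1) v) =
        pmap (fun j => if π⁻¹ j ∈ s then Φ (π⁻¹ j) (Y (π⁻¹ j)) else 1) (B v) by
      simpa using H Finset.univ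
    intro s
    induction s using Finset.induction with
    | empty =>
      intro v
      simp [show (fun _ : Fin (t + 1) => (1 : Module.End F (Ud F k))) = 1 from rfl, pmap_one]
    | @insert a s ha ih =>
      intro v
      have e1 : (fun l => if l ∈ insert a s then Y l else 1) =
          Function.update (1 : Fin (t + 1) → Module.End F (Ud F k)) a (Y a) * fun l => if l ∈ s then Y l else 1 := by
        funext l
        by_cases hl : l = a
        · subst hl; simp [ha]
        · simp [Function.update_of_ne hl, hl]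
      have e2 : (fun j => if π⁻¹ j ∈ insert a s then Φ (π⁻¹ j) (Y (π⁻¹ j)) else 1) =
          Function.update (1 : Fin (t + 1) → Module.End F (Ud F k)) (π a) (Φ a (Y a)) *
            fun j => if π⁻¹ j ∈ s then Φ (π⁻¹ j) (Y (π⁻¹ j)) else 1 := by
        funext j
        by_cases hj : j = π a
        · subst hj; simp [ha]
        · have : π.symm j ≠ a := fun e => hj (by rw [← e]; simp)
          simp [Function.update_of_ne hj, this]
      rw [e1, e2, ← pmap_mul, ← pmap_mul, Module.End.mul_apply, Module.End.mul_apply, ← emb_eq, ← emb_eq, hΦ, ih]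
  obtain ⟨θ, c, hc, hp'⟩ : ∃ (θ : Fin (t + 1) → Ud F k) (c : F), c ≠ 0 ∧ p = c • pvec θ := by
    set N : Fin (t + 1) → Module.End F (Ud F k) := fun j => Φ (π⁻¹ j) (lproj f z)
    set R := (∏ _l : Fin (t + 1), f z z)⁻¹ • frm f (t + 1) (pvec ξ₀)
    have hE : ∀ v, pmap (fun _ : Fin (t + 1) => lproj f z) v = R v • pvec ξ₀ := fun v =>
      LinearMap.congr_fun (pvec_ext (L' := R.smulRight (pvec ξ₀)) fun η => by
        rw [pmap_pvec, LinearMap.smulRight_apply]
        simp only [lproj_apply, R, LinearMap.smul_apply, frm_pvec, smul_eq_mul, ξ₀]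
        rw [pvec_smul_all, Finset.prod_mul_distrib, Finset.prod_inv_distrib]) v
    have hN : ∀ v, pmap N v = R (B.symm v) • p := fun v => by
      rw [← map_smul, ← hE, hS, LinearEquiv.apply_symm_apply]
    have hne : ∀ j, N j ≠ 0 := fun j h0 => by
      have h1 := hN p
      rw [pmap_eq_zero N j h0, LinearMap.zero_apply, LinearEquiv.symm_apply_apply] at h1
      have hR : R (pvec ξ₀) = 1 := by
        simp only [R, LinearMap.smul_apply, frm_pvec, smul_eq_mul]
        exact inv_mul_cancel₀ (Finset.prod_ne_zero_iff.2 fun _ _ => hz)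
      rw [hR, one_smul] at h1
      exact hp h1.symm
    choose a ha using fun j => (by
      by_contra! hc
      exact hne j (LinearMap.ext fun a => by simp [hc]) : ∃ a, N j a ≠ 0)
    have h1 := hN (pvec a)
    rw [pmap_pvec] at h1
    set r := R (B.symm (pvec a))
    have hr : r ≠ 0 := fun h0 => pvec_ne_zero ha (by rw [h1, h0, zero_smul])
    exact ⟨_, r⁻¹, inv_ne_zero hr, by rw [h1, inv_smul_smul₀ hr]⟩
  have hθ : ∀ j, θ j ≠ 0 := fun j h0 => hp (by rw [hp', pvec_eq_zero_iff.2 ⟨j, h0⟩, smul_zero])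
  -- the linear maps
  let M : Ud F k → Module.End F (Ud F k) := fun a => ((f z z)⁻¹ • f z).smulRight a
  have hM : ∀ a, M a z = a := fun a => by simp [M, hz]
  set g : Fin (t + 1) → Ud F k → Ud F k := fun j a => Φ (π⁻¹ j) (M a) (θ j)
  have hg : ∀ j a, B (pvec (Function.update ξ₀ (π⁻¹ j) a)) = c • pvec (Function.update θ j (g j a)) := fun j a => by
    have h1 := hΦ (π⁻¹ j) (M a) (pvec ξ₀)
    rw [emb_pvec, show M a (ξ₀ (π⁻¹ j)) = a from hM a] at h1
    rw [h1, show π (π⁻¹ j) = j by simp, show B (pvec ξ₀) = p from rfl, hp', map_smul, emb_pvec]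
  have hinj : ∀ j (a b : Ud F k), c • pvec (Function.update θ j a) = c • pvec (Function.update θ j b) → a = b := by
    intro j a b hab
    have h1 := smul_right_injective (Vt F k (t + 1)) hc hab
    rw [pvec_eq_Tm j, pvec_eq_Tm j] at h1
    simp only [Function.update_self, Function.update_of_ne (Fin.succAbove_ne j _)] at h1
    exact (tensor hf j).T_injective (pvec_ne_zero fun l => hθ _) h1
  let G : Fin (t + 1) → Module.End F (Ud F k) := fun j =>
    { toFun := g j
      map_add' := fun a b => hinj j _ _ (by rw [← hg, pvec_update_add, map_add, hg, hg, ← smul_add, ← pvec_update_add])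
      map_smul' := fun r a => hinj j _ _ (by
        rw [← hg, pvec_update_smul, map_smul, hg, pvec_update_smul, smul_comm]; rfl) }
  refine ⟨π, Function.update G 0 (c • G 0), fun ξ => ?_⟩
  have hfin : B (pvec ξ) = c • pvec fun j => G j (ξ (π⁻¹ j)) := by
    have e : pvec ξ = pmap (fun l => M (ξ l)) (pvec ξ₀) := by rw [pmap_pvec]; simp [ξ₀, hM]
    rw [e, hS, show B (pvec ξ₀) = p from rfl, hp', map_smul, pmap_pvec]
    rfl
  have h1 := pvec_update_smul (fun j => G j (ξ (π⁻¹ j))) 0 c (G 0 (ξ (π⁻¹ 0)))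
  rw [show Function.update (fun j => G j (ξ (π⁻¹ j))) 0 (G 0 (ξ (π⁻¹ 0))) = fun j => G j (ξ (π⁻¹ j)) from
      Function.update_eq_self (0 : Fin (t + 1)) fun j => G j (ξ (π⁻¹ j))] at h1
  rw [hfin, ← h1]
  congr 1
  funext j
  by_cases hj : j = 0
  · subst hj; simp
  · simp [Function.update_of_ne hj]

end CfsgLib.Geo.OrthWreath
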