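/-
Standard involutions with a large difference of eigenspace dimensions act on one factor.
-/
import Cfsg.Agent.Lib.Geo.OrthWreath.Even.Normal
import Cfsg.Agent.Lib.Geo.OrthWreath.Good

set_option autoImplicit false
set_option linter.unusedSectionVars false

namespace CfsgLib.Geo.OrthWreath

open CfsgLib.Classical CfsgLib.Classical.Quad Module
open CfsgLib.Geo.MixTensor (SymForm)
open CfsgLib.Geo.TensorWreath (pvec pvec_prop)
open LinearMap (BilinForm)

variable {F : Type*} [Field F] {k t : ℕ}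

theorem scalar_of_dd {L : Module.End F (Ud F k)} (h2 : (2 : F) ≠ 0) (hL : L * L = 1)
    (h : (dd L).natAbs = k) : ∃ c : F, c * c = 1 ∧ L = c • 1 := by
  have h1 := fixS_add h2 hL
  rw [finrank_fin_fun] at h1
  rcases (show finrank F (fixS L) = k ∨ finrank F (fixS (-L)) = k by simp only [dd] at h; omega) with e | e
  · have ht : fixS L = ⊤ := Submodule.eq_top_of_finrank_eq (by rw [e, finrank_fin_fun])
    refine ⟨1, one_mul 1, LinearMap.ext fun v => ?_⟩
    rw [one_smul, Module.End.one_apply]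
    exact mem_fixS.1 (ht ▸ Submodule.mem_top)
  · have ht : fixS (-L) = ⊤ := Submodule.eq_top_of_finrank_eq (by rw [e, finrank_fin_fun])
    refine ⟨-1, by norm_num, LinearMap.ext fun v => ?_⟩
    have hv : -L v = v := mem_fixS.1 (ht ▸ Submodule.mem_top : v ∈ fixS (-L))
    rw [LinearMap.smul_apply, Module.End.one_apply, neg_one_smul, ← neg_eq_iff_eq_neg]
    exact hv

variable {f : BilinForm F (Ud F k)} (hf : SymForm f)
include hf

/-- A product of factor maps with one non-scalar factor is an element of that factor. -/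
theorem slot_of_scalars (hk : 1 ≤ k) {x : OQ (qT f (t + 1))} {gs : Fin (t + 1) → Module.End F (Ud F k)}
    (hsq : ∀ j, gs j * gs j = 1) (hx : lm x = pmap gs) {l : Fin (t + 1)}
    (hc : ∀ j, j ≠ l → ∃ c : F, c * c = 1 ∧ gs j = c • 1) :
    ∃ u : OQ (qU f), x = slot hf l u ∧ u * u = 1 ∧ (dd (lm u)).natAbs = (dd (gs l)).natAbs ∧
      dd (lm x) = dd (lm u) * (k : ℤ) ^ t := by
  classical
  choose c hc1 hc2 using fun j : Fin t => hc (l.succAbove j) (Fin.succAbove_ne l j)
  set R := ∏ j, c j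
  set A : Module.End F (Ud F k) := R • gs l
  have hgs : gs = l.insertNth (gs l) fun j => c j • (1 : Module.End F (Ud F k)) := funext fun j => by
    rcases Fin.eq_self_or_eq_succAbove l j with rfl | ⟨m, rfl⟩ <;> simp [hc2]
  have hxA : ∀ a w, (x : Vt F k (t + 1) ≃ₗ[F] Vt F k (t + 1)) (Tm l a w) = Tm l (A a) w := fun a w => by
    have e : lm x = R • em l (gs l) 1 := by
      rw [hx, hgs, pmap_insert, pmap_smul_all, show (fun _ : Fin t => (1 : Module.End F (Ud F k))) = 1 from rfl,
        pmap_one, em_smul, Fin.insertNth_apply_same]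
    show lm x (Tm l a w) = _
    simp [e, em_Tm, A]
  obtain ⟨z, hz⟩ := exists_aniso_vec hf hk
  have hAi : ∀ p q, f (A p) (A q) = f p q := by
    intro p q
    have h1 := map_frm hf x (Tm l p (pvec fun _ => z)) (Tm l q (pvec fun _ => z))
    rw [hxA, hxA, frm_Tm hf, frm_Tm hf, frm_pvec] at h1
    exact mul_right_cancel₀ (Finset.prod_ne_zero_iff.2 fun _ _ => hz) h1
  have hu : lm (mkU hf hAi) = A := LinearMap.ext fun v => mkU_apply hf hAi v
  have hxs : x = slot hf l (mkU hf hAi) := el_ext_Tm l fun u w => by rw [hxA, slot_Tm_self, mkU_apply]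
  have hR : R * R = 1 := by
    simp only [R, ← Finset.prod_mul_distrib]
    exact Finset.prod_eq_one fun j _ => hc1 j
  have huu : mkU hf hAi * mkU hf hAi = 1 := qU_ext hf fun v => by
    rw [Subgroup.coe_mul, LinearEquiv.mul_apply, mkU_apply, mkU_apply]
    show A (A v) = v
    simp only [A, LinearMap.smul_apply, map_smul, smul_smul, hR, one_smul]
    exact LinearMap.congr_fun (hsq l) v
  refine ⟨mkU hf hAi, hxs, huu, ?_, ?_⟩
  · rw [hu]
    rcases mul_self_eq_one_iff.1 hR with h | h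
    · simp [A, h]
    · have e : A = -gs l := by show R • gs l = _; rw [h]; exact neg_one_smul F (gs l)
      rw [e, dd, dd, neg_neg]
      omega
  · rw [hxs, lm, slot_coe, emb_eq, ← lm, dd_pmap hf.two (fun j => by
      by_cases hj : j = l
      · subst hj; rw [Function.update_self, ← lm_mul, huu, lm_one]
      · simp [Function.update_of_ne hj]), Fin.prod_univ_succAbove _ l, Function.update_self]
    congr 1
    rw [← Fin.prod_const t (k : ℤ)]
    refine Finset.prod_congr rfl fun j _ => ?_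
    rw [Function.update_of_ne (Fin.succAbove_ne l j), Pi.one_apply, dd]
    have e1 : fixS (1 : Module.End F (Ud F k)) = ⊤ := by simp [fixS]
    have e2 : fixS (-(1 : Module.End F (Ud F k))) = ⊥ := eq_bot_iff.2 fun v hv => by
      rw [mem_fixS, LinearMap.neg_apply, Module.End.one_apply, neg_eq_iff_add_eq_zero, ← two_smul F] at hv
      exact (smul_eq_zero.1 hv).resolve_left hf.two
    rw [e1, e2, finrank_top, finrank_bot, finrank_fin_fun]
    simp

/-- An involution with a one-dimensional eigenspace is a reflection. -/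
theorem eq_rfU_of_dd {u : OQ (qU f)} (huu : u * u = 1) (hd : dd (lm u) = (k : ℤ) - 2) :
    ∃ (c : Ud F k) (hc : f c c ≠ 0), u = rfU hf hc := by
  have hL : lm u * lm u = 1 := by rw [← lm_mul, huu, lm_one]
  have h := fixS_add hf.two hL
  rw [finrank_fin_fun] at h
  have h1 : finrank F (fixS (-lm u)) = 1 := by simp only [dd] at hd; omega
  obtain ⟨⟨c, hc⟩, hc0, hspan⟩ := finrank_eq_one_iff'.1 h1
  have hc' : (u : Ud F k ≃ₗ[F] Ud F k) c = -c := by
    have := mem_fixS.1 hc
    rw [LinearMap.neg_apply, neg_eq_iff_eq_neg] at this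
    exact this
  have hc0' : c ≠ 0 := fun e => hc0 (Subtype.ext e)
  have hu2 : ∀ v, (u : Ud F k ≃ₗ[F] Ud F k) ((u : Ud F k ≃ₗ[F] Ud F k) v) = v := fun v =>
    LinearMap.congr_fun hL v
  have hdec : ∀ v, ∃ r : F, v - (u : Ud F k ≃ₗ[F] Ud F k) v = r • c := fun v => by
    obtain ⟨r, hr⟩ := hspan ⟨v - (u : Ud F k ≃ₗ[F] Ud F k) v, mem_fixS.2 (by
      show -((u : Ud F k ≃ₗ[F] Ud F k) (v - (u : Ud F k ≃ₗ[F] Ud F k) v)) = _
      rw [map_sub, hu2]
      abel)⟩
    exact ⟨r, (congrArg Subtype.val hr).symm⟩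
  have hcc : f c c ≠ 0 := fun h0 => hc0' (hf.nd.1 c fun v => by
    obtain ⟨r, hr⟩ := hdec v
    have h3 := map_f hf u c v
    rw [hc', map_neg, LinearMap.neg_apply] at h3
    have h4 : f c (v - (u : Ud F k ≃ₗ[F] Ud F k) v) = 0 := by rw [hr, map_smul, h0, smul_zero]
    rw [map_sub] at h4
    have h5 : (2 : F) * f c v = 0 := by linear_combination h4 - h3
    exact (mul_eq_zero.1 h5).resolve_left hf.two)
  refine ⟨c, hcc, qU_ext hf fun v => ?_⟩
  obtain ⟨r, hr⟩ := hdec v
  have h3 := map_f hf u c v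
  rw [hc', map_neg, LinearMap.neg_apply] at h3
  have hr' := congrArg (f c) hr
  rw [map_sub, map_smul, smul_eq_mul] at hr'
  rw [rfU_apply, MixTensor.refl_apply]
  have : r = 2 / f c c * f c v := by
    field_simp
    linear_combination -hr' + h3
  rw [← this, ← hr]
  abel

variable (hk : 4 ≤ k) (hke : Even k)
include hk hke

/-- **A standard involution of the type of a reflection of one factor.** -/
theorem single_refl_abs {x : OQ (qT f (t + 1))} (hx : IsStd x) (hxx : x * x = 1)
    (hd : (dd (lm x)).natAbs = (k - 2) * k ^ t) :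
    ∃ (l : Fin (t + 1)) (u : OQ (qU f)), x = slot hf l u ∧ u * u = 1 ∧ (dd (lm u)).natAbs = k - 2 ∧
      dd (lm x) = dd (lm u) * (k : ℤ) ^ t := by
  classical
  have hpos : 0 < k ^ t := Nat.pow_pos (by omega)
  rcases hx.invol hf (by omega) hxx with h | ⟨gs, hgs, hxg⟩
  · exfalso
    rw [hd] at h
    have : 2 * k ^ t ≤ (k - 2) * k ^ t := Nat.mul_le_mul_right _ (by omega)
    omega
  have hprod : ∏ l, (dd (gs l)).natAbs = (k - 2) * k ^ t := by
    rw [← hd, hxg, dd_pmap hf.two hgs]
    exact (map_prod Int.natAbsHom _ _).symm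
  have hl : ∀ l, (dd (gs l)).natAbs = k ∨ (dd (gs l)).natAbs ≤ k - 2 := fun l => by
    obtain ⟨⟨n, hn⟩, hle⟩ := dd_even hf.two (hgs l) (by rwa [finrank_fin_fun])
    rw [finrank_fin_fun] at hle
    obtain ⟨m, hm⟩ := hke
    omega
  obtain ⟨l, hl0⟩ : ∃ l, (dd (gs l)).natAbs ≠ k := by
    by_contra! hc
    simp only [hc, Finset.prod_const, Finset.card_univ, Fintype.card_fin, pow_succ'] at hprod
    have := Nat.eq_of_mul_eq_mul_right hpos hprod
    omega
  have hrest : ∀ j, j ≠ l → (dd (gs j)).natAbs = k := by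
    intro j hj
    by_contra hj0
    obtain ⟨s, rfl⟩ : ∃ s, t = s + 1 := ⟨t - 1, by
      rcases Nat.eq_zero_or_pos t with rfl | ht
      · exact absurd (Subsingleton.elim (α := Fin 1) j l) hj
      · omega⟩
    obtain ⟨j', rfl⟩ := Fin.exists_succAbove_eq hj
    rw [Fin.prod_univ_succAbove _ l, Fin.prod_univ_succAbove _ j'] at hprod
    have h1 := (hl l).resolve_left hl0
    have h2 := (hl (l.succAbove j')).resolve_left hj0
    have h3 : ∏ i, (dd (gs (l.succAbove (j'.succAbove i)))).natAbs ≤ k ^ s := by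
      refine (Finset.prod_le_pow_card _ _ k fun i _ => ?_).trans (by simp)
      rcases hl (l.succAbove (j'.succAbove i)) with h | h <;> omega
    have h4 := Nat.mul_le_mul h1 (Nat.mul_le_mul h2 h3)
    rw [hprod, pow_succ'] at h4
    have h5 : k * k ^ s ≤ (k - 2) * k ^ s := Nat.le_of_mul_le_mul_left h4 (by omega)
    have h6 := Nat.le_of_mul_le_mul_right h5 (Nat.pow_pos (by omega))
    omega
  have hl2 : (dd (gs l)).natAbs = k - 2 := by
    rw [Fin.prod_univ_succAbove _ l, Finset.prod_congr rfl (g := fun _ => k) fun i _ => hrest _ (Fin.succAbove_ne l i),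
      Finset.prod_const, Finset.card_univ, Fintype.card_fin] at hprod
    exact Nat.eq_of_mul_eq_mul_right hpos hprod
  obtain ⟨u, hxu, huu, hu, hdx⟩ := slot_of_scalars hf (by omega) hgs hxg (l := l) fun j hj =>
    scalar_of_dd hf.two (hgs j) (hrest j hj)
  exact ⟨l, u, hxu, huu, hu.trans hl2, hdx⟩

/-- **A standard involution with the dimensions of a reflection of one factor is one.** -/
theorem single_refl {x : OQ (qT f (t + 1))} (hx : IsStd x) (hxx : x * x = 1)
    (hd : dd (lm x) = ((k : ℤ) - 2) * (k : ℤ) ^ t) :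
    ∃ (l : Fin (t + 1)) (c : Ud F k) (hc : f c c ≠ 0), x = slot hf l (rfU hf hc) := by
  obtain ⟨l, u, hxu, huu, -, hdx⟩ := single_refl_abs hf hk hke hx hxx (by
    rw [hd, Int.natAbs_mul, Int.natAbs_pow, Int.natAbs_natCast]
    congr 1
    omega)
  have hpos : (0 : ℤ) < (k : ℤ) ^ t := pow_pos (by omega) _
  obtain ⟨c, hc, rfl⟩ := eq_rfU_of_dd hf huu (mul_right_cancel₀ hpos.ne' (hdx.symm.trans hd))
  exact ⟨l, c, hc, hxu⟩

/-- **A standard involution of two factors of the type of a plane.** -/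
theorem single_plane (h6 : 6 ≤ k) {x : OQ (qT f 2)} (hx : IsStd x) (hxx : x * x = 1)
    (hd : dd (lm x) = ((k : ℤ) - 4) * k) :
    ∃ (l : Fin 2) (u : OQ (qU f)), x = slot hf l u ∧ u * u = 1 ∧ dd (lm u) = (k : ℤ) - 4 := by
  classical
  have hd' : (dd (lm x)).natAbs = (k - 4) * k := by
    rw [hd, Int.natAbs_mul, Int.natAbs_natCast]
    congr 1
    omega
  rcases hx.invol hf (by omega) hxx with h | ⟨gs, hgs, hxg⟩
  · exfalso
    rw [hd', pow_one] at h
    have : 2 * k ≤ (k - 4) * k := Nat.mul_le_mul_right _ (by omega)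
    omega
  have hprod : (dd (gs 0)).natAbs * (dd (gs 1)).natAbs = (k - 4) * k := by
    rw [← hd', hxg, dd_pmap hf.two hgs, Fin.prod_univ_two, Int.natAbs_mul]
  have hk' := hke
  have key : ∀ j : Fin 2, (dd (gs j)).natAbs = k ∨ ∃ a, 1 ≤ a ∧ (dd (gs j)).natAbs + 2 * a = k := fun j => by
    obtain ⟨⟨n, hn⟩, hle⟩ := dd_even hf.two (hgs j) (by rwa [finrank_fin_fun])
    rw [finrank_fin_fun] at hle
    obtain ⟨m, hm⟩ := hk'
    rcases eq_or_lt_of_le hle with h | h
    · exact Or.inl h
    · exact Or.inr ⟨m - n, by omega, by omega⟩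
  have fin : ∀ l j : Fin 2, l ≠ j → (dd (gs j)).natAbs = k →
      ∃ u : OQ (qU f), x = slot hf l u ∧ u * u = 1 ∧ dd (lm u) = (k : ℤ) - 4 := by
    intro l j hlj hj
    obtain ⟨u, hxu, huu, -, hdx⟩ := slot_of_scalars hf (by omega) hgs hxg (l := l) fun i hi =>
      scalar_of_dd hf.two (hgs i) (by
        have : i = j := by fin_cases i <;> fin_cases l <;> fin_cases j <;> simp_all
        rw [this, hj])
    refine ⟨u, hxu, huu, ?_⟩
    rw [pow_one, hd] at hdx
    exact (mul_right_cancel₀ (show (k : ℤ) ≠ 0 by omega) hdx).symm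
  rcases key 0 with h0 | ⟨a, ha, h0⟩
  · exact ⟨1, fin 1 0 (by simp) h0⟩
  rcases key 1 with h1 | ⟨b, hb, h1⟩
  · exact ⟨0, fin 0 1 (by simp) h1⟩
  exfalso
  generalize (dd (gs 0)).natAbs = p at h0 hprod
  generalize (dd (gs 1)).natAbs = q at h1 hprod
  obtain ⟨m, rfl⟩ : ∃ m, k = m + 4 := ⟨k - 4, by omega⟩
  rw [Nat.add_sub_cancel] at hprod
  have e : (a + b) * (m + 4) = 2 * (a * b) + 2 * (m + 4) := by nlinarith
  have ha2 : a ≤ 2 := by nlinarith
  have hb2 : b ≤ 2 := by nlinarith
  interval_cases a <;> interval_cases b <;> omega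

end CfsgLib.Geo.OrthWreath
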