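/-
In even dimension the products at one factor in a proper overgroup have standard shape.
-/
import Cfsg.Agent.Lib.Geo.OrthWreath.Even.Class
import Cfsg.Agent.Lib.Geo.OrthWreath.Even.Single
import Cfsg.Agent.Lib.Geo.OrthWreath.Even.Maps
import Cfsg.Agent.Lib.Geo.OrthWreath.Pure

set_option autoImplicit false
set_option linter.unusedSectionVars false

namespace CfsgLib.Geo.OrthWreath

open CfsgLib.Classical CfsgLib.Classical.Quad CfsgLib.Known.OmegaCriterion Module
open CfsgLib.Geo.MixTensor (SymForm)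
open CfsgLib.Geo.OrthTensor (Tens sv sv_eq_refl sv_isometry exists_iso_partner)
open CfsgLib.Geo.TensorWreath (pvec)
open LinearMap (BilinForm)

variable {F : Type*} [Field F] {k t : ℕ} {f : BilinForm F (Ud F k)} (hf : SymForm f)

theorem dd_equiv {V : Type*} [AddCommGroup V] [Module F V] [FiniteDimensional F V] (B : V ≃ₗ[F] V)
    {L L' : Module.End F V} (h : ∀ v, L' (B v) = B (L v)) : dd L' = dd L := by
  have key : ∀ (L L' : Module.End F V), (∀ v, L' (B v) = B (L v)) →
      finrank F (fixS L') = finrank F (fixS L) := by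
    intro L L' h
    have e : fixS L' = (fixS L).map (B : V →ₗ[F] V) := by
      ext v
      obtain ⟨u, rfl⟩ := B.surjective v
      rw [mem_fixS, h, B.injective.eq_iff]
      exact ⟨fun hu => ⟨u, mem_fixS.2 hu, rfl⟩, fun ⟨u', hu', e'⟩ => by
        rw [← B.injective e']; exact mem_fixS.1 hu'⟩
    rw [e, LinearEquiv.finrank_map_eq]
  rw [dd, dd, key L L' h, key (-L) (-L') fun v => by rw [LinearMap.neg_apply, h, LinearMap.neg_apply, map_neg]]

include hf

/-- The dimensions of the eigenspaces of a reflection. -/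
theorem dd_rfU {c : Ud F k} (hc : f c c ≠ 0) : dd (lm (rfU hf hc)) = (k : ℤ) - 2 := by
  have hL : lm (rfU hf hc) * lm (rfU hf hc) = 1 := LinearMap.ext fun v => by
    show (rfU hf hc : Ud F k ≃ₗ[F] Ud F k) ((rfU hf hc : Ud F k ≃ₗ[F] Ud F k) v) = v
    simp only [rfU_apply, MixTensor.refl_apply, map_sub, map_smul, smul_eq_mul]
    match_scalars
    · rfl
    · field_simp
      ring
  have e : fixS (-lm (rfU hf hc)) = Submodule.span F {c} := by
    refine le_antisymm (fun v hv => ?_) ((Submodule.span_singleton_le_iff_mem _ _).2 (mem_fixS.2 ?_))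
    · rw [mem_fixS, LinearMap.neg_apply] at hv
      have hv' : -(MixTensor.refl f c v) = v := by rw [← rfU_apply hf hc]; exact hv
      rw [MixTensor.refl_apply, neg_sub, sub_eq_iff_eq_add, ← two_smul F v] at hv'
      exact Submodule.mem_span_singleton.2 ⟨(2 : F)⁻¹ * (2 / f c c * f c v), by
        rw [mul_smul, hv', inv_smul_smul₀ hf.two]⟩
    · show -((rfU hf hc : Ud F k ≃ₗ[F] Ud F k) c) = c
      rw [rfU_apply, MixTensor.refl_apply]
      match_scalars
      field_simp
      ring
  have h := fixS_add hf.two hL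
  rw [finrank_fin_fun, e, finrank_span_singleton (fun h0 => hc (by simp [h0]))] at h
  rw [dd, e, finrank_span_singleton (fun h0 => hc (by simp [h0]))]
  omega

theorem rfU_sq {c : Ud F k} (hc : f c c ≠ 0) : rfU hf hc * rfU hf hc = 1 := qU_ext hf fun v => by
  simp only [Subgroup.coe_mul, LinearEquiv.mul_apply, rfU_apply, MixTensor.refl_apply, map_sub, map_smul,
    smul_eq_mul, OneMemClass.coe_one, LinearEquiv.coe_one, id_eq]
  match_scalars
  · rfl
  · field_simp
    ring

/-- The dimensions of the eigenspaces of an involution of one factor. -/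
theorem dd_slot {u : OQ (qU f)} (huu : u * u = 1) (j : Fin (t + 1)) :
    dd (lm (slot hf j u)) = dd (lm u) * (k : ℤ) ^ t := by
  classical
  rw [lm, slot_coe, emb_eq, ← lm, dd_pmap hf.two (fun l => by
    by_cases hl : l = j
    · subst hl; rw [Function.update_self, ← lm_mul, huu, lm_one]
    · simp [Function.update_of_ne hl]), Fin.prod_univ_succAbove _ j, Function.update_self]
  congr 1
  rw [← Fin.prod_const t (k : ℤ)]
  refine Finset.prod_congr rfl fun l _ => ?_
  rw [Function.update_of_ne (Fin.succAbove_ne j l), Pi.one_apply, dd]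
  have e1 : fixS (1 : Module.End F (Ud F k)) = ⊤ := by simp [fixS]
  have e2 : fixS (-(1 : Module.End F (Ud F k))) = ⊥ := eq_bot_iff.2 fun v hv => by
    rw [mem_fixS, LinearMap.neg_apply, Module.End.one_apply, neg_eq_iff_add_eq_zero, ← two_smul F] at hv
    exact (smul_eq_zero.1 hv).resolve_left hf.two
  rw [e1, e2, finrank_top, finrank_bot, finrank_fin_fun]
  simp

variable [Finite F]

theorem sq_mem_commutator (g : OQ (qT f t)) : g * g ∈ commutator (OQ (qT f t)) := by
  rw [mem_commutator_iff (qT_nd hf) (reflTopT hf), par_mul (qT_nd hf) (reflTopT hf),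
    spinor_mul (qT_nd hf) (reflTopT hf)]
  exact ⟨CharTwo.add_self_eq_zero _, sqClass_mul_self _⟩

/-- The image of a product at one factor in the induction. -/
theorem exists_nilp (hk : 3 ≤ k) (j₀ j₁ : Fin t) (hj : j₀ ≠ j₁) :
    ∃ (d : Ud F k) (Z : Fin t → Module.End F (Ud F k)) (y : OQ (qT f t)), d ≠ 0 ∧ f d d = 0 ∧ Z j₀ = pd f d ∧
      (∀ l, Z l ≠ 0) ∧ y ∈ commutator (OQ (qT f t)) ∧ lm y = 1 + pmap Z := by
  classical
  obtain ⟨P, -⟩ := exists_frame hf (f := f) hk
  obtain ⟨z, d1, e1, zz⟩ := P.exists_z hf hk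
  set Z : Fin t → Module.End F (Ud F k) :=
    Function.update (Function.update (1 : Fin t → Module.End F (Ud F k)) j₁ (nf f P.d z)) j₀ (pd f P.d)
  have hZ0 : Z j₀ = pd f P.d := Function.update_self ..
  have hpd : pd f P.d * pd f P.d = 0 := LinearMap.ext fun a => by simp [pd_apply, P.dd]
  set N := pmap Z
  have hNN : N * N = 0 := by
    rw [pmap_mul]
    exact pmap_eq_zero _ j₀ (by rw [Pi.mul_apply, hZ0, hpd])
  have hN2 : ∀ v, N (N v) = 0 := fun v => LinearMap.congr_fun hNN v
  have hskew : ∀ v w, frm f t v (N w) = -frm f t (N v) w := by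
    intro v w
    rw [pmap_adjoint (s := fun l => if l = j₁ then -1 else 1) (fun l a b => by
      by_cases h0 : l = j₀
      · subst h0
        rw [hZ0, if_neg hj, one_mul, pd_apply, pd_apply, map_smul, map_smul, LinearMap.smul_apply, smul_eq_mul,
          smul_eq_mul, hf.symm a P.d]
        ring
      by_cases h1 : l = j₁
      · subst h1
        simp only [Z, Function.update_of_ne h0, Function.update_self, if_pos, nf_apply, map_sub, map_smul,
          LinearMap.sub_apply, LinearMap.smul_apply, smul_eq_mul, hf.symm a P.d, hf.symm a z]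
        ring
      · simp [Z, Function.update_of_ne h0, Function.update_of_ne h1, h1]) v w]
    simp [N]
  set c : F := 2⁻¹
  have hiso : ∀ v w, frm f t ((1 + c • N : Module.End F (Vt F k t)) v) ((1 + c • N : Module.End F (Vt F k t)) w) =
      frm f t v w := by
    intro v w
    simp only [LinearMap.add_apply, Module.End.one_apply, LinearMap.smul_apply, map_add, map_smul, smul_eq_mul,
      hskew, hN2, map_neg, LinearMap.neg_apply, neg_zero, map_zero, LinearMap.zero_apply, mul_zero, add_zero]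
    ring
  set g : OQ (qT f t) := ofPreserves (qT_nd hf) (1 + c • N) (preserves_qT hf fun ξ η => hiso _ _)
  have hne : ∀ l, Z l ≠ 0 := by
    intro l
    by_cases h0 : l = j₀
    · subst h0
      rw [hZ0]
      intro h
      exact P.d_ne (by simpa [pd_apply, P.de] using LinearMap.congr_fun h P.e)
    by_cases h1 : l = j₁
    · subst h1
      simp only [Z, Function.update_of_ne h0, Function.update_self]
      intro h
      have h2 := congrArg (f z) (LinearMap.congr_fun h P.e)
      simp [nf_apply, P.de, hf.symm P.e z, e1, hf.symm P.d z, d1] at h2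
      exact zz h2
    · simp only [Z, Function.update_of_ne h0, Function.update_of_ne h1, Pi.one_apply]
      intro h
      exact P.d_ne (LinearMap.congr_fun h P.d)
  refine ⟨P.d, Z, g * g, P.d_ne, P.dd, hZ0, hne, sq_mem_commutator hf g, LinearMap.ext fun v => ?_⟩
  rw [lm_mul, Module.End.mul_apply]
  have e : ∀ v, lm g v = v + c • N v := fun v => by
    show (g : Vt F k t ≃ₗ[F] Vt F k t) v = _
    rw [ofPreserves_apply]
    rfl
  rw [e, e, map_add, map_smul, hN2, smul_zero, add_zero, add_assoc, ← add_smul]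
  simp only [c, show (2 : F)⁻¹ + 2⁻¹ = 1 by rw [← two_mul, mul_inv_cancel₀ hf.two], one_smul, LinearMap.add_apply,
    Module.End.one_apply]
  rfl

variable (hk : 4 ≤ k) (hke : Even k)
include hk hke

/-- **The overgroup does not contain the whole group of the other factors.** -/
theorem wl_proper (ht : 2 ≤ t) {X : Subgroup (OQ (qT f (t + 1)))} (hs : OrthTensor.Small f)
    (base : ∀ x ∈ commutator (OQ (qT f (t + 1))), IsStd x → x ∈ X)
    (proper : ¬ commutator (OQ (qT f (t + 1))) ≤ X) (i : Fin (t + 1))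
    (h : ∀ y ∈ commutator (OQ (qT f t)), wl hf i y ∈ X) : False := by
  classical
  have h5 := five_even hf hk hke (t := t) (by omega)
  have hdim : 16 ≤ finrank F (Vt F k t) := by
    rw [finrank_Vt]
    calc 16 = 4 ^ 2 := by norm_num
      _ ≤ k ^ 2 := Nat.pow_le_pow_left hk 2
      _ ≤ k ^ t := Nat.pow_le_pow_right (by omega) ht
  have hD := (tensor hf i).flip
  have O : OrthTensor.Pre (qT f (t + 1)) (frm f t) f (Tm i).flip X :=
    { hD with
      three := by rw [finrank_fin_fun]; omega
      small := {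
        form := symForm_frm hf
        three := by omega
        big := fun _ => by omega
        four := fun h => by omega }
      baseU := fun g hg a b ha hab hb e => by
        have hq : ∀ v, frm f t v v ≠ 0 → qT f t v ≠ 0 := fun v hv => by
          rw [qT, smul_apply, LinearMap.BilinMap.toQuadraticMap_apply]
          exact mul_ne_zero (inv_ne_zero hf.two) hv
        set b' := b + (frm f t b b / 2) • a
        have hb' : frm f t b' b' = frm f t b b := OrthTensor.sv_norm (symForm_frm hf) ha hab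
        set y : OQ (qT f t) := Quad.refl (hq b hb) * Quad.refl (hq b' (hb' ▸ hb))
        have hy : y ∈ commutator (OQ (qT f t)) := by
          rw [mem_commutator_iff (qT_nd hf) (reflTopT hf), par_mul (qT_nd hf) (reflTopT hf),
            spinor_mul (qT_nd hf) (reflTopT hf), par_refl (qT_nd hf), par_refl (qT_nd hf), spinor_refl (qT_nd hf),
            spinor_refl (qT_nd hf)]
          refine ⟨by decide, ?_⟩
          simp only [qT, smul_apply, LinearMap.BilinMap.toQuadraticMap_apply, hb', sqClass_mul_self]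
        have eg : g = wl hf i y := el_ext_Tm i fun u w => by
          have h1 : ∀ {v : Vt F k t} (hv : qT f t v ≠ 0) w, (Quad.refl hv : Vt F k t ≃ₗ[F] Vt F k t) w =
              MixTensor.refl (frm f t) v w := fun {v} hv w => by
            rw [Quad.refl_apply, MixTensor.refl_apply, polar_qT hf, qT, smul_apply,
              LinearMap.BilinMap.toQuadraticMap_apply, smul_eq_mul, frm_symm hf v w, _root_.mul_inv_rev, inv_inv]
            congr 2
            field_simp
          rw [wl_Tm, show y = Quad.refl (hq b hb) * Quad.refl (hq b' (hb' ▸ hb)) from rfl, Subgroup.coe_mul,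
            LinearEquiv.mul_apply, h1, h1, ← sv_eq_refl (symForm_frm hf) ha hab hb]
          exact e w u
        exact eg ▸ h y hy
      baseW := fun g hg a b ha hab hb e => base g hg (by
        have eg : g = slot hf i (sU hf ha hab) := el_ext_Tm i fun u w => by
          rw [slot_Tm_self, sU, mkU_apply]
          exact e w u
        exact eg ▸ isStd_slot hf i _) }
  obtain ⟨j₀, j₁, hj⟩ : ∃ j₀ j₁ : Fin t, j₀ ≠ j₁ := ⟨⟨0, by omega⟩, ⟨1, by omega⟩, by simp⟩
  obtain ⟨d, Z, y, hd0, hd, hZ0, hZne, hy, ey⟩ := exists_nilp hf (by omega) j₀ j₁ hj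
  set a := i.succAbove j₀
  set b := i.succAbove j₁
  have hab : a ≠ b := fun e => hj (Fin.succAbove_right_injective e)
  have hai : a ≠ i := Fin.succAbove_ne i j₀
  have hbi : b ≠ i := Fin.succAbove_ne i j₁
  set s₁ := Equiv.swap i a
  set s₂ := Equiv.swap a b
  set p := pel hf s₁ * pel hf s₂ * (pel hf s₁)⁻¹ * (pel hf s₂)⁻¹
  have hps : ∀ s : Equiv.Perm (Fin (t + 1)), s * s = 1 → (pel hf s)⁻¹ = pel hf s := fun s hs =>
    inv_eq_of_mul_eq_one_right (el_ext fun ξ => by
      rw [Subgroup.coe_mul, LinearEquiv.mul_apply, pel_pvec, pel_pvec]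
      simp only [← Equiv.Perm.mul_apply, ← mul_inv_rev, hs, inv_one, Equiv.Perm.one_apply]
      rfl)
  have hp : ∀ ξ, (p : Vt F k (t + 1) ≃ₗ[F] Vt F k (t + 1)) (pvec ξ) =
      pvec fun l => ξ ((s₁ * s₂ * s₁ * s₂)⁻¹ l) := fun ξ => by
    simp only [p, hps s₁ (Equiv.swap_mul_self _ _), hps s₂ (Equiv.swap_mul_self _ _), Subgroup.coe_mul,
      LinearEquiv.mul_apply, pel_pvec]
    rfl
  have hpX : p ∈ X := base _ (comm_conj hf _ _) ⟨_, fun _ => 1, hp⟩
  set π := s₁ * s₂ * s₁ * s₂
  have hπi : π⁻¹ i = a := by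
    rw [Equiv.Perm.inv_eq_iff_eq]
    simp only [π, s₁, s₂, Equiv.Perm.mul_apply, Equiv.swap_apply_left, Equiv.swap_apply_of_ne_of_ne hbi (Ne.symm hab),
      Equiv.swap_apply_right]
  set Z' : Fin (t + 1) → Module.End F (Ud F k) := fun l =>
    Fin.insertNth (α := fun _ => Module.End F (Ud F k)) i 1 Z (π⁻¹ l)
  set g := p * wl hf i y * p⁻¹
  have hg : g ∈ X := X.mul_mem (X.mul_mem hpX (h y hy)) (X.inv_mem hpX)
  have hgZ : lm g = 1 + pmap Z' := by
    have e1 : lm (wl hf i y) = 1 + pmap (i.insertNth 1 Z) := Tm_ext i fun u w => by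
      show (wl hf i y : Vt F k (t + 1) ≃ₗ[F] Vt F k (t + 1)) (Tm i u w) = _
      rw [wl_Tm, pmap_insert, show (y : Vt F k t ≃ₗ[F] Vt F k t) w = lm y w from rfl, ey]
      simp [em_Tm]
    have e2 : lm p * pmap (i.insertNth 1 Z) = pmap Z' * lm p := pvec_ext fun ξ => by
      rw [Module.End.mul_apply, Module.End.mul_apply, pmap_pvec]
      show (p : Vt F k (t + 1) ≃ₗ[F] Vt F k (t + 1)) (pvec _) = pmap Z' ((p : Vt F k (t + 1) ≃ₗ[F] Vt F k (t + 1)) (pvec ξ))
      rw [hp, hp, pmap_pvec]
    rw [lm_mul, lm_mul, e1, mul_add, add_mul, mul_one, lm_mul_inv, e2, mul_assoc, lm_mul_inv, mul_one]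
  obtain ⟨rest, hrest⟩ : ∃ rest, Z' = i.insertNth (pd f d) rest := ⟨Fin.removeNth i Z', by
    conv_lhs => rw [← Fin.insertNth_self_removeNth i Z']
    rw [show Z' i = pd f d by simp only [Z', hπi, a, Fin.insertNth_apply_succAbove, hZ0]]⟩
  have hne : pmap rest ≠ 0 := pmap_ne_zero fun l => by
    have e1 : rest l = Z' (i.succAbove l) := by rw [hrest, Fin.insertNth_apply_succAbove]
    rw [e1]
    show Fin.insertNth (α := fun _ => Module.End F (Ud F k)) i 1 Z _ ≠ 0
    rcases Fin.eq_self_or_eq_succAbove i (π⁻¹ (i.succAbove l)) with h1 | ⟨m, h1⟩ <;> rw [h1]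
    · rw [Fin.insertNth_apply_same]
      intro h0
      exact hd0 (LinearMap.congr_fun h0 d)
    · rw [Fin.insertNth_apply_succAbove]
      exact hZne m
  have h1 := O.eichGroup_le hd0 hd (φ := pmap rest) ⟨g, hg, fun w u => by
    show lm g (Tm i u w) = Tm i u w + f d u • Tm i d (pmap rest w)
    rw [hgZ, hrest, pmap_insert, LinearMap.add_apply, Module.End.one_apply, em_Tm, pd_apply, map_smul,
      LinearMap.smul_apply]⟩ hne
  rw [eichGroup_eq_commutator (qT_nd hf) h5] at h1
  exact proper h1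

/-- The factor maps of a product of two similitudes in the overgroup. -/
theorem slotMap_of_tens (ht0 : 1 ≤ t) {X : Subgroup (OQ (qT f (t + 1 + 1)))}
    (base : ∀ x ∈ commutator (OQ (qT f (t + 1 + 1))), IsStd x → x ∈ X)
    {i : Fin (t + 1 + 1)}
    (hY : ∀ y ∈ commutator (OQ (qT f (t + 1))), wl hf i y ∈ X → IsStd y)
    {x : OQ (qT f (t + 1 + 1))} (hx : x ∈ X) {A : Ud F k ≃ₗ[F] Ud F k} {B : Vt F k (t + 1) ≃ₗ[F] Vt F k (t + 1)}
    (e : ∀ a w, (x : Vt F k (t + 1 + 1) ≃ₗ[F] Vt F k (t + 1 + 1)) (Tm i a w) = Tm i (A a) (B w))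
    {μ : F} (hμ : μ ≠ 0) (hB : ∀ v, qT f (t + 1) (B v) = μ * qT f (t + 1) v) : SlotMap hf B := by
  classical
  have refl : ∀ (j : Fin (t + 1)) {c : Ud F k} (hc : f c c ≠ 0), ∃ (l : Fin (t + 1)) (c' : Ud F k)
      (hc' : f c' c' ≠ 0), ∀ v, B ((slot hf j (rfU hf hc) : Vt F k (t + 1) ≃ₗ[F] Vt F k (t + 1)) v) =
        (slot hf l (rfU hf hc') : Vt F k (t + 1) ≃ₗ[F] Vt F k (t + 1)) (B v) := by
    intro j c hc
    obtain ⟨K₀, hK⟩ := refl_class_at hf hk hke (t := t) ht0 j
    set s := slot hf j (rfU hf hc)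
    obtain ⟨y, hy, hyp, hys⟩ := exists_sim_conj (qT_nd hf) (reflTopT hf) B hμ hB s
    rw [(hK c hc).1] at hyp hys
    rw [pcl_zero, mul_one] at hys
    have hyC : y * s ∈ commutator (OQ (qT f (t + 1))) := by
      rw [mem_commutator_iff (qT_nd hf) (reflTopT hf), par_mul (qT_nd hf) (reflTopT hf),
        spinor_mul (qT_nd hf) (reflTopT hf), hyp, (hK c hc).1, hys, sqClass_mul_self]
      exact ⟨add_zero _, rfl⟩
    have hsX : wl hf i s ∈ X := by
      rw [wl_slot]
      exact base _ (slot_mem_of_two hf hk hke (by omega) _ _) (isStd_slot hf _ _)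
    have hyx : wl hf i y = x * wl hf i s * x⁻¹ := by
      rw [eq_mul_inv_iff_mul_eq]
      refine el_ext_Tm i fun a w => ?_
      simp only [Subgroup.coe_mul, LinearEquiv.mul_apply, e, wl_Tm, hy]
    have hwX : wl hf i (y * s) ∈ X := by
      rw [map_mul, hyx]
      exact X.mul_mem (X.mul_mem (X.mul_mem hx hsX) (X.inv_mem hx)) hsX
    have hss : s * s = 1 := by rw [← map_mul, rfU_sq, map_one]
    have hstd : IsStd y := by
      have h := (hY _ hyC hwX).mul (isStd_slot hf j (rfU hf hc))
      rwa [mul_assoc, hss, mul_one] at h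
    have hyy : y * y = 1 := by
      refine Subtype.ext (LinearEquiv.ext fun v => ?_)
      obtain ⟨w, rfl⟩ := B.surjective v
      rw [Subgroup.coe_mul, LinearEquiv.mul_apply, hy, hy]
      exact congrArg B (LinearEquiv.congr_fun (congrArg Subtype.val hss) w)
    obtain ⟨l, c', hc', hyl⟩ := single_refl hf hk hke hstd hyy (by
      rw [dd_equiv B (L := lm s) (L' := lm y) (fun v => hy v), dd_slot hf (rfU_sq hf hc), dd_rfU hf hc])
    exact ⟨l, c', hc', fun v => by rw [← hyl, hy]⟩
  intro l d z hd0 hd hz hzz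
  have hn := OrthTensor.sv_norm hf hd hz
  set z' := z + (f z z / 2) • d
  have hz' : f z' z' ≠ 0 := hn ▸ hzz
  obtain ⟨l₁, c₁, hc₁, h₁⟩ := refl l hzz
  obtain ⟨l₂, c₂, hc₂, h₂⟩ := refl l hz'
  have hl : l₁ = l₂ := by
    by_contra hne
    have hcomm : Commute (rfU hf hzz) (rfU hf hz') := slot_injective hf (by omega) l (by
      rw [map_mul, map_mul]
      refine Subtype.ext (LinearEquiv.ext fun v => B.injective ?_)
      simp only [Subgroup.coe_mul, LinearEquiv.mul_apply, h₁, h₂]
      exact LinearEquiv.congr_fun (congrArg Subtype.val (slot_comm hf hne (rfU hf hc₁) (rfU hf hc₂)).eq) (B v))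
    refine hd0 ?_
    have h := congrArg (fun g : OQ (qU f) => (g : Ud F k ≃ₗ[F] Ud F k) z) hcomm.eq
    have hzz' : f z z' = f z z := by simp [z', hf.symm d z, hz]
    simp only [Subgroup.coe_mul, LinearEquiv.mul_apply, rfU_apply, MixTensor.refl_apply, map_sub, map_smul,
      smul_eq_mul, hn, hf.symm z z', hzz'] at h
    have h2 : (f z z / 2) • d = 0 := by
      have : z' - z = (f z z / 2) • d := add_sub_cancel_left z _
      rw [← this]
      clear_value z'
      field_simp at h
      have h4 : ((2 : F) * 2) • (z' - z) = 0 := by linear_combination (norm := module) (-1 : F) • h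
      exact (smul_eq_zero.1 h4).resolve_left (mul_ne_zero hf.two hf.two)
    exact (smul_eq_zero.1 h2).resolve_left (div_ne_zero hzz hf.two)
  subst hl
  refine ⟨l₁, rfU hf hc₁ * rfU hf hc₂, fun v => ?_⟩
  have e1 : sU hf hd hz = rfU hf hzz * rfU hf hz' := qU_ext hf fun a => by
    rw [sU, mkU_apply, Subgroup.coe_mul, LinearEquiv.mul_apply, rfU_apply, rfU_apply, sv_eq_refl hf hd hz hzz]
  rw [e1, map_mul, map_mul, Subgroup.coe_mul, Subgroup.coe_mul, LinearEquiv.mul_apply, LinearEquiv.mul_apply, h₁, h₂]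

/-- **In even dimension a product at one factor lying in the group is standard.** -/
theorem tens_std_even (ht : 1 ≤ t) {X : Subgroup (OQ (qT f (t + 1)))} (hs : OrthTensor.Small f)
    (base : ∀ x ∈ commutator (OQ (qT f (t + 1))), IsStd x → x ∈ X)
    (proper : ¬ commutator (OQ (qT f (t + 1))) ≤ X)
    (ih : ∀ Y : Subgroup (OQ (qT f t)), Y ≤ commutator (OQ (qT f t)) →
      (∀ y ∈ commutator (OQ (qT f t)), IsStd y → y ∈ Y) →
      commutator (OQ (qT f t)) ≤ Y ∨ ∀ y ∈ Y, IsStd y)
    {i : Fin (t + 1)} {x : OQ (qT f (t + 1))} (hx : x ∈ X) (hT : Tens (Tm i) x) : IsStd x := by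
  classical
  rcases Nat.lt_or_ge t 2 with h | h
  · obtain rfl : t = 1 := by omega
    exact isStd_of_tens_one hT
  obtain ⟨s, rfl⟩ : ∃ s, t = s + 1 := ⟨t - 1, by omega⟩
  have hY : ∀ y ∈ commutator (OQ (qT f (s + 1))), wl hf i y ∈ X → IsStd y := by
    let Y : Subgroup (OQ (qT f (s + 1))) := commutator (OQ (qT f (s + 1))) ⊓ X.comap (wl hf i)
    rcases ih Y inf_le_left (fun y hy hs => ⟨hy, base _ (wl_commutator hf i hy) (isStd_wl hf hs)⟩) with h1 | h1
    · exact (wl_proper hf hk hke h hs base proper i fun y hy => (h1 hy).2).elim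
    · exact fun y hy hyX => h1 y ⟨hy, hyX⟩
  obtain ⟨A, B, e⟩ := hT
  obtain ⟨z, hz⟩ := exists_aniso_vec hf (k := k) (by omega)
  have hAB : ∀ a b w r, f (A a) (A b) * frm f (s + 1) (B w) (B r) = f a b * frm f (s + 1) w r := fun a b w r => by
    rw [← frm_Tm hf i, ← frm_Tm hf i, ← e, ← e, map_frm hf]
  set w₀ : Vt F k (s + 1) := pvec fun _ => z
  have hw₀ : frm f (s + 1) w₀ w₀ ≠ 0 := by
    rw [frm_pvec]; exact Finset.prod_ne_zero_iff.2 fun _ _ => hz
  have hA0 : f (A z) (A z) ≠ 0 := fun e0 => mul_ne_zero hz hw₀ (by rw [← hAB z z w₀ w₀, e0, zero_mul])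
  set μ := f z z / f (A z) (A z)
  have hμ : μ ≠ 0 := div_ne_zero hz hA0
  have hB : ∀ w r, frm f (s + 1) (B w) (B r) = μ * frm f (s + 1) w r := fun w r => by
    have := hAB z z w r
    simp only [μ]
    field_simp
    linear_combination this
  have hA : ∀ a b, f (A a) (A b) = μ⁻¹ * f a b := fun a b =>
    mul_left_cancel₀ (mul_ne_zero hμ hw₀) (by
      have := hAB a b w₀ w₀
      rw [hB] at this
      linear_combination this - (f a b * frm f (s + 1) w₀ w₀) * mul_inv_cancel₀ hμ)
  have hAinj : Function.Injective A := fun a b h => sub_eq_zero.1 (hf.nd.1 _ fun y => by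
    have h1 := hA (a - b) y
    rw [map_sub, h, sub_self, map_zero, LinearMap.zero_apply] at h1
    exact (mul_eq_zero.1 h1.symm).resolve_left (inv_ne_zero hμ))
  have hBinj : Function.Injective B := fun a b h => sub_eq_zero.1 ((frm_nondeg hf).1 _ fun y => by
    have h1 := hB (a - b) y
    rw [map_sub, h, sub_self, map_zero, LinearMap.zero_apply] at h1
    exact (mul_eq_zero.1 h1.symm).resolve_left hμ)
  set A' := LinearEquiv.ofInjectiveEndo A hAinj
  set B' := LinearEquiv.ofInjectiveEndo B hBinj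
  have eA : ∀ a, A' a = A a := fun a => rfl
  have eB : ∀ w, B' w = B w := fun w => rfl
  have hq : ∀ w, qT f (s + 1) (B' w) = μ * qT f (s + 1) w := fun w => by
    rw [eB, qT, smul_apply, smul_apply, LinearMap.BilinMap.toQuadraticMap_apply,
      LinearMap.BilinMap.toQuadraticMap_apply, hB, smul_eq_mul, smul_eq_mul]
    ring
  have hq' : ∀ w, qT f (s + 1) (B'.symm w) = μ⁻¹ * qT f (s + 1) w := fun w => by
    have := hq (B'.symm w)
    rw [LinearEquiv.apply_symm_apply] at this
    rw [this, inv_mul_cancel_left₀ hμ]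
  have hS := slotMap_of_tens hf hk hke (by omega) base hY hx (A := A') (B := B') (fun a w => e a w) hμ hq
  have hS' := slotMap_of_tens hf hk hke (by omega) base hY (X.inv_mem hx) (A := A'.symm) (B := B'.symm) (fun a w => by
    rw [Subgroup.coe_inv]
    refine ((x : Vt F k (s + 1 + 1) ≃ₗ[F] Vt F k (s + 1 + 1)).symm_apply_eq).2 ?_
    rw [e, ← eA, ← eB, LinearEquiv.apply_symm_apply, LinearEquiv.apply_symm_apply]) (inv_ne_zero hμ) hq'
  obtain ⟨π, gs, hgs⟩ := isStd_of_maps hf (by omega) hS hS'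
  exact isStd_of_el e (fun η => hgs η)

end CfsgLib.Geo.OrthWreath
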