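/-
The setting in even dimension.
-/
import Cfsg.Agent.Lib.Geo.OrthWreath.Even.Tens

set_option autoImplicit false
set_option linter.unusedSectionVars false

namespace CfsgLib.Geo.OrthWreath

open CfsgLib.Classical CfsgLib.Classical.Quad CfsgLib.Known.OmegaCriterion Module
open CfsgLib.Geo.MixTensor (SymForm)
open LinearMap (BilinForm)

variable {F : Type*} [Field F] [Finite F] {k t : ℕ} {f : BilinForm F (Ud F k)} (hf : SymForm f)
  (hk : 4 ≤ k) (hke : Even k)
include hf hk hke

theorem small_even (thin : k = 4 → OrthTensorFour.Thin f) : OrthTensor.Small f where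
  form := hf
  three := by rw [finrank_fin_fun]; omega
  big _ := by rw [finrank_fin_fun]; omega
  four h d z h1 h2 h3 h4 := thin (by rwa [finrank_fin_fun] at h) d z h1 h2 h3 h4

/-- **The setting in even dimension.** -/
theorem core_even (thin : k = 4 → OrthTensorFour.Thin f) (ht : 1 ≤ t) {X : Subgroup (OQ (qT f (t + 1)))}
    (base : ∀ x ∈ commutator (OQ (qT f (t + 1))), IsStd x → x ∈ X)
    (le : X ≤ commutator (OQ (qT f (t + 1)))) (proper : ¬ commutator (OQ (qT f (t + 1))) ≤ X)
    (ih : ∀ Y : Subgroup (OQ (qT f t)), Y ≤ commutator (OQ (qT f t)) →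
      (∀ y ∈ commutator (OQ (qT f t)), IsStd y → y ∈ Y) →
      commutator (OQ (qT f t)) ≤ Y ∨ ∀ y ∈ Y, IsStd y) : Core hf X where
  k3 := by omega
  hk := Or.inr hk
  hq h := by omega
  thin := thin
  small := small_even hf hk hke thin
  t1 := ht
  base := base
  le := le
  proper := proper
  tor_pair_mem i j P P' _ _ hm hm' _ :=
    base _ (mul_mem (slot_mem_of_par hf hk hke ht i (par_tor hf hk hke P hm))
      (slot_mem_of_par hf hk hke ht j (par_tor hf hk hke P' hm'))) ((isStd_slot hf i _).mul (isStd_slot hf j _))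
  comp i P _ hdz hez hz g hg := comp_even hf hk hke ht i P hdz hez hz hg
  tens_std hx hT := tens_std_even hf hk hke ht (small_even hf hk hke thin) base proper ih hx hT
  refl_mem _ h2 l _ hc := base _ (slot_mem_of_two hf hk hke h2 l _) (isStd_slot hf l _)

end CfsgLib.Geo.OrthWreath
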