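/-
The Siegel elements of an isotropic line of one factor under an element mapping lines of pure tensors.
-/
import Cfsg.Agent.Lib.Geo.OrthWreath.Even.Setup
import Cfsg.Agent.Lib.Geo.OrthWreath.LineThree

set_option autoImplicit false
set_option linter.unusedSectionVars false

namespace CfsgLib.Geo.OrthWreath

open CfsgLib.Classical CfsgLib.Classical.Quad Module
open CfsgLib.Geo.MixTensor (SymForm)
open CfsgLib.Geo.OrthTensor (sv sv_apply exists_iso_partner)
open CfsgLib.Geo.TensorWreath (pvec)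
open QuadraticMap (polar polarBilin)
open LinearMap (BilinForm)

variable {F : Type*} [Field F] {k t : ℕ} {f : BilinForm F (Ud F k)} (hf : SymForm f)
include hf

/-- A factor isometry fixing an isotropic vector and acting trivially on its orthogonal modulo it. -/
theorem eq_sU_of_fix {v : OQ (qU f)} {d : Ud F k} (hd0 : d ≠ 0) (hd : f d d = 0)
    (hv : (v : Ud F k ≃ₗ[F] Ud F k) d = d)
    (h : ∀ y, f d y = 0 → ∃ c : F, (v : Ud F k ≃ₗ[F] Ud F k) y = y + c • d) :
    ∃ (z : Ud F k) (hz : f d z = 0), v = sU hf hd hz := by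
  obtain ⟨e, he, hde⟩ := exists_iso_partner hf hd hd0
  have hed : f e d = 1 := by rw [hf.symm, hde]
  set w := (v : Ud F k ≃ₗ[F] Ud F k) e - e with hw
  have hve : (v : Ud F k ≃ₗ[F] Ud F k) e = e + w := (add_sub_cancel _ _).symm
  have hdw : f d w = 0 := by
    have h1 := map_f hf v d e
    rw [hv, hve, map_add, hde] at h1
    linear_combination h1
  have hz : f d (w - f e w • d) = 0 := by simp [hdw, hd]
  refine ⟨w - f e w • d, hz, qU_ext hf fun a => ?_⟩
  have h2 := hf.two
  have hww : 2 * f e w + f w w = 0 := by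
    have h1 := map_f hf v e e
    rw [hve] at h1
    simp only [map_add, LinearMap.add_apply, he, hf.symm e w] at h1
    linear_combination h1
  -- decompose
  set y := a - f d a • e
  have hy : f d y = 0 := by simp [y, hde]
  obtain ⟨c, hc⟩ := h y hy
  have hfc : c + f w y = 0 := by
    have h1 := map_f hf v e y
    rw [hve, hc] at h1
    simp only [map_add, map_smul, LinearMap.add_apply, smul_eq_mul, hed, hf.symm d w, hdw] at h1
    linear_combination h1
  have hwy : f w y = f w a - f d a * f e w := by simp [y, hf.symm e w]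
  have hva : (v : Ud F k ≃ₗ[F] Ud F k) a = y + c • d + f d a • (e + w) := by
    rw [← hc, ← hve, ← map_smul, ← map_add]
    simp [y]
  rw [hva, sU_apply, show y = a - f d a • e from rfl,
    show c = -(f w a - f d a * f e w) by linear_combination hfc - hwy]
  simp only [map_sub, map_smul, LinearMap.sub_apply, LinearMap.smul_apply, smul_eq_mul, hd, hdw, hf.symm d w]
  have hww' : f w w = -(2 * f e w) := by linear_combination hww
  rw [hww']
  match_scalars <;> field_simp <;> ring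

/-- The difference quotient of a Siegel element of one factor. -/
theorem slot_sU_sub {i : Fin (t + 1)} {d z : Ud F k} (hd : f d d = 0) (hz : f d z = 0) (ξ : Vt F k (t + 1)) :
    (slot hf i (sU hf hd hz) : Vt F k (t + 1) ≃ₗ[F] Vt F k (t + 1)) ξ - ξ =
      Tm i z ((tensor hf i).flip.C d ξ) -
        Tm i d ((tensor hf i).flip.C z ξ + (f z z / 2) • (tensor hf i).flip.C d ξ) := by
  set D := tensor hf i
  refine LinearMap.congr_fun (Tm_ext i (L := lm (slot hf i (sU hf hd hz)) - 1)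
    (L' := Tm i z ∘ₗ D.flip.C d - Tm i d ∘ₗ (D.flip.C z + (f z z / 2) • D.flip.C d)) fun u w => ?_) ξ
  simp only [LinearMap.sub_apply, Module.End.one_apply, LinearMap.comp_apply, LinearMap.add_apply,
    LinearMap.smul_apply, show ∀ v, D.flip.C v (Tm i u w) = f v u • w from fun v => D.flip.C_T v w u]
  show (slot hf i (sU hf hd hz) : Vt F k (t + 1) ≃ₗ[F] Vt F k (t + 1)) (Tm i u w) - Tm i u w = _
  rw [slot_Tm_self, sU_apply]
  simp only [map_add, map_sub, map_smul, LinearMap.add_apply, LinearMap.sub_apply, LinearMap.smul_apply, smul_smul]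
  module

/-- The second difference of a Siegel element of one factor. -/
theorem slot_sU_sub_sub {i : Fin (t + 1)} {d z : Ud F k} (hd : f d d = 0) (hz : f d z = 0) (ξ : Vt F k (t + 1)) :
    (slot hf i (sU hf hd hz) : Vt F k (t + 1) ≃ₗ[F] Vt F k (t + 1))
          ((slot hf i (sU hf hd hz) : Vt F k (t + 1) ≃ₗ[F] Vt F k (t + 1)) ξ - ξ) -
        ((slot hf i (sU hf hd hz) : Vt F k (t + 1) ≃ₗ[F] Vt F k (t + 1)) ξ - ξ) =
      (-(f z z)) • Tm i d ((tensor hf i).flip.C d ξ) := by
  have hzd : f z d = 0 := by rw [hf.symm, hz]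
  have hT : ∀ u v w, (tensor hf i).flip.C v (Tm i u w) = f v u • w := fun u v w => (tensor hf i).flip.C_T v w u
  rw [slot_sU_sub hf hd hz ((slot hf i (sU hf hd hz) : Vt F k (t + 1) ≃ₗ[F] Vt F k (t + 1)) ξ - ξ),
    slot_sU_sub hf hd hz ξ]
  simp only [map_add, map_sub, map_smul, hT, hz, hd, hzd, zero_smul, sub_zero, smul_zero, add_zero, map_zero,
    zero_sub, neg_smul]

/-- An anisotropic vector orthogonal to an isotropic one. -/
theorem exists_perp_aniso (hk : 3 ≤ k) {d : Ud F k} (hd0 : d ≠ 0) (hd : f d d = 0) :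
    ∃ z, f d z = 0 ∧ f z z ≠ 0 := by
  obtain ⟨e, he, hde⟩ := exists_iso_partner hf hd hd0
  obtain ⟨z, h1, -, h2⟩ := Fr.exists_z hf ⟨d, e, hd, he, hde⟩ hk
  exact ⟨z, h1, h2⟩

/-- **An isometry commuting with the Siegel elements of a vector it scales by a sign.** -/
theorem eps_sU_of_comm (hk : 3 ≤ k) {M : OQ (qU f)} {d : Ud F k} (hd0 : d ≠ 0) (hd : f d d = 0) {ε : F}
    (hε : ε * ε = 1) (hMd : (M : Ud F k ≃ₗ[F] Ud F k) d = ε • d)
    (hc : ∀ (z : Ud F k) (hz : f d z = 0), f z z ≠ 0 → Commute M (sU hf hd hz)) :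
    ∃ (w : Ud F k) (hw : f d w = 0), ∀ a, (M : Ud F k ≃ₗ[F] Ud F k) a =
      ε • (sU hf hd hw : Ud F k ≃ₗ[F] Ud F k) a := by
  have hε0 : ε ≠ 0 := fun e => by simp [e] at hε
  obtain ⟨z₀, hz₀, hz₀'⟩ := exists_perp_aniso hf hk hd0 hd
  obtain ⟨e, he, hde⟩ := exists_iso_partner hf hd hd0
  have hperp : ∀ y, f d y = 0 → ∃ c : F, (M : Ud F k ≃ₗ[F] Ud F k) y = ε • y + c • d := by
    intro y hy
    set u := (M : Ud F k ≃ₗ[F] Ud F k) y - ε • y with hu
    have hdu : f d ((M : Ud F k ≃ₗ[F] Ud F k) y) = 0 := by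
      have h1 := map_f hf M d y
      rw [hMd, map_smul, LinearMap.smul_apply, smul_eq_mul, hy] at h1
      exact (mul_eq_zero.1 h1).resolve_left hε0
    have han : ∀ z, f d z = 0 → f z z ≠ 0 → f z u = 0 := by
      intro z hz hzz
      have h1 := congrArg (fun g : OQ (qU f) => (g : Ud F k ≃ₗ[F] Ud F k) y) (hc z hz hzz).eq
      simp only [Subgroup.coe_mul, LinearEquiv.mul_apply, sU_apply, hy, hdu, map_sub, map_smul, zero_smul, mul_zero,
        add_zero, sub_zero, hMd] at h1
      have h2 : (f z y * ε - f z ((M : Ud F k ≃ₗ[F] Ud F k) y)) • d = 0 := by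
        linear_combination (norm := module) -h1
      rw [hu, map_sub, map_smul, smul_eq_mul]
      linear_combination -((smul_eq_zero.1 h2).resolve_right hd0)
    have hall : ∀ z, f d z = 0 → f z u = 0 := by
      intro z hz
      by_cases hzz : f z z = 0
      swap
      · exact han z hz hzz
      by_cases h1 : f (z - z₀) (z - z₀) = 0
      · have h3 : f (z + z₀) (z + z₀) ≠ 0 := fun h2 => by
          simp only [map_sub, map_add, LinearMap.sub_apply, LinearMap.add_apply, hzz] at h1 h2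
          exact mul_ne_zero hf.two hz₀' (by linear_combination h1 + h2)
        have h4 := han (z + z₀) (by simp [hz, hz₀]) h3
        rw [show f (z + z₀) u = f z u + f z₀ u from LinearMap.map_add₂ f z z₀ u, han z₀ hz₀ hz₀', add_zero] at h4
        exact h4
      · have h4 := han (z - z₀) (by simp [hz, hz₀]) h1
        rw [show f (z - z₀) u = f z u - f z₀ u from LinearMap.map_sub₂ f z z₀ u, han z₀ hz₀ hz₀', sub_zero] at h4
        exact h4
    refine ⟨f e u, ?_⟩
    have h5 : u - f e u • d = 0 := hf.nd.2 _ fun x => by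
      have h6 := hall (x - f d x • e) (by simp [hde])
      simp only [map_sub, map_smul, LinearMap.sub_apply, LinearMap.smul_apply, smul_eq_mul] at h6 ⊢
      rw [hf.symm d x]
      linear_combination h6
    rw [sub_eq_zero] at h5
    rw [← h5, hu]
    abel
  set v : OQ (qU f) := mkU hf (A := ε • lm M) fun a b => by
    simp only [LinearMap.smul_apply, map_smul, smul_eq_mul, ← mul_assoc, hε, one_mul]
    exact map_f hf M a b
  have hv : ∀ a, (v : Ud F k ≃ₗ[F] Ud F k) a = ε • (M : Ud F k ≃ₗ[F] Ud F k) a := fun a => by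
    rw [mkU_apply]; rfl
  obtain ⟨w, hw, e'⟩ := eq_sU_of_fix hf hd0 hd (v := v) (by rw [hv, hMd, smul_smul, hε, one_smul]) fun y hy => by
    obtain ⟨c, hc⟩ := hperp y hy
    exact ⟨ε * c, by rw [hv, hc, smul_add, smul_smul, smul_smul, hε, one_smul]⟩
  exact ⟨w, hw, fun a => by rw [← e', hv, smul_smul, hε, one_smul]⟩

/-- A Siegel element whose square is trivial. -/
theorem sU_eq_one_of_sq {d w : Ud F k} (hd0 : d ≠ 0) (hd : f d d = 0) (hw : f d w = 0)
    (h : sU hf hd hw * sU hf hd hw = 1) : sU hf hd hw = 1 := by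
  obtain ⟨e, he, hde⟩ := exists_iso_partner hf hd hd0
  rw [sU_add] at h
  have h1 := congrArg (fun g : OQ (qU f) => (g : Ud F k ≃ₗ[F] Ud F k) e) h
  simp only [sU_apply, hde, one_smul, mul_one, OneMemClass.coe_one, LinearEquiv.coe_one, id_eq] at h1
  set c : F := 2⁻¹ * (f (w + w) e + f (w + w) (w + w) / 2)
  have hwd : w = c • d := by
    have h2 := hf.two
    have h3 : (2 : F) • w = (f (w + w) e + f (w + w) (w + w) / 2) • d := by
      linear_combination (norm := module) h1
    rw [show c • d = (2 : F)⁻¹ • (f (w + w) e + f (w + w) (w + w) / 2) • d from (smul_smul _ _ _).symm, ← h3,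
      inv_smul_smul₀ h2]
  refine qU_ext hf fun a => ?_
  rw [sU_apply, hwd]
  simp only [map_smul, LinearMap.smul_apply, smul_eq_mul, hd, mul_zero, zero_div, zero_mul, zero_smul, sub_zero,
    OneMemClass.coe_one, LinearEquiv.coe_one, id_eq, smul_smul]
  rw [mul_comm c (f d a), add_sub_cancel_right]

variable [Finite F]

namespace Core

variable {hf} {X : Subgroup (OQ (qT f (t + 1)))} (C : Core hf X)
include C

/-- **The Siegel elements of a line go to those of its image.** -/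
theorem map_siegel {x : OQ (qT f (t + 1))} (hx : x ∈ X) {i j : Fin (t + 1)} {d d' : Ud F k} (hd0 : d ≠ 0)
    (hd : f d d = 0) (hd'0 : d' ≠ 0) (hd' : f d' d' = 0) {A : Vt F k t ≃ₗ[F] Vt F k t}
    (h : ∀ a, (x : Vt F k (t + 1) ≃ₗ[F] Vt F k (t + 1)) (Tm i d a) = Tm j d' (A a))
    {z : Ud F k} (hz : f d z = 0) (hzz : f z z ≠ 0) :
    ∃ (w : Ud F k) (hw : f d' w = 0), x * slot hf i (sU hf hd hz) * x⁻¹ = slot hf j (sU hf hd' hw) ∧
      f w w ≠ 0 ∧ ∀ a b, f w w * frm f t a b = f z z * frm f t (A a) (A b) := by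
  have := C.nontrivW
  set Di := tensor hf i
  set Dj := tensor hf j
  set σ := slot hf i (sU hf hd hz)
  have hσ : σ ∈ X := C.base _ (slot_sU_mem hf C.five _ hd hz) (isStd_slot hf _ _)
  have conj : ∀ q, ((x * σ * x⁻¹ : OQ (qT f (t + 1))) : Vt F k (t + 1) ≃ₗ[F] Vt F k (t + 1))
      ((x : Vt F k (t + 1) ≃ₗ[F] Vt F k (t + 1)) q) =
      (x : Vt F k (t + 1) ≃ₗ[F] Vt F k (t + 1)) ((σ : Vt F k (t + 1) ≃ₗ[F] Vt F k (t + 1)) q) := fun q => by
    show (x : Vt F k (t + 1) ≃ₗ[F] Vt F k (t + 1)) ((σ : Vt F k (t + 1) ≃ₗ[F] Vt F k (t + 1))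
      ((x : Vt F k (t + 1) ≃ₗ[F] Vt F k (t + 1)).symm _)) = _
    rw [LinearEquiv.symm_apply_apply]
  obtain ⟨v, hv, hvd⟩ := C.fix_iso (x := x * σ * x⁻¹) (i := j) (X.mul_mem (X.mul_mem hx hσ) (X.inv_mem hx)) hd'0 hd'
    fun b => by
      obtain ⟨p, rfl⟩ := A.surjective b
      rw [← h, conj]
      rw [show (σ : Vt F k (t + 1) ≃ₗ[F] Vt F k (t + 1)) (Tm i d p) = Tm i d p by rw [slot_Tm_self, sU_self]]
  obtain ⟨w, hw, rfl⟩ := eq_sU_of_fix hf hd'0 hd' hvd fun y hy => by
    obtain ⟨b, hb⟩ := exists_ne (0 : Vt F k t)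
    obtain ⟨r, hr⟩ := Dj.exists_partner hb
    obtain ⟨ξ, hξ⟩ := (x : Vt F k (t + 1) ≃ₗ[F] Vt F k (t + 1)).surjective (Tm j y b)
    have hC : Di.flip.C d ξ = 0 := (frm_nondeg hf).2 _ fun p => by
      have h1 : frm f t p (Di.flip.C d ξ) = frm f (t + 1) (Tm i d p) ξ := by
        rw [← polar_qT hf (t := t + 1)]
        exact Di.flip.f_C p d ξ
      rw [h1, ← map_frm hf x, h, hξ, frm_Tm hf, hy, zero_mul]
    have h2 := conj ξ
    rw [hξ, hv, slot_Tm_self,
      show (σ : Vt F k (t + 1) ≃ₗ[F] Vt F k (t + 1)) ξ = (σ : Vt F k (t + 1) ≃ₗ[F] Vt F k (t + 1)) ξ - ξ + ξ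
        from (sub_add_cancel _ _).symm, slot_sU_sub hf hd hz, hC, map_zero, zero_sub, smul_zero, add_zero, map_add,
      map_neg, h, hξ] at h2
    have h3 := congrArg (Dj.C r) h2
    rw [Dj.C_T, hr, one_smul, map_add, map_neg, Dj.C_T, Dj.C_T, hr, one_smul] at h3
    exact ⟨-(frm f t r (A (Di.flip.C z ξ))), by rw [h3, neg_smul]; abel⟩
  refine ⟨w, hw, hv, ?_⟩
  obtain ⟨e, he, hde⟩ := exists_iso_partner hf hd hd0
  have hG : ∀ a, f w w • Dj.flip.C d' ((x : Vt F k (t + 1) ≃ₗ[F] Vt F k (t + 1)) (Tm i e a)) = f z z • A a := by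
    intro a
    set G := (x : Vt F k (t + 1) ≃ₗ[F] Vt F k (t + 1)) (Tm i e a)
    have h1 := congrArg (x : Vt F k (t + 1) ≃ₗ[F] Vt F k (t + 1)) (slot_sU_sub_sub hf (i := i) hd hz (Tm i e a))
    rw [show Di.flip.C d (Tm i e a) = a by rw [show Di.flip.C d (Tm i e a) = f d e • a from Di.flip.C_T d a e, hde,
      one_smul]] at h1
    simp only [map_sub, map_smul, h] at h1
    simp only [show slot hf i (sU hf hd hz) = σ from rfl, ← conj, hv] at h1
    have h4 := slot_sU_sub_sub hf (i := j) hd' hw G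
    simp only [map_sub] at h4
    rw [h4, neg_smul, neg_smul, neg_inj, ← map_smul (Tm j d'), ← map_smul (Tm j d')] at h1
    exact Dj.T_injective' hd'0 h1
  have hww : f w w ≠ 0 := fun h0 => by
    obtain ⟨a, ha⟩ := exists_ne (0 : Vt F k t)
    have h1 := hG a
    rw [h0, zero_smul] at h1
    exact ha (A.injective (by rw [map_zero]; exact (smul_eq_zero.1 h1.symm).resolve_left hzz))
  refine ⟨hww, fun a b => ?_⟩
  have h1 : frm f t a b = frm f t (A a) (Dj.flip.C d' ((x : Vt F k (t + 1) ≃ₗ[F] Vt F k (t + 1)) (Tm i e b))) := by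
    rw [show frm f t (A a) (Dj.flip.C d' ((x : Vt F k (t + 1) ≃ₗ[F] Vt F k (t + 1)) (Tm i e b))) =
      polar (qT f (t + 1)) (Tm j d' (A a)) ((x : Vt F k (t + 1) ≃ₗ[F] Vt F k (t + 1)) (Tm i e b)) from
      Dj.flip.f_C (A a) d' _, polar_qT hf, ← h, map_frm hf, frm_Tm hf, hde, one_mul]
  rw [h1, ← smul_eq_mul (f w w), ← map_smul, hG, map_smul, smul_eq_mul]

end Core

end CfsgLib.Geo.OrthWreath
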