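/-
An element mapping lines of pure tensors commutes with the companions of the factor elements; the stabiliser of
a line does not induce the whole group of the other factors.
-/
import Cfsg.Agent.Lib.Geo.OrthWreath.Even.Siegel

set_option autoImplicit false
set_option linter.unusedSectionVars false

namespace CfsgLib.Geo.OrthWreath

open CfsgLib.Classical CfsgLib.Classical.Quad CfsgLib.Known.OmegaCriterion Module
open CfsgLib.Geo.MixTensor (SymForm)
open CfsgLib.Geo.TensorWreath (pvec)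
open LinearMap (BilinForm)

variable {F : Type*} [Field F] [Finite F] {k t : ℕ} {f : BilinForm F (Ud F k)}

/-- The setting in even dimension. -/
structure EvenCtx (hf : SymForm f) (X : Subgroup (OQ (qT f (t + 1)))) : Prop extends Core hf X where
  k4 : 4 ≤ k
  ke : Even k
  ih : ∀ Y : Subgroup (OQ (qT f t)), Y ≤ commutator (OQ (qT f t)) →
    (∀ y ∈ commutator (OQ (qT f t)), IsStd y → y ∈ Y) →
    commutator (OQ (qT f t)) ≤ Y ∨ ∀ y ∈ Y, IsStd y

/-- A square among three products. -/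
theorem exists_square_pair {ι : Type*} [Fintype ι] (h2 : (2 : F) ≠ 0) (h3 : 3 ≤ Fintype.card ι) (n : ι → F)
    (hn : ∀ i, n i ≠ 0) : ∃ a b, a ≠ b ∧ IsSquare (n a * n b) := by
  classical
  have := Fintype.ofFinite F
  have hc : ringChar F ≠ 2 := fun h => h2 (by
    have : CharP F 2 := ringChar.eq_iff.1 h
    exact_mod_cast CharP.cast_eq_zero F 2)
  obtain ⟨a, b, hab, he⟩ := Fintype.exists_ne_map_eq_of_card_lt (fun i => decide (IsSquare (n i)))
    (by rw [Fintype.card_bool]; omega)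
  refine ⟨a, b, hab, ?_⟩
  by_cases ha : IsSquare (n a)
  · exact ha.mul (by simpa [ha] using he)
  · have hb : ¬ IsSquare (n b) := fun hb => ha (by simpa [hb] using he)
    rw [FiniteField.isSquare_iff hc (mul_ne_zero (hn a) (hn b)), mul_pow,
      (FiniteField.pow_dichotomy hc (hn a)).resolve_left fun h => ha ((FiniteField.isSquare_iff hc (hn a)).2 h),
      (FiniteField.pow_dichotomy hc (hn b)).resolve_left fun h => hb ((FiniteField.isSquare_iff hc (hn b)).2 h)]
    simp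

namespace Core

variable {hf : SymForm f} {X : Subgroup (OQ (qT f (t + 1)))} (C : Core hf X)
include C

/-- The inverse of an element mapping lines. -/
theorem line_inv {x : OQ (qT f (t + 1))} {i j : Fin (t + 1)} {d d' : Ud F k} {A : Vt F k t ≃ₗ[F] Vt F k t}
    (h : ∀ a, (x : Vt F k (t + 1) ≃ₗ[F] Vt F k (t + 1)) (Tm i d a) = Tm j d' (A a)) (b : Vt F k t) :
    ((x⁻¹ : OQ (qT f (t + 1))) : Vt F k (t + 1) ≃ₗ[F] Vt F k (t + 1)) (Tm j d' b) = Tm i d (A.symm b) := by
  rw [Subgroup.coe_inv]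
  refine (x : Vt F k (t + 1) ≃ₗ[F] Vt F k (t + 1)).symm_apply_eq.2 ?_
  rw [h, LinearEquiv.apply_symm_apply]

/-- **The companion of an element of the other factors.** -/
theorem comm_trick {x : OQ (qT f (t + 1))} (hx : x ∈ X) {i j : Fin (t + 1)} {d d' : Ud F k} (hd0 : d ≠ 0)
    (hd : f d d = 0) (hd'0 : d' ≠ 0) (hd' : f d' d' = 0) {A : Vt F k t ≃ₗ[F] Vt F k t}
    (h : ∀ a, (x : Vt F k (t + 1) ≃ₗ[F] Vt F k (t + 1)) (Tm i d a) = Tm j d' (A a))
    {s y : OQ (qT f t)} (hy : ∀ a, (y : Vt F k t ≃ₗ[F] Vt F k t) (A a) = A ((s : Vt F k t ≃ₗ[F] Vt F k t) a))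
    (hs : wl hf i s ∈ X) (hyX : wl hf j y ∈ X) :
    ∃ (w : Ud F k) (hw : f d' w = 0),
      x * wl hf i s * x⁻¹ = wl hf j y * slot hf j (sU hf hd' hw) ∧
      (s * s = 1 → x * wl hf i s * x⁻¹ = wl hf j y) := by
  set g := x * wl hf i s * x⁻¹
  have hg : g ∈ X := X.mul_mem (X.mul_mem hx hs) (X.inv_mem hx)
  have hgl : ∀ b, (g : Vt F k (t + 1) ≃ₗ[F] Vt F k (t + 1)) (Tm j d' b) =
      Tm j d' ((y : Vt F k t ≃ₗ[F] Vt F k t) b) := fun b => by
    simp only [g, Subgroup.coe_mul, LinearEquiv.mul_apply, C.line_inv h, wl_Tm, h, ← hy, LinearEquiv.apply_symm_apply]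
  obtain ⟨v, hv, hvd⟩ := C.fix_iso (x := (wl hf j y)⁻¹ * g) (i := j) (X.mul_mem (X.inv_mem hyX) hg) hd'0 hd'
    fun b => by
      rw [Subgroup.coe_mul, LinearEquiv.mul_apply, hgl, ← map_inv, wl_Tm, ← LinearEquiv.mul_apply, ← Subgroup.coe_mul,
        inv_mul_cancel]
      rfl
  have hgv : g = wl hf j y * slot hf j v := by rw [← hv, mul_inv_cancel_left]
  obtain ⟨w, hw, hvw⟩ := eps_sU_of_comm hf C.k3 (M := v) hd'0 hd' (ε := 1) (one_mul 1)
    (by rw [one_smul]; exact hvd) fun z hz hzz => by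
      refine slot_injective hf C.k1 j ?_
      rw [map_mul, map_mul]
      obtain ⟨w₀, hw₀, e₀, -, -⟩ := C.map_siegel (X.inv_mem hx) hd'0 hd' hd0 hd (A := A.symm) (C.line_inv h) hz hzz
      rw [inv_inv] at e₀
      have hS : slot hf j (sU hf hd' hz) = x * slot hf i (sU hf hd hw₀) * x⁻¹ := by rw [← e₀]; group
      have hgS : g * slot hf j (sU hf hd' hz) = slot hf j (sU hf hd' hz) * g := by
        rw [hS]
        calc g * (x * slot hf i (sU hf hd hw₀) * x⁻¹)
            = x * (wl hf i s * slot hf i (sU hf hd hw₀)) * x⁻¹ := by simp only [g]; group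
          _ = x * (slot hf i (sU hf hd hw₀) * wl hf i s) * x⁻¹ := by rw [(slot_wl_comm hf i _ s).eq]
          _ = _ := by simp only [g]; group
      rw [hgv, ← mul_assoc (slot hf j (sU hf hd' hz)), (slot_wl_comm hf j (sU hf hd' hz) y).eq, mul_assoc,
        mul_assoc] at hgS
      exact mul_left_cancel hgS
  have hv' : v = sU hf hd' hw := qU_ext hf fun a => by rw [hvw, one_smul]
  rw [hv'] at hgv
  refine ⟨w, hw, hgv, fun hss => ?_⟩
  have hyy : y * y = 1 := Subtype.ext (LinearEquiv.ext fun b => by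
    obtain ⟨a, rfl⟩ := A.surjective b
    rw [Subgroup.coe_mul, LinearEquiv.mul_apply, hy, hy]
    exact congrArg A (LinearEquiv.congr_fun (congrArg Subtype.val hss) a))
  have h1 : g * g = 1 := by
    calc g * g = x * (wl hf i s * wl hf i s) * x⁻¹ := by simp only [g]; group
      _ = 1 := by rw [← map_mul, hss, map_one, mul_one, mul_inv_cancel]
  rw [hgv, mul_assoc, ← mul_assoc (slot hf j (sU hf hd' hw)), (slot_wl_comm hf j _ y).eq, mul_assoc, ← mul_assoc,
    ← map_mul, hyy, map_one, one_mul, ← map_mul, ← map_one (slot hf j)] at h1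
  rw [hgv, sU_eq_one_of_sq hf hd'0 hd' hw (slot_injective hf C.k1 j h1), map_one, mul_one]

end Core

namespace EvenCtx

variable {hf : SymForm f} {X : Subgroup (OQ (qT f (t + 1)))} (C : EvenCtx hf X)
include C

theorem slot_mem (h2 : 2 ≤ t) (l : Fin (t + 1)) (u : OQ (qU f)) : slot hf l u ∈ X :=
  C.base _ (slot_mem_of_two hf C.k4 C.ke h2 l u) (isStd_slot hf l u)

/-- **The stabiliser of a line does not induce the whole group of the other factors.** -/
theorem no_full (h2 : 2 ≤ t) {i : Fin (t + 1)} {d : Ud F k} (hd0 : d ≠ 0) (hd : f d d = 0)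
    (h : ∀ B ∈ commutator (OQ (qT f t)), ∃ g ∈ X, ∀ a,
      (g : Vt F k (t + 1) ≃ₗ[F] Vt F k (t + 1)) (Tm i d a) = Tm i d ((B : Vt F k t ≃ₗ[F] Vt F k t) a)) :
    False := by
  classical
  have hk := C.k4
  have h2' := hf.two
  haveI : Invertible (2 : F) := invertibleOfNonzero hf.two
  obtain ⟨v, hv⟩ := LinearMap.BilinForm.exists_orthogonal_basis (B := f) ⟨fun x y => hf.symm y x⟩
  set bv : Basis (Fin k) F (Ud F k) := v.reindex (finCongr (finrank_fin_fun F)) with hbv
  have hbo : ∀ m n, m ≠ n → f (bv m) (bv n) = 0 := fun m n hmn => by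
    simp only [hbv, Basis.reindex_apply]
    exact hv (fun e => hmn ((finCongr (finrank_fin_fun F)).symm.injective e))
  have hb0 : ∀ m, f (bv m) (bv m) ≠ 0 := fun m h0 => bv.ne_zero m (hf.nd.1 _ fun y => by
    rw [show f (bv m) = 0 from bv.ext fun n => by
      by_cases hmn : m = n
      · subst hmn; simpa using h0
      · simpa using hbo m n hmn, LinearMap.zero_apply])
  obtain ⟨B', hB'⟩ := exists_pbasis fun _ : Fin t => bv
  set p : (Fin t → Fin k) → Vt F k t := fun c => pvec fun l => bv (c l) with hp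
  obtain ⟨m₁, m₂, hm, hsq⟩ := exists_square_pair hf.two (ι := Fin k) (by rw [Fintype.card_fin]; omega)
    (fun m => f (bv m) (bv m)) hb0
  -- the vectors
  let j₀ : Fin t := ⟨0, by omega⟩
  let j₁ : Fin t := ⟨1, by omega⟩
  have hj : j₁ ≠ j₀ := by simp [j₀, j₁]
  set c₁ : Fin t → Fin k := fun _ => m₁
  set c₂ : Fin t → Fin k := Function.update (fun _ => m₁) j₀ m₂
  set c₃ : Fin t → Fin k := fun _ => m₂
  have h12 : c₁ ≠ c₂ := fun e => hm (by simpa [c₁, c₂] using congrFun e j₀)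
  have h31 : c₃ ≠ c₁ := fun e => hm (congrFun e j₀).symm
  have h32 : c₃ ≠ c₂ := fun e => hm (by simpa [c₂, c₃, Function.update_of_ne hj] using (congrFun e j₁).symm)
  have hpo : ∀ c c', c ≠ c' → frm f t (p c) (p c') = 0 := fun c c' hcc => by
    obtain ⟨l, hl⟩ := Function.ne_iff.1 hcc
    rw [hp, frm_pvec]
    exact Finset.prod_eq_zero (Finset.mem_univ l) (hbo _ _ hl)
  have hp0 : ∀ c, frm f t (p c) (p c) ≠ 0 := fun c => by
    rw [hp, frm_pvec]; exact Finset.prod_ne_zero_iff.2 fun l _ => hb0 _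
  have hq : ∀ c, qT f t (p c) ≠ 0 := fun c => by
    rw [qT, smul_apply, LinearMap.BilinMap.toQuadraticMap_apply]
    exact mul_ne_zero (inv_ne_zero hf.two) (hp0 c)
  set R : (Fin t → Fin k) → OQ (qT f t) := fun c => Quad.refl (hq c)
  have hR : ∀ c u, (R c : Vt F k t ≃ₗ[F] Vt F k t) u = u - (2 * frm f t (p c) u / frm f t (p c) (p c)) • p c := by
    intro c u
    rw [Quad.refl_apply, polar_qT hf, qT, smul_apply, LinearMap.BilinMap.toQuadraticMap_apply, smul_eq_mul,
      frm_symm hf u (p c)]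
    congr 2
    field_simp
  set B := R c₁ * R c₂
  have hB : B ∈ commutator (OQ (qT f t)) := by
    rw [mem_commutator_iff (qT_nd hf) (reflTopT hf), par_mul (qT_nd hf) (reflTopT hf),
      spinor_mul (qT_nd hf) (reflTopT hf), par_refl (qT_nd hf), par_refl (qT_nd hf), spinor_refl (qT_nd hf),
      spinor_refl (qT_nd hf)]
    refine ⟨by decide, ?_⟩
    rw [← sqc_mul (hq _) (hq _), sqc_eq_one_iff (mul_ne_zero (hq _) (hq _))]
    have e1 : ∀ c, qT f t (p c) = (2 : F)⁻¹ * ∏ l, f (bv (c l)) (bv (c l)) := fun c => by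
      rw [qT, smul_apply, LinearMap.BilinMap.toQuadraticMap_apply, smul_eq_mul, hp, frm_pvec]
    have e2 : ∏ l, f (bv (c₂ l)) (bv (c₂ l)) = (∏ l, f (bv (c₁ l)) (bv (c₁ l))) *
        (f (bv m₂) (bv m₂) / f (bv m₁) (bv m₁)) := by
      have := hb0 m₁
      rw [← Finset.mul_prod_erase _ _ (Finset.mem_univ j₀), ← Finset.mul_prod_erase _ _ (Finset.mem_univ j₀),
        Finset.prod_congr rfl (g := fun l => f (bv (c₁ l)) (bv (c₁ l))) fun l hl => by
          simp [c₁, c₂, Function.update_of_ne (Finset.mem_erase.1 hl).1]]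
      simp only [c₁, c₂, Function.update_self]
      field_simp
    obtain ⟨r, hr⟩ := hsq
    refine ⟨(2 : F)⁻¹ * (∏ l, f (bv (c₁ l)) (bv (c₁ l))) * r / f (bv m₁) (bv m₁), ?_⟩
    rw [e1, e1, e2]
    have := hb0 m₁
    field_simp
    linear_combination (∏ l, f (bv (c₁ l)) (bv (c₁ l))) ^ 2 * hr
  set e : (Fin t → Fin k) → F := fun c => if c = c₁ ∨ c = c₂ then -1 else 1
  have he1 : ∀ c, e c * e c = 1 := fun c => by simp only [e]; split <;> norm_num
  have hBp : ∀ c, (B : Vt F k t ≃ₗ[F] Vt F k t) (p c) = e c • p c := by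
    intro c
    have hs : ∀ c', (R c' : Vt F k t ≃ₗ[F] Vt F k t) (p c) = if c' = c then -p c else p c := fun c' => by
      split
      · subst c'; rw [hR]; have := hp0 c; match_scalars; field_simp; ring
      · next hne => rw [hR, hpo _ _ hne]; simp
    rw [Subgroup.coe_mul, LinearEquiv.mul_apply, hs]
    by_cases ha : c = c₂
    · subst ha
      rw [if_pos rfl, map_neg, hs, if_neg h12]
      simp [e]
    rw [if_neg (Ne.symm ha), hs]
    by_cases hb : c = c₁
    · subst hb; simp [e]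
    · simp [if_neg (Ne.symm hb), e, ha, hb]
  -- the lift
  obtain ⟨g₀, hg₀, hg₀d⟩ := h B hB
  have hcomm : ∀ g ∈ X, (∀ a, (g : Vt F k (t + 1) ≃ₗ[F] Vt F k (t + 1)) (Tm i d a) =
      Tm i d ((B : Vt F k t ≃ₗ[F] Vt F k t) a)) → ∀ (l : Fin t) (m : Fin k),
      Commute g (wl hf i (slot hf l (rfU hf (hb0 m)))) := by
    intro g hg hgd l m
    set s := slot hf l (rfU hf (hb0 m))
    have hsB : ∀ a, (s : Vt F k t ≃ₗ[F] Vt F k t) ((B : Vt F k t ≃ₗ[F] Vt F k t) a) =
        (B : Vt F k t ≃ₗ[F] Vt F k t) ((s : Vt F k t ≃ₗ[F] Vt F k t) a) := fun a => by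
      refine LinearMap.congr_fun (B'.ext (f₁ := lm s ∘ₗ lm B) (f₂ := lm B ∘ₗ lm s) fun c => ?_) a
      have hsp : ∀ c, ∃ ε : F, (s : Vt F k t ≃ₗ[F] Vt F k t) (p c) = ε • p c := fun c => by
        rw [hp, slot_pvec, rfU_apply]
        by_cases hcm : c l = m
        · refine ⟨-1, ?_⟩
          rw [hcm, MixTensor.refl_apply, show bv m - (2 / f (bv m) (bv m) * f (bv m) (bv m)) • bv m = (-1 : F) • bv m by
            have := hb0 m; match_scalars; field_simp; ring, pvec_update_smul, ← hcm, Function.update_eq_self]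
        · refine ⟨1, ?_⟩
          rw [MixTensor.refl_apply, hbo _ _ (Ne.symm hcm), mul_zero, zero_smul, sub_zero, one_smul,
            Function.update_eq_self]
      obtain ⟨ε, hε⟩ := hsp c
      rw [hB' c]
      show (s : Vt F k t ≃ₗ[F] Vt F k t) ((B : Vt F k t ≃ₗ[F] Vt F k t) (p c)) =
        (B : Vt F k t ≃ₗ[F] Vt F k t) ((s : Vt F k t ≃ₗ[F] Vt F k t) (p c))
      rw [hBp, hε, map_smul, map_smul, hε, hBp, smul_comm]
    have hsX : wl hf i s ∈ X := by rw [wl_slot]; exact C.slot_mem h2 _ _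
    obtain ⟨-, -, -, h3⟩ := C.toCore.comm_trick hg hd0 hd hd0 hd (A := (B : Vt F k t ≃ₗ[F] Vt F k t)) hgd
      (s := s) (y := s) hsB hsX hsX
    exact mul_inv_eq_iff_eq_mul.1 (h3 (by rw [← map_mul, rfU_sq, map_one]))
  -- the components
  have comp : ∀ g ∈ X, (∀ a, (g : Vt F k (t + 1) ≃ₗ[F] Vt F k (t + 1)) (Tm i d a) =
      Tm i d ((B : Vt F k t ≃ₗ[F] Vt F k t) a)) → ∀ c, ∃ M : OQ (qU f),
      (∀ u, (g : Vt F k (t + 1) ≃ₗ[F] Vt F k (t + 1)) (Tm i u (p c)) =
        Tm i ((M : Ud F k ≃ₗ[F] Ud F k) u) (p c)) ∧ (M : Ud F k ≃ₗ[F] Ud F k) d = e c • d := by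
    intro g hg hgd c
    set D := tensor hf i
    set M : Module.End F (Ud F k) := (frm f t (p c) (p c))⁻¹ • (D.C (p c) ∘ₗ lm g ∘ₗ (Tm i).flip (p c))
    have hM : ∀ u, (g : Vt F k (t + 1) ≃ₗ[F] Vt F k (t + 1)) (Tm i u (p c)) = Tm i (M u) (p c) := fun u => by
      set G := (g : Vt F k (t + 1) ≃ₗ[F] Vt F k (t + 1)) (Tm i u (p c))
      refine D.V_ext fun r => LinearMap.congr_fun (B'.ext (f₁ := D.C.flip G) (f₂ := D.C.flip (Tm i (M u) (p c)))
        fun c' => ?_) r
      rw [hB' c', LinearMap.flip_apply, LinearMap.flip_apply, D.C_T]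
      show D.C (p c') G = frm f t (p c') (p c) • M u
      by_cases hcc : c' = c
      · subst hcc
        simp only [M, LinearMap.smul_apply, LinearMap.comp_apply, LinearMap.flip_apply]
        rw [smul_inv_smul₀ (hp0 c')]
        rfl
      rw [hpo _ _ hcc, zero_smul]
      obtain ⟨l, hl⟩ := Function.ne_iff.1 hcc
      refine D.fext fun u' => ?_
      rw [D.f_C, polar_qT hf, map_zero]
      set S := wl hf i (slot hf l (rfU hf (hb0 (c' l))))
      have hS : ∀ c'' u'', (S : Vt F k (t + 1) ≃ₗ[F] Vt F k (t + 1)) (Tm i u'' (p c'')) =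
          (if c'' l = c' l then (-1 : F) else 1) • Tm i u'' (p c'') := fun c'' u'' => by
        rw [wl_Tm, hp, slot_pvec, rfU_apply]
        split
        · next heq =>
          rw [heq, MixTensor.refl_apply, show bv (c' l) - (2 / f (bv (c' l)) (bv (c' l)) * f (bv (c' l)) (bv (c' l))) •
            bv (c' l) = (-1 : F) • bv (c' l) by have := hb0 (c' l); match_scalars; field_simp; ring,
            pvec_update_smul, ← heq, Function.update_eq_self, map_smul]
        · next hne =>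
          rw [MixTensor.refl_apply, hbo _ _ (Ne.symm hne), mul_zero, zero_smul, sub_zero, Function.update_eq_self,
            one_smul]
      have h1 := map_frm hf S (Tm i u' (p c')) G
      have hSG : (S : Vt F k (t + 1) ≃ₗ[F] Vt F k (t + 1)) G = G := by
        have h3 := congrArg (fun x : OQ (qT f (t + 1)) => (x : Vt F k (t + 1) ≃ₗ[F] Vt F k (t + 1)) (Tm i u (p c)))
          (hcomm g hg hgd l (c' l)).eq
        simp only [Subgroup.coe_mul, LinearEquiv.mul_apply] at h3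
        rw [hS, if_neg (Ne.symm hl), one_smul] at h3
        exact h3.symm
      rw [hS, if_pos rfl, hSG, map_smul, LinearMap.smul_apply, smul_eq_mul] at h1
      exact (mul_eq_zero.1 (show (2 : F) * frm f (t + 1) (Tm i u' (p c')) G = 0 by
        linear_combination -h1)).resolve_left hf.two
    have hiso : ∀ u u', f (M u) (M u') = f u u' := fun u u' => by
      have h1 := map_frm hf g (Tm i u (p c)) (Tm i u' (p c))
      rw [hM, hM, frm_Tm hf, frm_Tm hf] at h1
      exact mul_right_cancel₀ (hp0 c) h1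
    refine ⟨mkU hf hiso, fun u => by rw [hM, mkU_apply], ?_⟩
    have hpc : p c ≠ 0 := fun h0 => hp0 c (by simp [h0])
    refine (tensor hf i).T_injective hpc ?_
    rw [mkU_apply, ← hM, hgd, hBp, map_smul (Tm i), LinearMap.smul_apply, map_smul]
  -- a normalised lift
  have he3 : e c₃ = 1 := by simp [e, h31, h32]
  obtain ⟨M₃, hM₃, hM₃d⟩ := comp g₀ hg₀ hg₀d c₃
  rw [he3, one_smul] at hM₃d
  set g := slot hf i M₃⁻¹ * g₀ with hgdef
  have hg : g ∈ X := X.mul_mem (C.slot_mem h2 _ _) hg₀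
  have hMd' : ((M₃⁻¹ : OQ (qU f)) : Ud F k ≃ₗ[F] Ud F k) d = d := by
    rw [Subgroup.coe_inv]
    exact (M₃ : Ud F k ≃ₗ[F] Ud F k).symm_apply_eq.2 hM₃d.symm
  have hgd : ∀ a, (g : Vt F k (t + 1) ≃ₗ[F] Vt F k (t + 1)) (Tm i d a) =
      Tm i d ((B : Vt F k t ≃ₗ[F] Vt F k t) a) := fun a => by
    rw [hgdef, Subgroup.coe_mul, LinearEquiv.mul_apply, hg₀d, slot_Tm_self, hMd']
  have hg3 : ∀ u, (g : Vt F k (t + 1) ≃ₗ[F] Vt F k (t + 1)) (Tm i u (p c₃)) = Tm i u (p c₃) := fun u => by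
    rw [hgdef, Subgroup.coe_mul, LinearEquiv.mul_apply, hM₃, slot_Tm_self, Subgroup.coe_inv]
    exact congrArg (Tm i · (p c₃)) ((M₃ : Ud F k ≃ₗ[F] Ud F k).symm_apply_apply u)
  choose M hM hMd using comp g hg hgd
  -- each component commutes with the Siegel elements
  have hMw : ∀ c, ∃ (w : Ud F k) (hw : f d w = 0), ∀ u,
      (M c : Ud F k ≃ₗ[F] Ud F k) u = e c • (sU hf hd hw : Ud F k ≃ₗ[F] Ud F k) u := fun c =>
    eps_sU_of_comm hf C.k3 hd0 hd (he1 c) (hMd c) fun z hz hzz => by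
      obtain ⟨w, hw, ew, -, -⟩ := C.toCore.map_siegel hg hd0 hd hd0 hd (A := (B : Vt F k t ≃ₗ[F] Vt F k t)) hgd hz hzz
      have ew' : ∀ q, (g : Vt F k (t + 1) ≃ₗ[F] Vt F k (t + 1))
          ((slot hf i (sU hf hd hz) : Vt F k (t + 1) ≃ₗ[F] Vt F k (t + 1)) q) =
          (slot hf i (sU hf hd hw) : Vt F k (t + 1) ≃ₗ[F] Vt F k (t + 1))
            ((g : Vt F k (t + 1) ≃ₗ[F] Vt F k (t + 1)) q) := fun q => by
        rw [← LinearEquiv.mul_apply, ← LinearEquiv.mul_apply, ← Subgroup.coe_mul, ← Subgroup.coe_mul, ← ew,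
          inv_mul_cancel_right]
      have hinj : ∀ {c : Fin t → Fin k} {u u' : Ud F k}, Tm i u (p c) = Tm i u' (p c) → u = u' := fun {c} _ _ h0 =>
        (tensor hf i).T_injective (fun h' => hp0 c (by simp [h'])) h0
      have hzw : sU hf hd hz = sU hf hd hw := qU_ext hf fun u => hinj (c := c₃) (by
        have h1 := ew' (Tm i u (p c₃))
        rwa [slot_Tm_self, hg3, hg3, slot_Tm_self] at h1)
      refine qU_ext hf fun u => hinj (c := c) ?_
      have h1 := ew' (Tm i u (p c))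
      rw [slot_Tm_self, hM, hM, slot_Tm_self, ← hzw] at h1
      rw [Subgroup.coe_mul, LinearEquiv.mul_apply, Subgroup.coe_mul, LinearEquiv.mul_apply]
      exact h1
  obtain ⟨v', hv', -⟩ := C.toCore.fix_iso (x := g * g) (X.mul_mem hg hg) hd0 hd (i := i) fun a => by
    rw [Subgroup.coe_mul, LinearEquiv.mul_apply, hgd, hgd]
    congr 1
    refine LinearMap.congr_fun (B'.ext (f₁ := lm B ∘ₗ lm B) (f₂ := LinearMap.id) fun c => ?_) a
    rw [hB' c]
    show (B : Vt F k t ≃ₗ[F] Vt F k t) ((B : Vt F k t ≃ₗ[F] Vt F k t) (p c)) = p c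
    rw [hBp, map_smul, hBp, smul_smul, he1, one_smul]
  have hinj' : ∀ (c : Fin t → Fin k) (u u' : Ud F k), Tm i u (p c) = Tm i u' (p c) → u = u' := fun c _ _ h0 =>
    (tensor hf i).T_injective (fun h' => hp0 c (by simp [h'])) h0
  have hv1 : v' = 1 := qU_ext hf fun u => hinj' c₃ _ _ (by
    rw [← slot_Tm_self hf, ← hv', Subgroup.coe_mul, LinearEquiv.mul_apply, hg3, hg3]
    rfl)
  have hMe : ∀ c u, (M c : Ud F k ≃ₗ[F] Ud F k) u = e c • u := fun c u => by
    obtain ⟨w, hw, ew⟩ := hMw c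
    have h1 : sU hf hd hw * sU hf hd hw = 1 := qU_ext hf fun u => hinj' c _ _ (by
      have h1 := congrArg (fun x : OQ (qT f (t + 1)) => (x : Vt F k (t + 1) ≃ₗ[F] Vt F k (t + 1)) (Tm i u (p c))) hv'
      simp only [hv1, map_one, Subgroup.coe_mul, LinearEquiv.mul_apply, hM, ew, map_smul, LinearMap.smul_apply,
        smul_smul, he1, one_smul] at h1
      simpa [Subgroup.coe_mul] using h1)
    rw [ew, sU_eq_one_of_sq hf hd0 hd hw h1]
    rfl
  have hgw : g = wl hf i B := el_ext_Tm i fun u a => by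
    refine LinearMap.congr_fun (B'.ext (f₁ := lm g ∘ₗ Tm i u) (f₂ := lm (wl hf i B) ∘ₗ Tm i u) fun c => ?_) a
    rw [hB' c]
    show (g : Vt F k (t + 1) ≃ₗ[F] Vt F k (t + 1)) (Tm i u (p c)) =
      (wl hf i B : Vt F k (t + 1) ≃ₗ[F] Vt F k (t + 1)) (Tm i u (p c))
    rw [hM, hMe, wl_Tm, hBp, map_smul, map_smul, LinearMap.smul_apply]
  have hstd : IsStd g := C.tens_std hg (i := i) ⟨1, lm B, fun u a => by rw [hgw, wl_Tm]; rfl⟩
  -- but it is not standard
  have hgg : g * g = 1 := by rw [hv', hv1, map_one]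
  have hL : lm g * lm g = 1 := by rw [← lm_mul, hgg, lm_one]
  set S := LinearMap.range (LinearMap.coprod ((Tm i).flip (p c₁)) ((Tm i).flip (p c₂)))
  have hsub : ∀ ξ, lm g ξ - ξ ∈ S := by
    intro ξ
    have hz : S.mkQ ∘ₗ (lm g - 1) = 0 := Tm_ext i fun u a => by
      rw [LinearMap.comp_apply, LinearMap.zero_apply, Submodule.mkQ_apply, Submodule.Quotient.mk_eq_zero,
        LinearMap.sub_apply, Module.End.one_apply]
      show (g : Vt F k (t + 1) ≃ₗ[F] Vt F k (t + 1)) (Tm i u a) - _ ∈ S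
      rw [hgw, wl_Tm, ← map_sub, Subgroup.coe_mul, LinearEquiv.mul_apply, hR, hR]
      set α := 2 * frm f t (p c₂) a / frm f t (p c₂) (p c₂)
      set β := 2 * frm f t (p c₁) (a - α • p c₂) / frm f t (p c₁) (p c₁)
      exact ⟨((-β) • u, (-α) • u), by
        rw [show a - α • p c₂ - β • p c₁ - a = (-β) • p c₁ + (-α) • p c₂ by module]
        simp [map_smul]⟩
    have := LinearMap.congr_fun hz ξ
    rwa [LinearMap.comp_apply, LinearMap.zero_apply, Submodule.mkQ_apply, Submodule.Quotient.mk_eq_zero] at this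
  have hneg : finrank F (fixS (-lm g)) ≤ k + k := by
    refine (Submodule.finrank_mono (t := S) fun ξ hξ => ?_).trans ((LinearMap.finrank_range_le _).trans
      (le_of_eq (by rw [Module.finrank_prod, finrank_fin_fun])))
    rw [mem_fixS, LinearMap.neg_apply, neg_eq_iff_eq_neg] at hξ
    have h1 := S.smul_mem (-(2 : F)⁻¹) (hsub ξ)
    rw [hξ] at h1
    convert h1 using 1
    match_scalars
    field_simp
    norm_num
  have hsum := fixS_add hf.two hL
  rw [finrank_Vt] at hsum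
  have hpow : 4 * k ≤ k ^ t := by
    calc 4 * k ≤ k ^ 2 := by nlinarith
      _ ≤ k ^ t := Nat.pow_le_pow_right (by omega) h2
  have hk1 : k ^ (t + 1) = k * k ^ t := pow_succ' k t
  have hk2 : k * k ^ t = (k - 2) * k ^ t + 2 * k ^ t := by rw [← Nat.add_mul]; congr 1; omega
  have hdd : (k - 2) * k ^ t < (dd (lm g)).natAbs := by
    simp only [dd]
    omega
  rcases hstd.invol hf (by omega) hgg with h1 | ⟨gs, hgs, hgp⟩
  · have : 1 * k ^ t ≤ (k - 2) * k ^ t := Nat.mul_le_mul_right _ (by omega)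
    omega
  have hle : ∀ l, (dd (gs l)).natAbs = k ∨ (dd (gs l)).natAbs ≤ k - 2 := fun l => by
    obtain ⟨⟨n, hn⟩, hle⟩ := dd_even hf.two (hgs l) (by rw [finrank_fin_fun]; exact C.ke)
    rw [finrank_fin_fun] at hle
    obtain ⟨m, hm⟩ := C.ke
    omega
  have hall : ∀ l, (dd (gs l)).natAbs = k := fun l => by
    refine (hle l).resolve_right fun hl => ?_
    have h3 : ∏ j, (dd (gs (l.succAbove j))).natAbs ≤ k ^ t := by
      refine (Finset.prod_le_pow_card _ _ k fun j _ => ?_).trans (by simp)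
      rcases hle (l.succAbove j) with h | h <;> omega
    rw [hgp, dd_pmap hf.two hgs, show (∏ l, dd (gs l)).natAbs = ∏ l, (dd (gs l)).natAbs from
      map_prod Int.natAbsHom _ _, Fin.prod_univ_succAbove _ l] at hdd
    exact absurd hdd (not_lt.2 (Nat.mul_le_mul hl h3))
  choose γ hγ hγ' using fun l => scalar_of_dd hf.two (hgs l) (hall l)
  have hscal : ∀ ξ, lm g ξ = (∏ l, γ l) • ξ := fun ξ => by
    rw [hgp, show gs = fun l => γ l • (1 : Module.End F (Ud F k)) from funext hγ', pmap_smul_all,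
      show (fun _ : Fin (t + 1) => (1 : Module.End F (Ud F k))) = 1 from rfl, pmap_one]
    rfl
  obtain ⟨u, hu⟩ := exists_aniso_vec hf (k := k) (by omega)
  have hT0 : ∀ c, Tm i u (p c) ≠ 0 := fun c h0 => mul_ne_zero hu (hp0 c) (by
    rw [← frm_Tm hf i, h0]; simp)
  have k1 : e c₁ = ∏ l, γ l := smul_left_injective F (hT0 c₁) (by
    simp only [← hscal]
    show _ = (g : Vt F k (t + 1) ≃ₗ[F] Vt F k (t + 1)) (Tm i u (p c₁))
    rw [hgw, wl_Tm, hBp, map_smul])
  have k3 : e c₃ = ∏ l, γ l := smul_left_injective F (hT0 c₃) (by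
    simp only [← hscal]
    show _ = (g : Vt F k (t + 1) ≃ₗ[F] Vt F k (t + 1)) (Tm i u (p c₃))
    rw [hgw, wl_Tm, hBp, map_smul])
  rw [← k3, he3] at k1
  simp [e] at k1
  exact hf.two (by linear_combination -k1)

end EvenCtx

end CfsgLib.Geo.OrthWreath
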