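/-
In even dimension an element mapping an isotropic line of pure tensors to such a line is standard.
-/
import Cfsg.Agent.Lib.Geo.OrthWreath.Even.Full

set_option autoImplicit false
set_option linter.unusedSectionVars false

namespace CfsgLib.Geo.OrthWreath

open CfsgLib.Classical CfsgLib.Classical.Quad CfsgLib.Known.OmegaCriterion Module
open CfsgLib.Geo.MixTensor (SymForm)
open CfsgLib.Geo.OrthTensor (Tens sv sv_apply sv_eq_refl)
open CfsgLib.Geo.TensorWreath (pvec)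
open LinearMap (BilinForm)

variable {F : Type*} [Field F] {k t : ℕ} {f : BilinForm F (Ud F k)} (hf : SymForm f)

theorem pperm_mul (π ρ : Equiv.Perm (Fin t)) :
    (pperm π : Module.End F (Vt F k t)) * pperm ρ = pperm (π * ρ) := pvec_ext fun ξ => by
  simp only [Module.End.mul_apply, pperm_pvec]
  rfl

theorem pperm_one : (pperm (1 : Equiv.Perm (Fin t)) : Module.End F (Vt F k t)) = 1 := pvec_ext fun ξ => by
  simp [pperm_pvec]

include hf

/-- A permutation of the factors on the tensors at one factor. -/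
theorem exists_pel_Tm (π : Equiv.Perm (Fin (t + 1))) (i : Fin (t + 1)) :
    ∃ R : Vt F k t ≃ₗ[F] Vt F k t, ∀ u w,
      (pel hf π : Vt F k (t + 1) ≃ₗ[F] Vt F k (t + 1)) (Tm i u w) = Tm (π i) u (R w) := by
  classical
  have hex : ∀ m : Fin t, ∃ n : Fin t, (π i).succAbove n = π (i.succAbove m) := fun m =>
    Fin.exists_succAbove_eq fun e => Fin.succAbove_ne i m (π.injective e)
  choose ρ hρ using hex
  have hinj : Function.Injective ρ := fun a b hab =>
    Fin.succAbove_right_injective (π.injective (by rw [← hρ a, ← hρ b, hab]))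
  set ρ' : Equiv.Perm (Fin t) := Equiv.ofBijective ρ ⟨hinj, Finite.surjective_of_injective hinj⟩
  let R : Vt F k t ≃ₗ[F] Vt F k t := LinearEquiv.ofLinearMap (pperm ρ') (pperm ρ'⁻¹)
    (by rw [← Module.End.mul_eq_comp, pperm_mul, mul_inv_cancel, pperm_one, Module.End.one_eq_id])
    (by rw [← Module.End.mul_eq_comp, pperm_mul, inv_mul_cancel, pperm_one, Module.End.one_eq_id])
  refine ⟨R, fun u w => LinearMap.congr_fun (pvec_ext (L := lm (pel hf π) ∘ₗ Tm i u)
    (L' := Tm (π i) u ∘ₗ (R : Vt F k t →ₗ[F] Vt F k t)) fun η => ?_) w⟩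
  show (pel hf π : Vt F k (t + 1) ≃ₗ[F] Vt F k (t + 1)) (Tm i u (pvec η)) = Tm (π i) u (pperm ρ' (pvec η))
  rw [pperm_pvec, Tm_pvec, Tm_pvec, pel_pvec]
  congr 1
  funext l
  rcases Fin.eq_self_or_eq_succAbove (π i) l with rfl | ⟨n, rfl⟩
  · simp
  · obtain ⟨m, rfl⟩ := ρ'.surjective n
    rw [Fin.insertNth_apply_succAbove, show ρ' m = ρ m from rfl, hρ]
    simp only [Equiv.Perm.coe_inv]
    rw [      show ρ'.symm (ρ m) = m from ρ'.symm_apply_apply m, Equiv.symm_apply_apply, Fin.insertNth_apply_succAbove]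

variable [Finite F]

/-- The parity of a product of two reflections of one factor. -/
theorem par_slot_pair (hk : 4 ≤ k) (hke : Even k) (l : Fin t) {c c' : Ud F k} (hc : f c c ≠ 0) (hc' : f c' c' ≠ 0) :
    par (slot hf l (rfU hf hc * rfU hf hc')) = 0 := by
  classical
  rw [map_mul, par_mul (qT_nd hf) (reflTopT hf)]
  obtain ⟨s, rfl⟩ : ∃ s, t = s + 1 := ⟨t - 1, by have := l.isLt; omega⟩
  rcases Nat.eq_zero_or_pos s with rfl | hs
  · have key : ∀ {c : Ud F k} (hc : f c c ≠ 0), par (slot hf l (rfU hf hc)) = 1 := by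
      intro c hc
      have hq : qT f 1 (pvec fun _ => c) ≠ 0 := by
        rw [qT, smul_apply, LinearMap.BilinMap.toQuadraticMap_apply, smul_eq_mul, frm_pvec, Fin.prod_univ_one]
        exact mul_ne_zero (inv_ne_zero hf.two) hc
      have e : slot hf l (rfU hf hc) = Quad.refl hq := el_ext fun ξ => by
        obtain rfl : l = 0 := Fin.fin_one_eq_zero l
        rw [slot_pvec, rfU_apply, Quad.refl_apply, MixTensor.refl_apply, polar_qT hf, qT, smul_apply,
          LinearMap.BilinMap.toQuadraticMap_apply, smul_eq_mul, frm_pvec, frm_pvec, Fin.prod_univ_one,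
          Fin.prod_univ_one, hf.symm c (ξ 0), _root_.mul_inv_rev, inv_inv]
        have h1 := pvec_update_smul ξ (0 : Fin 1) (2 / f c c * f c (ξ 0)) c
        have h2 : Function.update ξ (0 : Fin 1) c = fun _ => c := funext fun n => by
          rw [Fin.fin_one_eq_zero n]; exact Function.update_self ..
        have h3 := pvec_update_add ξ (0 : Fin 1) (ξ 0) (-((2 / f c c * f c (ξ 0)) • c))
        rw [← sub_eq_add_neg, ← neg_smul, pvec_update_smul, h2, Function.update_eq_self] at h3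
        rw [h3]
        match_scalars <;> field_simp
      rw [e, par_refl (qT_nd hf)]
    rw [key hc, key hc']
    decide
  · obtain ⟨K₀, h⟩ := refl_class_at hf hk hke (t := s) hs l
    rw [(h c hc).1, (h c' hc').1, add_zero]

namespace Core

variable {hf} {X : Subgroup (OQ (qT f (t + 1)))} (C : Core hf X)
include C

/-- A standard permutation in the group moving one factor to another. -/
theorem exists_cycle_mem (h2 : 2 ≤ t) {i j : Fin (t + 1)} (hij : i ≠ j) :
    ∃ π : Equiv.Perm (Fin (t + 1)), π j = i ∧ pel hf π ∈ X := by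
  classical
  obtain ⟨m, hm⟩ := Finset.exists_mem_notMem_of_card_lt_card (s := ({i, j} : Finset (Fin (t + 1))))
    (t := Finset.univ) (by rw [Finset.card_pair hij, Finset.card_univ, Fintype.card_fin]; omega)
  simp only [Finset.mem_insert, Finset.mem_singleton, not_or] at hm
  obtain ⟨-, hmi, hmj⟩ := hm
  set s₁ := Equiv.swap i j
  set s₂ := Equiv.swap j m
  have hps : ∀ s : Equiv.Perm (Fin (t + 1)), s * s = 1 → (pel hf s)⁻¹ = pel hf s := fun s hs =>
    inv_eq_of_mul_eq_one_right (el_ext fun ξ => by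
      rw [Subgroup.coe_mul, LinearEquiv.mul_apply, pel_pvec, pel_pvec]
      simp only [← Equiv.Perm.mul_apply, ← mul_inv_rev, hs, inv_one, Equiv.Perm.one_apply]
      rfl)
  refine ⟨s₁ * s₂ * s₁ * s₂, ?_, ?_⟩
  · simp only [s₁, s₂, Equiv.Perm.mul_apply, Equiv.swap_apply_left, Equiv.swap_apply_right,
      Equiv.swap_apply_of_ne_of_ne hmi hmj]
  · have e : pel hf (s₁ * s₂ * s₁ * s₂) = pel hf s₁ * pel hf s₂ * (pel hf s₁)⁻¹ * (pel hf s₂)⁻¹ := el_ext fun ξ => by
      rw [pel_pvec, hps s₁ (Equiv.swap_mul_self _ _), hps s₂ (Equiv.swap_mul_self _ _)]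
      simp only [Subgroup.coe_mul, LinearEquiv.mul_apply, pel_pvec]
      rfl
    refine C.base _ ?_ (isStd_pel hf _)
    rw [e]
    exact comm_conj hf _ _

end Core

namespace EvenCtx

variable {hf} {X : Subgroup (OQ (qT f (t + 1)))} (C : EvenCtx hf X)
include C

/-- The companion of an element of one of the other factors. -/
theorem exists_conj_pair {x : OQ (qT f (t + 1))} (hx : x ∈ X) {i j : Fin (t + 1)} (hij : i = j ∨ t = 1)
    {d d' : Ud F k} (hd0 : d ≠ 0) (hd : f d d = 0) (hd'0 : d' ≠ 0) (hd' : f d' d' = 0)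
    {A : Vt F k t ≃ₗ[F] Vt F k t}
    (h : ∀ a, (x : Vt F k (t + 1) ≃ₗ[F] Vt F k (t + 1)) (Tm i d a) = Tm j d' (A a))
    (l : Fin t) {c c' : Ud F k} (hc : f c c ≠ 0) (hc' : f c' c' ≠ 0) :
    ∃ y : OQ (qT f t), (∀ a, (y : Vt F k t ≃ₗ[F] Vt F k t) (A a) =
      A ((slot hf l (rfU hf hc * rfU hf hc') : Vt F k t ≃ₗ[F] Vt F k t) a)) ∧
      wl hf i (slot hf l (rfU hf hc * rfU hf hc')) ∈ X ∧ wl hf j y ∈ X := by
  have hk := C.k4
  have hke := C.ke
  have ht := C.t1
  set s := slot hf l (rfU hf hc * rfU hf hc')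
  have hsX : wl hf i s ∈ X := C.base _ (wl_mem_of_par hf hk hke ht i (par_slot_pair hf hk hke l hc hc'))
    (isStd_wl hf (isStd_slot hf l _))
  obtain ⟨z, hz, hzz⟩ := exists_perp_aniso hf C.k3 hd0 hd
  obtain ⟨w, hw, -, hww, hsim⟩ := C.toCore.map_siegel hx hd0 hd hd'0 hd' h hz hzz
  have hμ : f w w / f z z ≠ 0 := div_ne_zero hww hzz
  have hA : ∀ a, qT f t (A a) = f w w / f z z * qT f t a := fun a => by
    rw [qT, smul_apply, smul_apply, LinearMap.BilinMap.toQuadraticMap_apply,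
      LinearMap.BilinMap.toQuadraticMap_apply, smul_eq_mul, smul_eq_mul]
    field_simp
    linear_combination (-(2 : F)⁻¹) * hsim a a
  obtain ⟨y, hy, hyp, hys⟩ := exists_sim_conj (qT_nd hf) (reflTopT hf) A hμ hA s
  rw [par_slot_pair hf hk hke l hc hc'] at hyp hys
  rw [pcl_zero, mul_one] at hys
  refine ⟨y, hy, hsX, C.base _ (wl_mem_of_par hf hk hke ht j hyp) (isStd_wl hf ?_)⟩
  rcases Nat.lt_or_ge t 2 with h1 | h1
  · obtain rfl : t = 1 := by omega
    exact isStd_level_one y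
  obtain rfl : i = j := hij.resolve_right (by omega)
  have hsC : s ∈ commutator (OQ (qT f t)) := by
    obtain ⟨r, rfl⟩ : ∃ r, t = r + 1 := ⟨t - 1, by omega⟩
    refine slot_mem_of_par hf hk hke (by omega) l ?_
    rw [par_mul (qU_nd hf) (reflTopU hf), par_rfU hf hk hke, par_rfU hf hk hke]
    decide
  have hyC : y ∈ commutator (OQ (qT f t)) := by
    rw [mem_commutator_iff (qT_nd hf) (reflTopT hf), hyp, hys]
    exact ⟨rfl, ((mem_commutator_iff (qT_nd hf) (reflTopT hf) s).1 hsC).2⟩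
  let Y : Subgroup (OQ (qT f t)) :=
    { carrier := {y | y ∈ commutator (OQ (qT f t)) ∧ ∃ g ∈ X, ∀ a,
        (g : Vt F k (t + 1) ≃ₗ[F] Vt F k (t + 1)) (Tm i d' a) = Tm i d' ((y : Vt F k t ≃ₗ[F] Vt F k t) a)}
      one_mem' := ⟨one_mem _, 1, X.one_mem, fun a => rfl⟩
      mul_mem' := by
        rintro p q ⟨hp, g, hg, eg⟩ ⟨hq, g', hg', eg'⟩
        exact ⟨mul_mem hp hq, g * g', X.mul_mem hg hg', fun a => by
          rw [Subgroup.coe_mul, LinearEquiv.mul_apply, eg', eg]; rfl⟩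
      inv_mem' := by
        rintro p ⟨hp, g, hg, eg⟩
        refine ⟨inv_mem hp, g⁻¹, X.inv_mem hg, fun a => ?_⟩
        rw [C.toCore.line_inv (A := (p : Vt F k t ≃ₗ[F] Vt F k t)) eg, Subgroup.coe_inv]
        rfl }
  rcases C.ih Y (fun p hp => hp.1) (fun p hp hps => ⟨hp, wl hf i p, C.base _ (wl_commutator hf i hp)
    (isStd_wl hf hps), fun a => wl_Tm hf i p d' a⟩) with h2 | h2
  · exact (C.no_full h1 hd'0 hd' fun B hB => (h2 hB).2).elim
  refine h2 y ⟨hyC, x * wl hf i s * x⁻¹, X.mul_mem (X.mul_mem hx hsX) (X.inv_mem hx), fun a => ?_⟩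
  simp only [Subgroup.coe_mul, LinearEquiv.mul_apply, C.toCore.line_inv h, wl_Tm, h, ← hy, LinearEquiv.apply_symm_apply]

/-- The conjugate of a Siegel element of one of the other factors. -/
theorem conj_sU {x : OQ (qT f (t + 1))} (hx : x ∈ X) {i j : Fin (t + 1)} (hij : i = j ∨ t = 1)
    {d d' : Ud F k} (hd0 : d ≠ 0) (hd : f d d = 0) (hd'0 : d' ≠ 0) (hd' : f d' d' = 0)
    {A : Vt F k t ≃ₗ[F] Vt F k t}
    (h : ∀ a, (x : Vt F k (t + 1) ≃ₗ[F] Vt F k (t + 1)) (Tm i d a) = Tm j d' (A a))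
    (l : Fin t) {c z : Ud F k} (hc0 : c ≠ 0) (hc : f c c = 0) (hz : f c z = 0) (hzz : f z z ≠ 0) :
    ∃ y : OQ (qT f t), (∀ a, (y : Vt F k t ≃ₗ[F] Vt F k t) (A a) =
      A ((slot hf l (sU hf hc hz) : Vt F k t ≃ₗ[F] Vt F k t) a)) ∧
      x * wl hf i (slot hf l (sU hf hc hz)) * x⁻¹ = wl hf j y := by
  obtain ⟨P, hPd, hPz⟩ := exists_frame_perp hf hc0 hc hz hzz
  have hn := OrthTensor.sv_norm hf hc hz
  set z' := z + (f z z / 2) • c
  have hz' : f z' z' ≠ 0 := hn ▸ hzz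
  have e1 : sU hf hc hz = rfU hf hzz * rfU hf hz' := qU_ext hf fun a => by
    rw [sU, mkU_apply, Subgroup.coe_mul, LinearEquiv.mul_apply, rfU_apply, rfU_apply, sv_eq_refl hf hc hz hzz]
  set m : F := -1
  have hm : m ≠ 0 := neg_ne_zero.2 one_ne_zero
  set σ := sU hf hc hz
  set τ := P.tor hf hm
  have hτσ : τ * σ * τ = σ⁻¹ := by
    rw [sU_inv]
    refine qU_ext hf fun a => ?_
    have hzP : f z P.e = 0 := by rw [hf.symm, hPz]
    have hcP : f c P.e = 1 := by rw [← hPd]; exact P.de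
    have hPc : f P.e c = 1 := by rw [hf.symm, hcP]
    simp only [τ, σ, Subgroup.coe_mul, LinearEquiv.mul_apply, P.tor_apply hf, sU_apply, hPd, map_add, map_sub,
      map_smul, map_neg, LinearMap.neg_apply, smul_eq_mul, m, hc, hz, hPz, hzP, hcP, hPc, P.ee, hf.symm c z, inv_neg, inv_one]
    match_scalars <;> ring
  obtain ⟨y, hy, hsX, hyX⟩ : ∃ y : OQ (qT f t), (∀ a, (y : Vt F k t ≃ₗ[F] Vt F k t) (A a) =
      A ((slot hf l σ : Vt F k t ≃ₗ[F] Vt F k t) a)) ∧ wl hf i (slot hf l σ) ∈ X ∧ wl hf j y ∈ X := by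
    rw [e1]
    exact C.exists_conj_pair hx hij hd0 hd hd'0 hd' h l hzz hz'
  obtain ⟨yτ, hyτ, hτX, hyτX⟩ : ∃ y : OQ (qT f t), (∀ a, (y : Vt F k t ≃ₗ[F] Vt F k t) (A a) =
      A ((slot hf l τ : Vt F k t ≃ₗ[F] Vt F k t) a)) ∧ wl hf i (slot hf l τ) ∈ X ∧ wl hf j y ∈ X :=
    C.exists_conj_pair hx hij hd0 hd hd'0 hd' h l _ _
  obtain ⟨w, hw, e, -⟩ := C.toCore.comm_trick hx hd0 hd hd'0 hd' h hy hsX hyX
  obtain ⟨-, -, -, eτ⟩ := C.toCore.comm_trick hx hd0 hd hd'0 hd' h hyτ hτX hyτX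
  have hττ : slot hf l τ * slot hf l τ = 1 := by
    rw [← map_mul, P.tor_mul hf, ← map_one (slot hf l)]
    congr 1
    refine qU_ext hf fun a => ?_
    simp [P.tor_apply hf, m]
  have eτ' := eτ hττ
  set S := slot hf l σ
  set T := slot hf l τ
  have hTS : T * S * T = S⁻¹ := by simp only [S, T, ← map_mul, ← map_inv, hτσ]
  have hyTS : yτ * y * yτ = y⁻¹ := by
    refine eq_inv_of_mul_eq_one_left (Subtype.ext (LinearEquiv.ext fun b => ?_))
    obtain ⟨a, rfl⟩ := A.surjective b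
    simp only [Subgroup.coe_mul, LinearEquiv.mul_apply, hy, hyτ]
    refine congrArg A (LinearEquiv.congr_fun (congrArg Subtype.val (?_ : T * S * T * S = 1)) a)
    rw [hTS, inv_mul_cancel]
  set V := slot hf j (sU hf hd' hw)
  have hcy : ∀ q, Commute V (wl hf j q) := fun q => slot_wl_comm hf j _ q
  have h1 : wl hf j yτ * (wl hf j y * V) * wl hf j yτ = (wl hf j y * V)⁻¹ := by
    rw [← e, ← eτ']
    calc _ = x * (wl hf i T * wl hf i S * wl hf i T) * x⁻¹ := by group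
      _ = _ := by rw [← map_mul, ← map_mul, hTS, map_inv]; group
  rw [show wl hf j yτ * (wl hf j y * V) * wl hf j yτ = wl hf j (yτ * y * yτ) * V by
    rw [map_mul, map_mul, ← mul_assoc, mul_assoc _ V, (hcy yτ).eq, ← mul_assoc], hyTS, _root_.mul_inv_rev,
    ← map_inv (wl hf j), (hcy y⁻¹).inv_left.eq] at h1
  have h2 : V * V = 1 := by
    have := mul_left_cancel h1
    calc V * V = V * V⁻¹ := by rw [← this]
      _ = 1 := mul_inv_cancel V
  rw [← map_mul, ← map_one (slot hf j)] at h2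
  refine ⟨y, hy, ?_⟩
  rw [e, show V = 1 by
    rw [show V = slot hf j (sU hf hd' hw) from rfl, sU_eq_one_of_sq hf hd'0 hd' hw (slot_injective hf C.toCore.k1 j h2),
      map_one], mul_one]

/-- **A product from a line.** -/
theorem exists_tens {x : OQ (qT f (t + 1))} (hx : x ∈ X) {i j : Fin (t + 1)} (hij : i = j ∨ t = 1)
    {d d' : Ud F k} (hd0 : d ≠ 0) (hd : f d d = 0) (hd'0 : d' ≠ 0) (hd' : f d' d' = 0)
    {A : Vt F k t ≃ₗ[F] Vt F k t}
    (h : ∀ a, (x : Vt F k (t + 1) ≃ₗ[F] Vt F k (t + 1)) (Tm i d a) = Tm j d' (A a)) :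
    ∃ M : Module.End F (Ud F k), ∀ u a,
      (x : Vt F k (t + 1) ≃ₗ[F] Vt F k (t + 1)) (Tm i u a) = Tm j (M u) (A a) := by
  classical
  obtain ⟨R, hR⟩ := exists_pel_Tm hf (Equiv.swap j i) j
  rw [Equiv.swap_apply_left] at hR
  set Ψ : Module.End F (Vt F k (t + 1)) :=
    em i 1 ((A.symm : Vt F k t →ₗ[F] Vt F k t) ∘ₗ (R.symm : Vt F k t →ₗ[F] Vt F k t)) * lm (pel hf (Equiv.swap j i))
  have hΨ : ∀ u b, Ψ (Tm j u b) = Tm i u (A.symm b) := fun u b => by
    rw [Module.End.mul_apply, show lm (pel hf (Equiv.swap j i)) (Tm j u b) = _ from hR u b, em_Tm]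
    simp
  obtain ⟨M, hM⟩ := exists_emb_of_comm hf C.k3 (l := i) (A := Ψ * lm x) fun l hl c z hc hz hc0 hzz => by
    obtain ⟨m, rfl⟩ := Fin.exists_succAbove_eq hl
    obtain ⟨y, hy, e⟩ := C.conj_sU hx hij hd0 hd hd'0 hd' h m hc0 hc hz hzz
    set s := slot hf m (sU hf hc hz)
    have h1 : Ψ * lm (wl hf j y) = lm (wl hf i s) * Ψ := Tm_ext j fun u b => by
      show Ψ (lm (wl hf j y) (Tm j u b)) = lm (wl hf i s) (Ψ (Tm j u b))
      rw [hΨ]
      show Ψ ((wl hf j y : Vt F k (t + 1) ≃ₗ[F] Vt F k (t + 1)) (Tm j u b)) =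
        (wl hf i s : Vt F k (t + 1) ≃ₗ[F] Vt F k (t + 1)) (Tm i u (A.symm b))
      rw [wl_Tm, hΨ, wl_Tm]
      congr 1
      exact A.injective (by rw [LinearEquiv.apply_symm_apply, ← hy, LinearEquiv.apply_symm_apply])
    rw [← wl_slot]
    calc lm (wl hf i s) * (Ψ * lm x) = Ψ * lm (wl hf j y) * lm x := by rw [h1]; exact (mul_assoc _ _ _).symm
      _ = Ψ * (lm (wl hf j y) * lm x) := mul_assoc _ _ _
      _ = Ψ * lm (x * wl hf i s) := by rw [← lm_mul, ← e, inv_mul_cancel_right]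
      _ = Ψ * lm x * lm (wl hf i s) := (mul_assoc _ _ _).symm
  refine ⟨M, fun u a => ?_⟩
  have h2 := LinearMap.congr_fun hM (Tm i u a)
  rw [Module.End.mul_apply, emb_Tm_self] at h2
  set G := (x : Vt F k (t + 1) ≃ₗ[F] Vt F k (t + 1)) (Tm i u a)
  have hinj : Function.Injective Ψ := by
    let Φ : Module.End F (Vt F k (t + 1)) := lm (pel hf (Equiv.swap j i))⁻¹ *
      em i 1 ((R : Vt F k t →ₗ[F] Vt F k t) ∘ₗ (A : Vt F k t →ₗ[F] Vt F k t))
    have hΦ : Φ * Ψ = 1 := by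
      simp only [Φ, Ψ]
      rw [mul_assoc, ← mul_assoc (em i _ _), em_mul, mul_one,
        show ((R : Vt F k t →ₗ[F] Vt F k t) ∘ₗ (A : Vt F k t →ₗ[F] Vt F k t)) *
          ((A.symm : Vt F k t →ₗ[F] Vt F k t) ∘ₗ (R.symm : Vt F k t →ₗ[F] Vt F k t)) = 1 from
          LinearMap.ext fun b => by simp, em_one, one_mul, lm_inv_mul]
    exact Function.LeftInverse.injective (g := Φ) fun v => LinearMap.congr_fun hΦ v
  refine hinj ?_
  rw [hΨ, LinearEquiv.symm_apply_apply]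
  exact h2

/-- **An element mapping an isotropic line of pure tensors to such a line is standard.** -/
theorem line_std {x : OQ (qT f (t + 1))} (hx : x ∈ X) {i j : Fin (t + 1)} {d d' : Ud F k} (hd0 : d ≠ 0)
    (hd : f d d = 0) {A : Module.End F (Vt F k t)}
    (h : ∀ a, (x : Vt F k (t + 1) ≃ₗ[F] Vt F k (t + 1)) (Tm i d a) = Tm j d' (A a)) : IsStd x := by
  classical
  haveI := C.toCore.nontrivW
  -- to the same factor
  have main : ∀ (x : OQ (qT f (t + 1))) (j : Fin (t + 1)) (d' : Ud F k) (A : Module.End F (Vt F k t)), x ∈ X →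
      (i = j ∨ t = 1) → (∀ a, (x : Vt F k (t + 1) ≃ₗ[F] Vt F k (t + 1)) (Tm i d a) = Tm j d' (A a)) →
      IsStd x := by
    intro x j d' A hx hij h
    have hA : Function.Injective A := fun p q e => (tensor hf i).T_injective' hd0
      ((x : Vt F k (t + 1) ≃ₗ[F] Vt F k (t + 1)).injective (by rw [h, h, e]))
    set A' := LinearEquiv.ofInjectiveEndo A hA
    have hA' : ∀ a, A' a = A a := fun _ => rfl
    obtain ⟨a₀, ha₀⟩ := exists_ne (0 : Vt F k t)
    have hd'0 : d' ≠ 0 := fun h0 => ha₀ ((tensor hf i).T_eq_zero' hd0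
      ((x : Vt F k (t + 1) ≃ₗ[F] Vt F k (t + 1)).injective (by rw [h, h0]; simp)))
    have hd' : f d' d' = 0 := by
      obtain ⟨b, hb⟩ := (symForm_frm hf (t := t)).exists_aniso
      obtain ⟨a, rfl⟩ := A'.surjective b
      have h1 := map_frm hf x (Tm i d a) (Tm i d a)
      rw [h, frm_Tm hf, frm_Tm hf, hd, zero_mul, mul_eq_zero] at h1
      exact h1.resolve_right hb
    obtain ⟨M, hM⟩ := C.exists_tens hx hij hd0 hd hd'0 hd' (A := A') (fun a => h a)
    by_cases hij' : i = j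
    · subst hij'
      exact C.tens_std hx ⟨M, (A' : Vt F k t →ₗ[F] Vt F k t), fun u a => hM u a⟩
    obtain rfl : t = 1 := hij.resolve_left hij'
    obtain ⟨R, hR⟩ := exists_pel_Tm hf (Equiv.swap j i) j
    rw [Equiv.swap_apply_left] at hR
    have h2 : IsStd (pel hf (Equiv.swap j i) * x) := isStd_of_tens_one (i := i)
      ⟨M, (R : Vt F k 1 →ₗ[F] Vt F k 1) ∘ₗ (A' : Vt F k 1 →ₗ[F] Vt F k 1), fun u a => by
        rw [Subgroup.coe_mul, LinearEquiv.mul_apply, hM, hR]; rfl⟩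
    have := (C.toCore.isStd_inv (isStd_pel hf (Equiv.swap j i))).mul h2
    rwa [inv_mul_cancel_left] at this
  by_cases hij : i = j ∨ t = 1
  · exact main x j d' A hx hij h
  push Not at hij
  obtain ⟨π, hπ, hπX⟩ := C.toCore.exists_cycle_mem (by have := C.t1; omega) hij.1
  obtain ⟨R, hR⟩ := exists_pel_Tm hf π j
  rw [hπ] at hR
  have h2 := main (pel hf π * x) i d' ((R : Vt F k t →ₗ[F] Vt F k t) ∘ₗ A) (X.mul_mem hπX hx) (Or.inl rfl) fun a => by
    rw [Subgroup.coe_mul, LinearEquiv.mul_apply, h, hR]; rfl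
  have := (C.toCore.isStd_inv (isStd_pel hf π)).mul h2
  rwa [inv_mul_cancel_left] at this

/-- **An element conjugating a Siegel element of one factor to an element of one factor is standard.** -/
theorem conj_std {x : OQ (qT f (t + 1))} (hx : x ∈ X) {i j : Fin (t + 1)} {d z : Ud F k} (hd0 : d ≠ 0)
    (hd : f d d = 0) (hdz : f d z = 0) (hz : f z z ≠ 0) {v : OQ (qU f)}
    (e : x * slot hf i (sU hf hd hdz) * x⁻¹ = slot hf j v) : IsStd x := by
  classical
  set p := pel hf (Equiv.swap j i)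
  have hp : p * slot hf j v = slot hf i v * p := by rw [pel_slot, Equiv.swap_apply_left]
  have ey : p * x * slot hf i (sU hf hd hdz) * (p * x)⁻¹ = slot hf i v := by
    calc p * x * slot hf i (sU hf hd hdz) * (p * x)⁻¹
        = p * (x * slot hf i (sU hf hd hdz) * x⁻¹) * p⁻¹ := by group
      _ = slot hf i v := by rw [e, hp, mul_inv_cancel_right]
  obtain ⟨A, d', -, hmap⟩ := (C.toCore.liteS i).line_of_siegel (x := p * x) (σ := slot hf i (sU hf hd hdz)) hd0 hd hdz hz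
    (fun p q => by rw [LinearMap.flip_apply, LinearMap.flip_apply, slot_Tm_self, sU, mkU_apply])
    (B := lm v) (fun p q => by rw [ey, LinearMap.flip_apply, LinearMap.flip_apply, slot_Tm_self]; rfl)
  obtain ⟨R, hR⟩ := exists_pel_Tm hf (Equiv.swap j i) i
  rw [Equiv.swap_apply_right] at hR
  refine C.line_std hx hd0 hd (i := i) (j := j) (d' := d') (A := (R : Vt F k t →ₗ[F] Vt F k t) ∘ₗ A) fun a => ?_
  have h1 := hmap a
  rw [LinearMap.flip_apply, LinearMap.flip_apply, Subgroup.coe_mul, LinearEquiv.mul_apply] at h1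
  have hpp : ∀ v, (p : Vt F k (t + 1) ≃ₗ[F] Vt F k (t + 1)) ((p : Vt F k (t + 1) ≃ₗ[F] Vt F k (t + 1)) v) = v :=
    fun v => LinearMap.congr_fun (pvec_ext (L := lm p * lm p) (L' := 1) fun ξ => by
      show (p : Vt F k (t + 1) ≃ₗ[F] Vt F k (t + 1)) ((p : Vt F k (t + 1) ≃ₗ[F] Vt F k (t + 1)) (pvec ξ)) = pvec ξ
      simp [p, pel_pvec]) v
  rw [← hpp ((x : Vt F k (t + 1) ≃ₗ[F] Vt F k (t + 1)) (Tm i d a)), h1, hR]
  rfl

/-- **The centraliser of a Siegel element of one factor.** -/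
theorem centr_sigma {x : OQ (qT f (t + 1))} (hx : x ∈ X) {i : Fin (t + 1)} {d z : Ud F k} (hd0 : d ≠ 0)
    (hd : f d d = 0) (hdz : f d z = 0) (hz : f z z ≠ 0) (h : Commute x (slot hf i (sU hf hd hdz))) : IsStd x :=
  C.conj_std hx hd0 hd hdz hz (j := i) (v := sU hf hd hdz) (mul_inv_eq_of_eq_mul h.eq)

end EvenCtx

end CfsgLib.Geo.OrthWreath
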