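/-
In even dimension the elements fixing an anisotropic line of pure tensors pointwise act on one factor.
-/
import Cfsg.Agent.Lib.Geo.OrthWreath.Even.Line
import Cfsg.Agent.Lib.Geo.OrthWreath.PointFix
import Cfsg.Agent.Lib.Geo.OrthWreath.Prod

set_option autoImplicit false
set_option linter.unusedSectionVars false

namespace CfsgLib.Geo.OrthWreath

open CfsgLib.Classical CfsgLib.Classical.Quad CfsgLib.Known.OmegaCriterion Module
open CfsgLib.Geo.MixTensor (SymForm)
open CfsgLib.Geo.TensorWreath (pvec)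
open LinearMap (BilinForm)

variable {F : Type*} [Field F] {k t : ℕ} {f : BilinForm F (Ud F k)}

theorem rfU_self (hf : SymForm f) {c : Ud F k} (hc : f c c ≠ 0) :
    (rfU hf hc : Ud F k ≃ₗ[F] Ud F k) c = -c := by
  rw [rfU_apply, MixTensor.refl_apply, div_mul_cancel₀ _ hc]
  module

theorem rfU_perp (hf : SymForm f) {c y : Ud F k} (hc : f c c ≠ 0) (h : f c y = 0) :
    (rfU hf hc : Ud F k ≃ₗ[F] Ud F k) y = y := by
  rw [rfU_apply]
  exact hf.refl_fix h

theorem rfU_comm (hf : SymForm f) {a b : Ud F k} (ha : f a a ≠ 0) (hb : f b b ≠ 0) (hab : f a b = 0) :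
    Commute (rfU hf ha) (rfU hf hb) := qU_ext hf fun y => by
  have hba : f b a = 0 := by rw [hf.symm, hab]
  simp only [Subgroup.coe_mul, LinearEquiv.mul_apply, rfU_apply, MixTensor.refl_apply, map_sub, map_smul, hab, hba,
    mul_zero, zero_smul, sub_zero]
  abel

/-- An isotropic vector with an anisotropic plane orthogonal to it and to the given vector. -/
def Plane (f : BilinForm F (Ud F k)) (a : Ud F k) : Prop :=
  ∃ d z₁ z₂, d ≠ 0 ∧ f d d = 0 ∧ f d z₁ = 0 ∧ f d z₂ = 0 ∧ f a d = 0 ∧ f a z₁ = 0 ∧ f a z₂ = 0 ∧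
    ∀ s r : F, (s ≠ 0 ∨ r ≠ 0) → f (s • z₁ + r • z₂) (s • z₁ + r • z₂) ≠ 0

variable [Finite F]

theorem exists_plane_any (hf : SymForm f) (hk : 4 ≤ k) (thin : k = 4 → OrthTensorFour.Thin f) :
    ∃ d z₁ z₂ : Ud F k, d ≠ 0 ∧ f d d = 0 ∧ f d z₁ = 0 ∧ f d z₂ = 0 ∧
      ∀ s r : F, (s ≠ 0 ∨ r ≠ 0) → f (s • z₁ + r • z₂) (s • z₁ + r • z₂) ≠ 0 := by
  rcases eq_or_lt_of_le hk with h4 | h5
  · obtain ⟨a, ha, -⟩ := (orth_nil (f := f)).exists_aniso hf (by omega)
    obtain ⟨d, z, hd0, hd, hdz, hzz, gd, gz⟩ := (orth_one (f := f) ha).exists_iso hf (by omega)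
    have had : f a d = 0 := by simpa using gd 0
    have haz : f a z = 0 := by simpa using gz 0
    refine ⟨d, z, a, hd0, hd, hdz, by rw [hf.symm, had], fun s r hsr h0 => ?_⟩
    obtain ⟨m, hm⟩ := Submodule.mem_span_singleton.1
      (thin h4.symm d _ hd hd0 (by simp [hdz, hf.symm a d, had]) h0)
    have e1 := congrArg (f a) hm
    have e2 := congrArg (f z) hm
    simp only [map_add, map_smul, smul_eq_mul, had, haz, hf.symm d z, hdz, hf.symm a z, mul_zero, zero_add,
      add_zero] at e1 e2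
    rcases hsr with h | h
    · exact mul_ne_zero h hzz e2.symm
    · exact mul_ne_zero h ha e1.symm
  · obtain ⟨ν, hν0, hν⟩ := exists_plane_norm hf (k := k) (by omega)
    obtain ⟨a, ha, -⟩ := (orth_nil (f := f)).exists_norm hf (by omega) hν0
    obtain ⟨d, z₁, z₂, h0, h1, h2, h3, -, -, -, h4⟩ := hν a ha
    exact ⟨d, z₁, z₂, h0, h1, h2, h3, h4⟩

namespace EvenCtx

variable {hf : SymForm f} {X : Subgroup (OQ (qT f (t + 1)))} (C : EvenCtx hf X)
include C

theorem centr_sigma' : CentrSigma hf X := fun hx _ _ _ hd0 hd hdz hz h => C.centr_sigma hx hd0 hd hdz hz h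

theorem slot_sU_X (l : Fin (t + 1)) {d z : Ud F k} (hd : f d d = 0) (hz : f d z = 0) :
    slot hf l (sU hf hd hz) ∈ X :=
  C.base _ (slot_sU_mem hf C.toCore.five _ hd hz) (isStd_slot hf _ _)

theorem slot_rr_X (l : Fin (t + 1)) {a b : Ud F k} (ha : f a a ≠ 0) (hb : f b b ≠ 0) :
    slot hf l (rfU hf ha * rfU hf hb) ∈ X :=
  C.base _ (slot_mem_of_par hf C.k4 C.ke C.t1 l (by
    rw [par_mul (qU_nd hf) (reflTopU hf), par_rfU hf C.k4 C.ke, par_rfU hf C.k4 C.ke]
    decide)) (isStd_slot hf _ _)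

theorem exists_good_norm (h4 : k = 4 → 2 ≤ t) : ∃ ν : F, ν ≠ 0 ∧ ∀ a, f a a = ν → 2 ≤ t ∨ Plane f a := by
  by_cases h2 : 2 ≤ t
  · exact ⟨1, one_ne_zero, fun _ _ => Or.inl h2⟩
  have := C.k4
  obtain ⟨ν, hν0, hν⟩ := exists_plane_norm hf (k := k) (by
    by_contra
    exact h2 (h4 (by omega)))
  exact ⟨ν, hν0, fun a ha => Or.inr (hν a ha)⟩

/-- Two pointwise fixed lines of different factors. -/
theorem two_trivial {i l : Fin (t + 1)} (hil : l ≠ i) {c a : Ud F k} (hc : f c c ≠ 0) (ha : f a a ≠ 0)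
    (hgood : 2 ≤ t ∨ Plane f a) {x : OQ (qT f (t + 1))} (hxc : x ∈ lfix hf X i c ⊥) (hxa : x ∈ lfix hf X l a ⊥) :
    x = 1 := by
  classical
  obtain ⟨p, hp⟩ := CharP.exists F
  haveI : Fact p.Prime := ⟨CharP.char_is_prime F p⟩
  haveI := C.toCore.finiteX
  have hk := C.k4
  set G := lfix hf X i c ⊥ ⊓ lfix hf X l a ⊥
  have hGX : G ≤ X := fun y hy => hy.1.1
  obtain ⟨m, d, z₁, z₂, hd0, hd, hdz₁, hdz₂, haniso, hn⟩ : ∃ (m : Fin (t + 1)) (d z₁ z₂ : Ud F k), d ≠ 0 ∧
      ∃ hd : f d d = 0, f d z₁ = 0 ∧ f d z₂ = 0 ∧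
        (∀ s r : F, (s ≠ 0 ∨ r ≠ 0) → f (s • z₁ + r • z₂) (s • z₁ + r • z₂) ≠ 0) ∧
        ∀ y ∈ Submodule.span F {z₁, z₂}, ∀ hy : f d y = 0,
          slot hf m (sU hf hd hy) ∈ Subgroup.normalizer (G : Set (OQ (qT f (t + 1)))) := by
    rcases hgood with h2 | ⟨d, z₁, z₂, hd0, hd, hdz₁, hdz₂, had, haz₁, haz₂, haniso⟩
    · obtain ⟨m, hm⟩ := Finset.exists_mem_notMem_of_card_lt_card (s := ({i, l} : Finset (Fin (t + 1))))
        (t := Finset.univ) (by rw [Finset.card_pair hil.symm, Finset.card_univ, Fintype.card_fin]; omega)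
      simp only [Finset.mem_insert, Finset.mem_singleton, not_or] at hm
      obtain ⟨-, hmi, hml⟩ := hm
      obtain ⟨j, rfl⟩ := Fin.exists_succAbove_eq hmi
      obtain ⟨j', hj'⟩ := Fin.exists_succAbove_eq hml
      obtain ⟨d, z₁, z₂, hd0, hd, hdz₁, hdz₂, haniso⟩ := exists_plane_any hf hk C.toCore.thin
      refine ⟨i.succAbove j, d, z₁, z₂, hd0, hd, hdz₁, hdz₂, haniso, fun y _ hy => ?_⟩
      refine Subgroup.inf_normalizer_le_normalizer_inf (H := lfix hf X i c ⊥) (K := lfix hf X l a ⊥)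
        ⟨C.toCore.slot_mem_normalizer_lfix j hd hy, ?_⟩
      rw [← hj']
      exact C.toCore.slot_mem_normalizer_lfix j' hd hy
    · obtain ⟨j, rfl⟩ := Fin.exists_succAbove_eq hil
      refine ⟨i.succAbove j, d, z₁, z₂, hd0, hd, hdz₁, hdz₂, haniso, fun y hy hdy => ?_⟩
      refine Subgroup.inf_normalizer_le_normalizer_inf (H := lfix hf X i c ⊥)
        (K := lfix hf X (i.succAbove j) a ⊥) ⟨C.toCore.slot_mem_normalizer_lfix j hd hdy,
          mem_normalizer_lfix (C.slot_sU_X _ hd hdy) (g := 1) (m := 1) one_ne_zero fun b => ?_⟩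
      obtain ⟨s, r, rfl⟩ := Submodule.mem_span_pair.1 hy
      rw [slot_Tm_self, sU_fix hf hd _ (by rw [hf.symm]; exact had) (by rw [hf.symm]; simp [haz₁, haz₂]),
        one_smul]
      simp
  set S : Submodule F (Ud F k) := Submodule.span F {z₁, z₂}
  have hS : ∀ y ∈ S, f d y = 0 := fun y hy => by
    obtain ⟨s, r, rfl⟩ := Submodule.mem_span_pair.1 hy
    simp [hdz₁, hdz₂]
  have hS' : ∀ y ∈ S, y ≠ 0 → f y y ≠ 0 := fun y hy hy0 => by
    obtain ⟨s, r, rfl⟩ := Submodule.mem_span_pair.1 hy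
    refine haniso s r ?_
    by_contra! hc'
    exact hy0 (by rw [hc'.1, hc'.2]; simp)
  have hstd : ∀ y ∈ G, IsStd y → y = 1 := by
    intro y hy hys
    obtain ⟨u, e, huc⟩ := fix_line hf (by omega) hys (fun e => hc (by simp [e])) (mem_lfix_bot.1 hy.1).2
    obtain ⟨u', e', -⟩ := fix_line hf (by omega) hys (fun e => ha (by simp [e])) (mem_lfix_bot.1 hy.2).2
    obtain ⟨n, hn⟩ := slot_eq_slot hf (by omega) hil.symm (e.symm.trans e')
    have hn1 : n = 1 := smul_left_injective F (fun e0 => hc (by simp [e0]) : c ≠ 0) (by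
      show n • c = (1 : F) • c
      rw [one_smul, ← hn, huc])
    rw [e, qU_ext hf (u := u) (v := 1) fun b => by rw [hn, hn1]; simp, map_one]
  have hz1 : z₁ ∈ S := Submodule.subset_span (Set.mem_insert _ _)
  have hnd : ¬ p ∣ Nat.card G := C.toCore.not_dvd (p := p) C.centr_sigma' G hGX hd0 hd hdz₁
    (by simpa using haniso 1 0 (Or.inl one_ne_zero)) (hn z₁ hz1 hdz₁) fun y hy hys _ => hstd y hy hys
  refine hstd x ⟨hxc, hxa⟩ (C.toCore.mem_of_space C.centr_sigma' G hGX hnd hd0 hd S hS hS' ?_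
    (fun y hy => hn y hy _) x ⟨hxc, hxa⟩)
  haveI := Fintype.ofFinite F
  have h2 : finrank F S = 2 := by
    rw [show S = Submodule.span F (Set.range ![z₁, z₂]) by simp [S, Set.pair_comm]]
    refine (finrank_span_eq_card (LinearIndependent.pair_iff.2 fun s r e => ?_)).trans (by simp)
    by_contra hne
    exact haniso s r (not_and_or.1 hne) (by rw [e]; simp)
  rw [Module.natCard_eq_pow_finrank (K := F), h2]
  refine Nat.pow_le_pow_left ?_ 2
  obtain ⟨n, -, hq⟩ := FiniteField.card F p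
  rw [Nat.card_eq_fintype_card, hq]
  exact Nat.le_self_pow n.2.ne' p

/-- An element fixing a line which commutes with an element of another factor. -/
theorem fix_trick {i : Fin (t + 1)} (j : Fin t) {c : Ud F k} (hc : f c c ≠ 0) {y : OQ (qT f (t + 1))}
    (hy : y ∈ lfix hf X i c ⊥) {u s : OQ (qU f)} (hs : slot hf (i.succAbove j) s ∈ X) {a : Ud F k}
    (ha : f a a ≠ 0) (hgood : 2 ≤ t ∨ Plane f a) {e : F} (hua : (u : Ud F k ≃ₗ[F] Ud F k) a = e • a)
    (hfix : ∀ q, (u : Ud F k ≃ₗ[F] Ud F k) q = e • q → (s : Ud F k ≃ₗ[F] Ud F k) q = q)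
    (h : Commute y (slot hf (i.succAbove j) u)) : Commute y (slot hf (i.succAbove j) s) := by
  set l := i.succAbove j
  set σ := slot hf l s
  refine (mul_inv_eq_iff_eq_mul.1 (mul_inv_eq_one.1 (C.two_trivial (x := y * σ * y⁻¹ * σ⁻¹)
    (Fin.succAbove_ne i j) hc ha hgood ?_ ?_)) : y * σ = σ * y)
  · have hn : σ ∈ Subgroup.normalizer (lfix hf X i c ⊥ : Set (OQ (qT f (t + 1)))) :=
      mem_normalizer_lfix hs (g := slot hf j s) (m := 1) one_ne_zero fun w => by
        rw [slot_Tm_succAbove, one_smul]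
    have h1 := (Subgroup.mem_normalizer_iff.1 hn y⁻¹).1 ((lfix hf X i c ⊥).inv_mem hy)
    have h2 := (lfix hf X i c ⊥).mul_mem hy h1
    rwa [← mul_assoc, ← mul_assoc] at h2
  · refine mem_lfix_bot.2 ⟨X.mul_mem (X.mul_mem (X.mul_mem hy.1 hs) (X.inv_mem hy.1)) (X.inv_mem hs), fun w => ?_⟩
    have hsa := hfix a hua
    have hσw : (σ⁻¹ : OQ (qT f (t + 1))).1 (Tm l a w) = Tm l a w := by
      refine (σ : Vt F k (t + 1) ≃ₗ[F] Vt F k (t + 1)).injective ?_
      rw [slot_Tm_self, hsa]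
      exact (σ : Vt F k (t + 1) ≃ₗ[F] Vt F k (t + 1)).apply_symm_apply _
    have hw : (σ : Vt F k (t + 1) ≃ₗ[F] Vt F k (t + 1)) ((y⁻¹ : OQ (qT f (t + 1))).1 (Tm l a w)) =
        (y⁻¹ : OQ (qT f (t + 1))).1 (Tm l a w) := by
      refine slot_fix_of_eigen hf (w := u) (l := e) ?_ hfix
      rw [← LinearEquiv.mul_apply, ← Subgroup.coe_mul, ← h.inv_left.eq, Subgroup.coe_mul, LinearEquiv.mul_apply,
        slot_Tm_self, hua, map_smul, LinearMap.smul_apply, map_smul]
    simp only [Subgroup.coe_mul, LinearEquiv.mul_apply]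
    rw [hσw, hw]
    exact (y : Vt F k (t + 1) ≃ₗ[F] Vt F k (t + 1)).apply_symm_apply _

/-- The stabiliser of a line, from a four group of another factor. -/
theorem lfix_of_four {i : Fin (t + 1)} (j : Fin t) {c : Ud F k} (hc : f c c ≠ 0) {p q : OQ (qU f)}
    (hpp : p * p = 1) (hqq : q * q = 1) (hpq : Commute p q) (hne : p ≠ q) (hp1 : p ≠ 1) (hq1 : q ≠ 1)
    (hpX : slot hf (i.succAbove j) p ∈ X) (hqX : slot hf (i.succAbove j) q ∈ X) (hdd : dd (lm p) ≠ 0)
    (trick : ∀ y ∈ lfix hf X i c ⊥, Commute y (slot hf (i.succAbove j) p) ∨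
      Commute y (slot hf (i.succAbove j) q) ∨ Commute y (slot hf (i.succAbove j) (p * q)) → IsStd y)
    {x : OQ (qT f (t + 1))} (hx : x ∈ lfix hf X i c ⊥) : IsStd x := by
  classical
  haveI := C.toCore.finiteX
  have hk := C.k4
  have hk1 := C.toCore.k1
  set l := i.succAbove j
  set G := lfix hf X i c ⊥
  set P₁ := slot hf l p
  set P₂ := slot hf l q
  have h11 : P₁ * P₁ = 1 := by rw [← map_mul, hpp, map_one]
  have h22 : P₂ * P₂ = 1 := by rw [← map_mul, hqq, map_one]
  have ord : ∀ u : OQ (qU f), u * u = 1 → u ≠ 1 → orderOf (slot hf l u) = 2 := fun u hu hu1 =>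
    Signalizer.orderOf_eq_two_of (fun e => hu1 (slot_injective hf hk1 l (e.trans (map_one _).symm)))
      (by rw [← map_mul, hu, map_one])
  have hcomm : Commute P₁ P₂ := hpq.map (slot hf l)
  have hPn : ∀ u : OQ (qU f), slot hf l u ∈ X →
      slot hf l u ∈ Subgroup.normalizer (G : Set (OQ (qT f (t + 1)))) := fun u hu =>
    mem_normalizer_lfix hu (g := slot hf j u) (m := 1) one_ne_zero fun w => by rw [slot_Tm_succAbove, one_smul]
  -- a group containing the two involutions
  let V : Subgroup (OQ (qT f (t + 1))) := Subgroup.closure {P₁, P₂}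
  set M := G ⊔ V
  have hP₁V : P₁ ∈ V := Subgroup.subset_closure (Set.mem_insert _ _)
  have hP₂V : P₂ ∈ V := Subgroup.subset_closure (Set.mem_insert_of_mem _ rfl)
  have hVn : V ≤ Subgroup.normalizer (G : Set (OQ (qT f (t + 1)))) := (Subgroup.closure_le _).2 (by
    rintro _ (rfl | rfl)
    · exact hPn _ hpX
    · exact hPn _ hqX)
  have hMn : M ≤ Subgroup.normalizer (G : Set (OQ (qT f (t + 1)))) := sup_le Subgroup.le_normalizer hVn
  have hMdec : ∀ m ∈ M, ∃ g ∈ G, ∃ v ∈ V, m = g * v := fun m hm => by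
    obtain ⟨g, hg, v, hv, rfl⟩ := (Core.mem_sup_iff_mul' hVn).1 (by rwa [sup_comm])
    exact ⟨g, hg, v, hv, rfl⟩
  have hVc : ∀ v ∈ V, Commute v P₁ ∧ v ^ 2 = 1 := by
    intro v hv
    refine Subgroup.closure_induction (p := fun v _ => Commute v P₁ ∧ v ^ 2 = 1) ?_ ⟨Commute.one_left _, one_pow 2⟩
      ?_ ?_ hv |> fun h => h
    · rintro _ (rfl | rfl)
      · exact ⟨Commute.refl _, by rw [sq, h11]⟩
      · exact ⟨hcomm.symm, by rw [sq, h22]⟩
    · intro a b ha hb ⟨h1, h2⟩ ⟨h3, h4⟩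
      refine ⟨h1.mul_left h3, ?_⟩
      have hab : Commute a b := by
        haveI : IsMulCommutative V := by
          refine Subgroup.isMulCommutative_closure ?_
          rintro _ (rfl | rfl) _ (rfl | rfl) <;> first | rfl | exact hcomm.eq | exact hcomm.eq.symm
        exact congrArg Subtype.val (mul_comm' (⟨a, ha⟩ : V) ⟨b, hb⟩)
      rw [hab.mul_pow, h2, h4, one_mul]
    · intro a _ ⟨h1, h2⟩
      exact ⟨h1.inv_left, by rw [inv_pow, h2, inv_one]⟩
  have hiso : Cfsg.IsIsolatedInvolution (⟨P₁, (le_sup_right : V ≤ M) hP₁V⟩ : M) := by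
    refine ⟨by rw [← Subgroup.orderOf_coe]; exact ord p hpp hp1, ?_⟩
    rintro ⟨m, hm⟩ hcm
    obtain ⟨g, hg, v, hv, rfl⟩ := hMdec m hm
    refine Subtype.ext ?_
    show g * v * P₁ * (g * v)⁻¹ = P₁
    have e1 : g * v * P₁ * (g * v)⁻¹ = g * P₁ * g⁻¹ := by
      rw [_root_.mul_inv_rev, mul_assoc g v P₁, (hVc v hv).1.eq]
      group
    rw [e1]
    have hcm' : Commute P₁ (g * P₁ * g⁻¹) := by
      rw [← e1]
      exact congrArg Subtype.val hcm
    set y := g * P₁ * g⁻¹
    have hyG : y * P₁⁻¹ ∈ G := by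
      have h2 := G.mul_mem hg ((Subgroup.mem_normalizer_iff.1 (hVn hP₁V) g⁻¹).1 (G.inv_mem hg))
      simpa [y, mul_assoc] using h2
    have hκc : Commute (y * P₁⁻¹) P₁ := hcm'.symm.mul_left (Commute.refl P₁).inv_left
    have hκs := trick _ hyG (Or.inl hκc)
    obtain ⟨κ, hκ, hκc0⟩ := fix_line hf (by omega) hκs (fun e => hc (by simp [e])) (mem_lfix_bot.1 hyG).2
    have hy : y = slot hf i κ * P₁ := by rw [← hκ, inv_mul_cancel_right]
    have hy2 : y * y = 1 := by
      rw [show y * y = g * (P₁ * P₁) * g⁻¹ by simp [y, mul_assoc], h11, mul_one, mul_inv_cancel]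
    have hκκ : κ * κ = 1 := slot_injective hf hk1 i (by
      rw [map_mul, map_one, ← hκ]
      calc y * P₁⁻¹ * (y * P₁⁻¹) = y * (P₁⁻¹ * y) * P₁⁻¹ := by group
        _ = y * (y * P₁⁻¹) * P₁⁻¹ := by rw [hcm'.inv_left.eq]
        _ = (y * y) * (P₁⁻¹ * P₁⁻¹) := by group
        _ = 1 := by rw [hy2, one_mul, ← mul_inv_rev, h11, inv_one])
    -- compare dimensions
    let us : Fin (t + 1) → OQ (qU f) := Function.update (Function.update (fun _ => 1) l p) i κ
    let us₀ : Fin (t + 1) → OQ (qU f) := Function.update (fun _ => 1) l p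
    have hil : i ≠ l := (Fin.succAbove_ne i j).symm
    have hP₁f : ∀ ξ, (P₁ : Vt F k (t + 1) ≃ₗ[F] Vt F k (t + 1)) (pvec ξ) =
        pvec fun m => (us₀ m : Ud F k ≃ₗ[F] Ud F k) (ξ m) := fun ξ => by
      rw [slot_pvec]
      congr 1
      funext m
      by_cases hm : m = l
      · subst hm; simp [us₀]
      · simp [us₀, Function.update_of_ne hm]
    have hyf : ∀ ξ, (y : Vt F k (t + 1) ≃ₗ[F] Vt F k (t + 1)) (pvec ξ) =
        pvec fun m => (us m : Ud F k ≃ₗ[F] Ud F k) (ξ m) := fun ξ => by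
      rw [hy, Subgroup.coe_mul, LinearEquiv.mul_apply, hP₁f, slot_pvec]
      congr 1
      funext m
      by_cases hm : m = i
      · subst hm; simp [us, us₀, Function.update_of_ne hil]
      · simp [us, us₀, Function.update_of_ne hm]
    have d1 := dd_slots hf hP₁f (fun m => by
      by_cases hm : m = l
      · subst hm; simpa [us₀] using hpp
      · simp [us₀, Function.update_of_ne hm])
    have d2 := dd_slots hf hyf (fun m => by
      by_cases hm : m = i
      · subst hm; simpa [us] using hκκ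
      by_cases hm' : m = l
      · subst hm'; simpa [us, Function.update_of_ne hm] using hpp
      · simp [us, Function.update_of_ne hm, Function.update_of_ne hm'])
    have hyd : dd (lm y) = dd (lm P₁) := dd_conj g P₁
    rw [d1, d2, ← Finset.mul_prod_erase Finset.univ _ (Finset.mem_univ i),
      ← Finset.mul_prod_erase Finset.univ _ (Finset.mem_univ i),
      Finset.prod_congr rfl (g := fun m => dd (lm (us₀ m))) (s₁ := Finset.univ.erase i) fun m hm => by
        simp [us, us₀, Function.update_of_ne (Finset.mem_erase.1 hm).1]] at hyd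
    have hprod0 : ∏ m ∈ Finset.univ.erase i, dd (lm (us₀ m)) ≠ 0 := Finset.prod_ne_zero_iff.2 fun m _ => by
      by_cases hm : m = l
      · subst hm; simpa [us₀] using hdd
      · simp only [us₀, Function.update_of_ne hm, dd_one hf]
        have := C.k4
        omega
    have hdκ := mul_right_cancel₀ hprod0 hyd
    simp only [us, us₀, Function.update_self, Function.update_of_ne hil, dd_one hf] at hdκ
    have hκ1 : κ = 1 := by
      have hsum := fixS_add hf.two (L := lm κ) (by rw [← lm_mul, hκκ, lm_one])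
      rw [finrank_fin_fun] at hsum
      rw [dd] at hdκ
      have hfull : fixS (lm κ) = ⊤ := Submodule.eq_top_of_finrank_eq (by rw [finrank_fin_fun]; omega)
      exact qU_ext hf fun r => by
        have := mem_fixS.1 (hfull.ge (Submodule.mem_top (x := r)))
        simpa [lm] using this
    rw [hy, hκ1, map_one, one_mul]
  -- conclusion
  have hO : ∀ o : M, o ∈ Cfsg.oddCore M → (o : OQ (qT f (t + 1))) ∈ G := by
    intro o ho
    obtain ⟨g, hg, v, hv, e0⟩ := hMdec o o.2
    obtain ⟨n, hn⟩ := ZStar.odd_of_dvd (Subgroup.orderOf_dvd_natCard _ ho) (ZStar.odd_card_oddCore M)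
    haveI : (G.subgroupOf M).Normal := Subgroup.normal_subgroupOf_of_le_normalizer hMn
    have e1 : QuotientGroup.mk' (G.subgroupOf M) o =
        QuotientGroup.mk' (G.subgroupOf M) ⟨v, (le_sup_right : V ≤ M) hv⟩ := by
      rw [show o = ⟨g, (le_sup_left : G ≤ M) hg⟩ * ⟨v, (le_sup_right : V ≤ M) hv⟩ from Subtype.ext e0, map_mul,
        show QuotientGroup.mk' (G.subgroupOf M) ⟨g, (le_sup_left : G ≤ M) hg⟩ = 1 from
          (QuotientGroup.eq_one_iff (N := G.subgroupOf M) ⟨g, (le_sup_left : G ≤ M) hg⟩).2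
          (by simpa [Subgroup.mem_subgroupOf] using hg), one_mul]
    have h2 : (⟨v, (le_sup_right : V ≤ M) hv⟩ : M) ^ 2 = 1 := Subtype.ext (hVc v hv).2
    have e2 : QuotientGroup.mk' (G.subgroupOf M) o = 1 := by
      have e3 := congrArg (QuotientGroup.mk' (G.subgroupOf M)) (pow_orderOf_eq_one o)
      rw [map_pow, e1, hn, pow_succ, pow_mul, ← map_pow, h2, map_one, one_pow, one_mul] at e3
      rw [e1, e3]
    have := (QuotientGroup.eq_one_iff o).1 e2
    simpa [Subgroup.mem_subgroupOf] using this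
  set O' := (Cfsg.oddCore M).map M.subtype
  have hO'G : O' ≤ G := by rintro _ ⟨o, ho, rfl⟩; exact hO o ho
  have hO'odd : Odd (Nat.card O') := by
    rw [Subgroup.card_map_of_injective M.subtype_injective]; exact ZStar.odd_card_oddCore M
  have hO'n : ∀ v ∈ V, v ∈ Subgroup.normalizer (O' : Set (OQ (qT f (t + 1)))) := fun v hv => by
    haveI hn : (Cfsg.oddCore M).Normal := by unfold Cfsg.oddCore; infer_instance
    refine Subgroup.le_normalizer_map M.subtype ⟨⟨v, (le_sup_right : V ≤ M) hv⟩, ?_, rfl⟩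
    rw [Subgroup.normalizer_eq_top_iff.2 hn]
    exact Subgroup.mem_top _
  have hO's : O' ≤ C.toCore.stdIn := le_of_four hO'odd (ord p hpp hp1) (ord q hqq hq1) hcomm
    (fun h => hne (slot_injective hf hk1 l h)) (hO'n _ hP₁V) (hO'n _ hP₂V) fun y hy h => ⟨(hO'G hy).1, by
      refine trick y (hO'G hy) ?_
      rwa [map_mul]⟩
  let Y : Subgroup M := ((C.toCore.stdIn ⊓ G) ⊔ V).subgroupOf M
  have hY := le_of_isolated hiso (Y := Y) (fun m hm => by
    obtain ⟨g, hg, v, hv, e0⟩ := hMdec m m.2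
    have hgc : Commute g P₁ := by
      have h1 : Commute (m : OQ (qT f (t + 1))) P₁ := congrArg Subtype.val hm
      have h2 := h1.mul_left (hVc v hv).1.inv_left
      rwa [e0, mul_inv_cancel_right] at h2
    show (m : OQ (qT f (t + 1))) ∈ (C.toCore.stdIn ⊓ G) ⊔ V
    rw [e0]
    exact Subgroup.mul_mem_sup ⟨⟨hg.1, trick g hg (Or.inl hgc)⟩, hg⟩ hv)
    (fun o ho => by
      show (o : OQ (qT f (t + 1))) ∈ (C.toCore.stdIn ⊓ G) ⊔ V
      exact Subgroup.mem_sup_left ⟨hO's ⟨o, ho, rfl⟩, hO o ho⟩) ⟨x, (le_sup_left : G ≤ M) hx⟩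
  have hVs : V ≤ C.toCore.stdIn := (Subgroup.closure_le _).2 (by
    rintro _ (rfl | rfl)
    · exact ⟨hpX, isStd_slot hf _ _⟩
    · exact ⟨hqX, isStd_slot hf _ _⟩)
  exact ((sup_le inf_le_left hVs) hY).2

/-- **The stabiliser of an anisotropic line is standard.** -/
theorem lfix_std (h4 : k = 4 → 2 ≤ t) {i : Fin (t + 1)} {c : Ud F k} (hc : f c c ≠ 0) {x : OQ (qT f (t + 1))}
    (hx : x ∈ lfix hf X i c ⊥) : IsStd x := by
  have hk := C.k4
  have h2f := hf.two
  obtain ⟨ν, hν0, hν⟩ := C.exists_good_norm h4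
  let j : Fin t := ⟨0, by have := C.t1; omega⟩
  set l := i.succAbove j
  obtain ⟨a, ha, -⟩ := (orth_nil (f := f)).exists_norm hf (by omega) hν0
  have ha0 : f a a ≠ 0 := by rw [ha]; exact hν0
  obtain ⟨b, hb, hab'⟩ := (orth_one (f := f) ha0).exists_norm hf (by omega) hν0
  have hb0 : f b b ≠ 0 := by rw [hb]; exact hν0
  have hab : f a b = 0 := by simpa using hab' 0
  have hne1 : ∀ {p q : Ud F k} (hp : f p p ≠ 0) (hq : f q q ≠ 0), f p q = 0 →
      rfU hf hp ≠ rfU hf hq ∧ rfU hf hp ≠ 1 ∧ rfU hf hp * rfU hf hq ≠ 1 := by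
    intro p q hp hq hpq
    have hneg : -p ≠ p := fun e => hp (by
      have e0 : (2 : F) • p = 0 := by
        rw [two_smul]; nth_rw 1 [← e]; exact neg_add_cancel p
      rw [(smul_eq_zero.1 e0).resolve_left h2f]; simp)
    have e2 : (rfU hf hq : Ud F k ≃ₗ[F] Ud F k) p = p := rfU_perp hf hq (by rw [hf.symm]; exact hpq)
    refine ⟨fun e => hneg ?_, fun e => hneg ?_, fun e => hneg ?_⟩
    · have e1 := rfU_self hf hp
      rw [e, e2] at e1
      exact e1.symm
    · have e1 := rfU_self hf hp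
      rw [e] at e1
      exact e1.symm
    · have e1 := congrArg (fun u : OQ (qU f) => (u : Ud F k ≃ₗ[F] Ud F k) p) e
      simp only [Subgroup.coe_mul, LinearEquiv.mul_apply, e2, rfU_self hf hp] at e1
      exact e1
  by_cases h2 : 2 ≤ t
  · -- reflections
    have single : ∀ {a : Ud F k} (ha : f a a ≠ 0), f a a = ν → ∀ y ∈ lfix hf X i c ⊥,
        Commute y (slot hf l (rfU hf ha)) → IsStd y := by
      intro a ha han y hy h
      obtain ⟨d, z, hd0, hd, hdz, hzz, gd, gz⟩ := (orth_one (f := f) ha).exists_iso hf (by omega)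
      refine C.centr_sigma hy.1 (i := l) hd0 hd hdz hzz (C.fix_trick j hc hy (C.slot_sU_X l hd hdz) ha
        (hν a han) (e := -1) (by rw [rfU_self hf ha, neg_one_smul]) (fun q hq => ?_) h)
      have had : f a d = 0 := by simpa using gd 0
      have haz : f a z = 0 := by simpa using gz 0
      have key : ∀ w, f a w = 0 → f w q = 0 := fun w h1 => by
        have e1 := map_f hf (rfU hf ha) w q
        rw [hq, rfU_perp hf ha h1, map_smul, smul_eq_mul] at e1
        have e2 : (2 : F) * f w q = 0 := by linear_combination -e1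
        exact (mul_eq_zero.1 e2).resolve_left h2f
      exact sU_fix hf hd hdz (key d had) (key z haz)
    refine C.lfix_of_four j hc (p := rfU hf ha0) (q := rfU hf hb0) (rfU_sq hf ha0) (rfU_sq hf hb0)
      (rfU_comm hf ha0 hb0 hab) (hne1 ha0 hb0 hab).1 (hne1 ha0 hb0 hab).2.1
      (hne1 hb0 ha0 (by rw [hf.symm]; exact hab)).2.1 (C.slot_mem h2 _ _) (C.slot_mem h2 _ _)
      (by rw [dd_rfU]; omega) (fun y hy h => ?_) hx
    rcases h with h | h | h
    · exact single ha0 ha y hy h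
    · exact single hb0 hb y hy h
    obtain ⟨w, hw, gw⟩ := (orth_two hf ha0 hb0 hab).exists_norm hf (by omega) hν0
    have haw : f a w = 0 := by simpa using gw 0
    have hbw : f b w = 0 := by simpa using gw 1
    refine single ha0 ha y hy (C.fix_trick j hc hy (C.slot_mem h2 _ _) (by rw [hw]; exact hν0) (hν w hw)
      (e := 1) ?_ (fun q hq => rfU_perp hf ha0 ?_) h)
    · rw [Subgroup.coe_mul, LinearEquiv.mul_apply, rfU_perp hf hb0 hbw, rfU_perp hf ha0 haw, one_smul]
    · have e1 := map_f hf (rfU hf ha0 * rfU hf hb0) a q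
      rw [hq, one_smul, Subgroup.coe_mul, LinearEquiv.mul_apply, rfU_perp hf hb0 (by rw [hf.symm]; exact hab),
        rfU_self hf ha0, map_neg, LinearMap.neg_apply] at e1
      have e2 : (2 : F) * f a q = 0 := by linear_combination -e1
      exact (mul_eq_zero.1 e2).resolve_left h2f
  · -- planes
    have h5 : 5 ≤ k := by
      by_contra
      exact h2 (h4 (by omega))
    obtain ⟨e, he, hg⟩ := (orth_two hf ha0 hb0 hab).exists_norm hf (by omega) hν0
    have hae : f a e = 0 := by simpa using hg 0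
    have hbe : f b e = 0 := by simpa using hg 1
    have he0 : f e e ≠ 0 := by rw [he]; exact hν0
    have trick : ∀ {a b : Ud F k} (ha : f a a ≠ 0) (hb : f b b ≠ 0), f a a = ν → f a b = 0 →
        ∀ y ∈ lfix hf X i c ⊥, Commute y (slot hf l (rfU hf ha * rfU hf hb)) → IsStd y := by
      intro a b ha hb han hab y hy h
      obtain ⟨d, z, hd0, hd, hdz, hzz, gd, gz⟩ := (orth_two hf ha hb hab).exists_iso hf (by omega)
      have had : f a d = 0 := by simpa using gd 0
      have hbd : f b d = 0 := by simpa using gd 1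
      have haz : f a z = 0 := by simpa using gz 0
      have hbz : f b z = 0 := by simpa using gz 1
      refine C.centr_sigma hy.1 (i := l) hd0 hd hdz hzz (C.fix_trick j hc hy (C.slot_sU_X l hd hdz) ha
        (hν a han) (e := -1) ?_ (fun q hq => ?_) h)
      · rw [Subgroup.coe_mul, LinearEquiv.mul_apply, rfU_perp hf hb (by rw [hf.symm]; exact hab), rfU_self hf ha,
          neg_one_smul]
      have key : ∀ w, f a w = 0 → f b w = 0 → f w q = 0 := fun w h1 h2 => by
        have e1 := map_f hf (rfU hf ha * rfU hf hb) w q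
        rw [hq, Subgroup.coe_mul, LinearEquiv.mul_apply, rfU_perp hf hb h2, rfU_perp hf ha h1, map_smul,
          smul_eq_mul] at e1
        have e2 : (2 : F) * f w q = 0 := by linear_combination -e1
        exact (mul_eq_zero.1 e2).resolve_left h2f
      exact sU_fix hf hd hdz (key d had hbd) (key z haz hbz)
    have hba : f b a = 0 := by rw [hf.symm]; exact hab
    have hprod : rfU hf ha0 * rfU hf hb0 * (rfU hf hb0 * rfU hf he0) = rfU hf ha0 * rfU hf he0 := by
      rw [mul_assoc, ← mul_assoc (rfU hf hb0), rfU_sq, one_mul]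
    have nsq : ∀ {p q : Ud F k} (hp : f p p ≠ 0) (hq : f q q ≠ 0), f p q = 0 →
        rfU hf hp * rfU hf hq * (rfU hf hp * rfU hf hq) = 1 := fun {p q} hp hq hpq => by
      rw [← sq, (rfU_comm hf hp hq hpq).mul_pow, sq, sq, rfU_sq, rfU_sq, one_mul]
    have hdd : dd (lm (rfU hf ha0 * rfU hf hb0)) = (k : ℤ) - 4 := by
      have hsum := fixS_add hf.two (L := lm (rfU hf ha0 * rfU hf hb0))
        (by rw [← lm_mul, nsq ha0 hb0 hab, lm_one])
      have e1 : fixS (-lm (rfU hf ha0 * rfU hf hb0)) = Submodule.span F {a, b} := by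
        refine le_antisymm (fun q hq => ?_) (Submodule.span_le.2 ?_)
        · rw [mem_fixS, LinearMap.neg_apply, neg_eq_iff_eq_neg] at hq
          have hq' : (rfU hf ha0 * rfU hf hb0 : OQ (qU f)).1 q = -q := hq
          simp only [Subgroup.coe_mul, LinearEquiv.mul_apply, rfU_apply, MixTensor.refl_apply, map_sub, map_smul,
            hab, smul_zero, sub_zero] at hq'
          have h3 : (2 : F) • q = (2 / f a a * f a q) • a + (2 / f b b * f b q) • b := by
            linear_combination (norm := module) hq'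
          rw [← inv_smul_smul₀ h2f q, h3]
          exact Submodule.smul_mem _ _ (Submodule.mem_span_pair.2 ⟨_, _, rfl⟩)
        · rintro _ (rfl | rfl)
          · rw [SetLike.mem_coe, mem_fixS, LinearMap.neg_apply]
            show -((rfU hf ha0 * rfU hf hb0 : OQ (qU f)).1 _) = _
            rw [Subgroup.coe_mul, LinearEquiv.mul_apply, rfU_perp hf hb0 hba, rfU_self hf ha0, neg_neg]
          · rw [SetLike.mem_coe, mem_fixS, LinearMap.neg_apply]
            show -((rfU hf ha0 * rfU hf hb0 : OQ (qU f)).1 _) = _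
            rw [Subgroup.coe_mul, LinearEquiv.mul_apply, rfU_self hf hb0, map_neg, rfU_perp hf ha0 hab, neg_neg]
      have e2 : finrank F (Submodule.span F {a, b}) = 2 := by
        rw [show Submodule.span F ({a, b} : Set (Ud F k)) = Submodule.span F (Set.range ![a, b]) by
          simp [Set.pair_comm]]
        refine (finrank_span_eq_card (LinearIndependent.pair_iff.2 fun s r h => ?_)).trans (by simp)
        have h1 := congrArg (f a) h
        have h2 := congrArg (f b) h
        simp only [map_add, map_smul, hab, hba, map_zero, smul_eq_mul, mul_zero, add_zero, zero_add] at h1 h2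
        exact ⟨(mul_eq_zero.1 h1).resolve_right ha0, (mul_eq_zero.1 h2).resolve_right hb0⟩
      rw [finrank_fin_fun, e1, e2] at hsum
      rw [dd, e1, e2]
      omega
    refine C.lfix_of_four j hc (p := rfU hf ha0 * rfU hf hb0) (q := rfU hf hb0 * rfU hf he0)
      (nsq ha0 hb0 hab) (nsq hb0 he0 hbe) ?_ (fun h => ?_) (hne1 ha0 hb0 hab).2.2 (hne1 hb0 he0 hbe).2.2
      (C.slot_rr_X _ ha0 hb0) (C.slot_rr_X _ hb0 he0) (by rw [hdd]; omega) (fun y hy h => ?_) hx
    · exact ((rfU_comm hf ha0 hb0 hab).mul_right (rfU_comm hf ha0 he0 hae)).mul_left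
        ((Commute.refl _).mul_right (rfU_comm hf hb0 he0 hbe))
    · rw [(rfU_comm hf ha0 hb0 hab).eq] at h
      exact (hne1 ha0 he0 hae).1 (mul_left_cancel h)
    rcases h with h | h | h
    · exact trick ha0 hb0 ha hab y hy h
    · exact trick hb0 he0 hb hbe y hy h
    · rw [hprod] at h
      exact trick ha0 he0 ha hae y hy h

/-- **An element fixing an anisotropic line pointwise acts on that factor.** -/
theorem fix_slot (h4 : k = 4 → 2 ≤ t) {i : Fin (t + 1)} {c : Ud F k} (hc : f c c ≠ 0) {x : OQ (qT f (t + 1))}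
    (hx : x ∈ X) (h : ∀ w, (x : Vt F k (t + 1) ≃ₗ[F] Vt F k (t + 1)) (Tm i c w) = Tm i c w) :
    ∃ u : OQ (qU f), x = slot hf i u ∧ (u : Ud F k ≃ₗ[F] Ud F k) c = c :=
  fix_line hf (by have := C.k4; omega) (C.lfix_std h4 hc (mem_lfix_bot.2 ⟨hx, h⟩)) (fun e => hc (by simp [e])) h

end EvenCtx

end CfsgLib.Geo.OrthWreath
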