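/-
Involutions of one factor in even dimension: their centralisers in a proper overgroup consist of standard
elements, and so do the elements carrying them into one factor.
-/
import Cfsg.Agent.Lib.Geo.OrthWreath.Even.PointFix

set_option autoImplicit false
set_option linter.unusedSectionVars false

namespace CfsgLib.Geo.OrthWreath

open CfsgLib.Classical CfsgLib.Classical.Quad CfsgLib.Known.OmegaCriterion Module
open CfsgLib.Geo.MixTensor (SymForm)
open CfsgLib.Geo.OrthTensor (exists_iso_partner span_pair_le)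
open CfsgLib.Geo.TensorWreath (pvec)
open LinearMap (BilinForm)

variable {F : Type*} [Field F] {k t : ℕ} {f : BilinForm F (Ud F k)} (hf : SymForm f)
include hf

theorem invol_apply {v : OQ (qU f)} (hv : v * v = 1) (q : Ud F k) :
    (v : Ud F k ≃ₗ[F] Ud F k) ((v : Ud F k ≃ₗ[F] Ud F k) q) = q := by
  have := congrArg (fun u : OQ (qU f) => (u : Ud F k ≃ₗ[F] Ud F k) q) hv
  simpa using this

/-- The eigenspaces of an involution are orthogonal. -/
theorem eigen_orth {v : OQ (qU f)} {p q : Ud F k} {e : F} (he : e * e = 1)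
    (hp : (v : Ud F k ≃ₗ[F] Ud F k) p = e • p) (hq : (v : Ud F k ≃ₗ[F] Ud F k) q = -e • q) : f p q = 0 := by
  have h := map_f hf v p q
  rw [hp, hq, map_smul, map_smul, LinearMap.smul_apply, smul_eq_mul, smul_eq_mul] at h
  have h2 : (2 : F) * f p q = 0 := by linear_combination -h - f p q * he
  exact (mul_eq_zero.1 h2).resolve_left hf.two

/-- An anisotropic eigenvector of an involution. -/
theorem exists_eigen_aniso {v : OQ (qU f)} (hv : v * v = 1) {e : F} (he : e * e = 1)
    (hne : ∃ w, (v : Ud F k ≃ₗ[F] Ud F k) w ≠ e • w) :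
    ∃ c, f c c ≠ 0 ∧ (v : Ud F k ≃ₗ[F] Ud F k) c = -e • c := by
  by_contra! hall
  obtain ⟨w, hw⟩ := hne
  have hiso : ∀ s, (v : Ud F k ≃ₗ[F] Ud F k) s = -e • s → f s s = 0 := fun s hs =>
    by_contra fun h => hall s h hs
  have mem : ∀ w, (v : Ud F k ≃ₗ[F] Ud F k) (w - e • (v : Ud F k ≃ₗ[F] Ud F k) w) =
      -e • (w - e • (v : Ud F k ≃ₗ[F] Ud F k) w) := fun w => by
    rw [map_sub, map_smul, invol_apply hf hv, smul_sub, smul_smul, neg_mul, he]
    module
  have mem' : ∀ w, (v : Ud F k ≃ₗ[F] Ud F k) (w + e • (v : Ud F k ≃ₗ[F] Ud F k) w) =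
      e • (w + e • (v : Ud F k ≃ₗ[F] Ud F k) w) := fun w => by
    rw [map_add, map_smul, invol_apply hf hv, smul_add, smul_smul, he]
    module
  set s := w - e • (v : Ud F k ≃ₗ[F] Ud F k) w
  have hs0 : s ≠ 0 := fun h => hw (by
    conv_rhs => rw [sub_eq_zero.1 h, smul_smul, he, one_smul])
  refine hs0 (hf.nd.1 s fun q => ?_)
  set p := q - e • (v : Ud F k ≃ₗ[F] Ud F k) q
  set r := q + e • (v : Ud F k ≃ₗ[F] Ud F k) q
  have h1 : f r s = 0 := eigen_orth hf he (mem' q) (mem w)
  have h2 : f s p = 0 := by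
    have h := hiso (s + p) (by rw [map_add, mem, mem, smul_add])
    simp only [map_add, LinearMap.add_apply, hiso s (mem w), hiso p (mem q), hf.symm s p] at h
    have h2 : (2 : F) * f s p = 0 := by linear_combination h
    exact (mul_eq_zero.1 h2).resolve_left hf.two
  have h3 : (2 : F) * f s q = 0 := by
    rw [← smul_eq_mul, ← map_smul, show (2 : F) • q = p + r by simp only [p, r]; module, map_add, h2, hf.symm r s, h1,
      add_zero]
  exact (mul_eq_zero.1 h3).resolve_left hf.two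

/-- A Siegel element in an eigenspace of dimension at least three. -/
theorem exists_eigen_siegel [Finite F] {v : OQ (qU f)} (hv : v * v = 1) {e : F} (he : e * e = 1)
    (h3 : 3 ≤ finrank F (fixS (e • lm v))) :
    ∃ (d z : Ud F k) (hd : f d d = 0) (hdz : f d z = 0), d ≠ 0 ∧ f z z ≠ 0 ∧
      ∀ q, (v : Ud F k ≃ₗ[F] Ud F k) q = -e • q → (sU hf hd hdz : Ud F k ≃ₗ[F] Ud F k) q = q := by
  set S := fixS (e • lm v)
  have hS : ∀ q, q ∈ S ↔ (v : Ud F k ≃ₗ[F] Ud F k) q = e • q := fun q => by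
    rw [mem_fixS, LinearMap.smul_apply]
    show e • (v : Ud F k ≃ₗ[F] Ud F k) q = q ↔ _
    constructor
    · intro h; conv_rhs => rw [← h, smul_smul, he, one_smul]
    · intro h; rw [h, smul_smul, he, one_smul]
  obtain ⟨d, hdS, hd0, hd⟩ := hf.exists_isotropic h3
  obtain ⟨e₀, -, hde₀⟩ := exists_iso_partner hf hd hd0
  set e₁ := (2 : F)⁻¹ • (e₀ + e • (v : Ud F k ≃ₗ[F] Ud F k) e₀)
  have h2 := hf.two
  have he₁S : e₁ ∈ S := (hS _).2 (by
    rw [map_smul, map_add, map_smul, invol_apply hf hv, smul_comm e, smul_add, smul_add, smul_smul e e, he]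
    module)
  have hde₁ : f d e₁ = 1 := by
    have h := map_f hf v d e₀
    rw [(hS d).1 hdS, map_smul, LinearMap.smul_apply, smul_eq_mul] at h
    simp only [e₁, map_smul, map_add, smul_eq_mul, hde₀]
    field_simp
    linear_combination h + hde₀
  set p := e₁ - (f e₁ e₁ / 2) • d
  have hpS : p ∈ S := S.sub_mem he₁S (S.smul_mem _ hdS)
  have hdp : f d p = 1 := by simp [p, hd, hde₁]
  have hpp : f p p = 0 := by
    simp only [p, map_sub, map_smul, LinearMap.sub_apply, LinearMap.smul_apply, smul_eq_mul, hd, hde₁,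
      hf.symm d e₁]
    field_simp
    ring
  by_contra! hall
  have hz : ∀ z ∈ S, f d z = 0 → f p z = 0 → f z z = 0 := fun z hzS hdz _ => by
    by_contra hzz
    obtain ⟨q, hq, hne⟩ := hall d z hd hdz hd0 hzz
    exact hne (sU_fix hf hd hdz (eigen_orth hf he ((hS d).1 hdS) hq) (eigen_orth hf he ((hS z).1 hzS) hq))
  have hle : S ≤ Submodule.span F {d, p} := by
    intro s hs
    set r : Ud F k → Ud F k := fun x => x - f p x • d - f d x • p
    have hrS : ∀ x ∈ S, r x ∈ S := fun x hx => S.sub_mem (S.sub_mem hx (S.smul_mem _ hdS)) (S.smul_mem _ hpS)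
    have hrd : ∀ x, f d (r x) = 0 := fun x => by simp [r, hd, hdp]
    have hrp : ∀ x, f p (r x) = 0 := fun x => by simp [r, hpp, hf.symm d p, hdp]
    have hr2 : ∀ x ∈ S, f (r s) (r x) = 0 := fun x hx => by
      have h := hz (r s + r x) (S.add_mem (hrS s hs) (hrS x hx)) (by simp [hrd]) (by simp [hrp])
      simp only [map_add, LinearMap.add_apply, hz _ (hrS s hs) (hrd s) (hrp s), hz _ (hrS x hx) (hrd x) (hrp x),
        hf.symm (r s) (r x)] at h
      have h' : (2 : F) * f (r s) (r x) = 0 := by linear_combination h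
      exact (mul_eq_zero.1 h').resolve_left h2
    have h0 : r s = 0 := hf.nd.1 _ fun q => by
      set q₁ := q + e • (v : Ud F k ≃ₗ[F] Ud F k) q
      set q₂ := q - e • (v : Ud F k ≃ₗ[F] Ud F k) q
      have m1 : q₁ ∈ S := (hS _).2 (by
        rw [map_add, map_smul, invol_apply hf hv, smul_add, smul_smul, he]; module)
      have m2 : (v : Ud F k ≃ₗ[F] Ud F k) q₂ = -e • q₂ := by
        rw [map_sub, map_smul, invol_apply hf hv, smul_sub, smul_smul, neg_mul, he]; module
      have h1 : f (r s) q₁ = 0 := by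
        have h := hr2 q₁ m1
        rw [show r q₁ = q₁ - f p q₁ • d - f d q₁ • p from rfl, map_sub, map_sub, map_smul, map_smul,
          hf.symm d (r s), hrd, hf.symm p (r s), hrp] at h
        simpa using h
      have h3 : f (r s) q₂ = 0 := eigen_orth hf he ((hS _).1 (hrS s hs)) m2
      have h4 : (2 : F) * f (r s) q = 0 := by
        rw [← smul_eq_mul, ← map_smul, show (2 : F) • q = q₁ + q₂ by simp only [q₁, q₂]; module, map_add, h1, h3,
          add_zero]
      exact (mul_eq_zero.1 h4).resolve_left h2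
    exact Submodule.mem_span_pair.2 ⟨f p s, f d s, by linear_combination (norm := module) -h0⟩
  have := (Submodule.finrank_mono hle).trans (span_pair_le (F := F) d p)
  omega

variable [Finite F]

/-- The difference of dimensions of a product of two reflections. -/
theorem dd_rr {a b : Ud F k} (ha : f a a ≠ 0) (hb : f b b ≠ 0) (hab : f a b = 0) :
    rfU hf ha * rfU hf hb * (rfU hf ha * rfU hf hb) = 1 ∧ dd (lm (rfU hf ha * rfU hf hb)) = (k : ℤ) - 4 := by
  have h2f := hf.two
  have hba : f b a = 0 := by rw [hf.symm]; exact hab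
  have nsq : rfU hf ha * rfU hf hb * (rfU hf ha * rfU hf hb) = 1 := by
    rw [← sq, (rfU_comm hf ha hb hab).mul_pow, sq, sq, rfU_sq, rfU_sq, one_mul]
  refine ⟨nsq, ?_⟩
  have hsum := fixS_add hf.two (L := lm (rfU hf ha * rfU hf hb)) (by rw [← lm_mul, nsq, lm_one])
  have e1 : fixS (-lm (rfU hf ha * rfU hf hb)) = Submodule.span F {a, b} := by
    refine le_antisymm (fun q hq => ?_) (Submodule.span_le.2 ?_)
    · rw [mem_fixS, LinearMap.neg_apply, neg_eq_iff_eq_neg] at hq
      have hq' : (rfU hf ha * rfU hf hb : OQ (qU f)).1 q = -q := hq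
      simp only [Subgroup.coe_mul, LinearEquiv.mul_apply, rfU_apply, MixTensor.refl_apply, map_sub, map_smul,
        hab, smul_zero, sub_zero] at hq'
      have h3 : (2 : F) • q = (2 / f a a * f a q) • a + (2 / f b b * f b q) • b := by
        linear_combination (norm := module) hq'
      rw [← inv_smul_smul₀ h2f q, h3]
      exact Submodule.smul_mem _ _ (Submodule.mem_span_pair.2 ⟨_, _, rfl⟩)
    · rintro _ (rfl | rfl)
      · rw [SetLike.mem_coe, mem_fixS, LinearMap.neg_apply]
        show -((rfU hf ha * rfU hf hb : OQ (qU f)).1 _) = _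
        rw [Subgroup.coe_mul, LinearEquiv.mul_apply, rfU_perp hf hb hba, rfU_self hf ha, neg_neg]
      · rw [SetLike.mem_coe, mem_fixS, LinearMap.neg_apply]
        show -((rfU hf ha * rfU hf hb : OQ (qU f)).1 _) = _
        rw [Subgroup.coe_mul, LinearEquiv.mul_apply, rfU_self hf hb, map_neg, rfU_perp hf ha hab, neg_neg]
  have e2 : finrank F (Submodule.span F {a, b}) = 2 := by
    rw [show Submodule.span F ({a, b} : Set (Ud F k)) = Submodule.span F (Set.range ![a, b]) by
      simp [Set.pair_comm]]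
    refine (finrank_span_eq_card (LinearIndependent.pair_iff.2 fun s r h => ?_)).trans (by simp)
    have h1 := congrArg (f a) h
    have h2 := congrArg (f b) h
    simp only [map_add, map_smul, hab, hba, map_zero, smul_eq_mul, mul_zero, add_zero, zero_add] at h1 h2
    exact ⟨(mul_eq_zero.1 h1).resolve_right ha, (mul_eq_zero.1 h2).resolve_right hb⟩
  rw [finrank_fin_fun, e1, e2] at hsum
  rw [dd, e1, e2]
  omega

/-- An involution with a two-dimensional eigenspace is a product of two reflections. -/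
theorem eq_rr_of_dd {v : OQ (qU f)} (hv : v * v = 1) (hd : dd (lm v) = (k : ℤ) - 4) :
    ∃ (a b : Ud F k) (ha : f a a ≠ 0) (hb : f b b ≠ 0), f a b = 0 ∧ v = rfU hf ha * rfU hf hb := by
  have hsum := fixS_add hf.two (L := lm v) (by rw [← lm_mul, hv, lm_one])
  rw [finrank_fin_fun] at hsum
  rw [dd] at hd
  set S := fixS (-lm v)
  have hS : ∀ q, q ∈ S ↔ (v : Ud F k ≃ₗ[F] Ud F k) q = -q := fun q => by
    rw [mem_fixS, LinearMap.neg_apply, neg_eq_iff_eq_neg]; rfl
  have hS2 : finrank F S = 2 := by omega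
  obtain ⟨a, ha, hva⟩ := exists_eigen_aniso hf hv (e := 1) (one_mul 1) (by
    by_contra! h
    have : S = ⊥ := eq_bot_iff.2 fun q hq => by
      have h1 := (hS q).1 hq
      rw [h q, one_smul] at h1
      exact (smul_eq_zero.1 (show (2 : F) • q = 0 by rw [two_smul]; nth_rw 2 [h1]; exact add_neg_cancel q)).resolve_left
        hf.two
    rw [this, finrank_bot] at hS2
    omega)
  rw [neg_one_smul] at hva
  have haS : a ∈ S := (hS a).2 hva
  obtain ⟨s, hsS, hs⟩ : ∃ s ∈ S, s ∉ Submodule.span F {a} := by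
    by_contra! hc
    have := Submodule.finrank_mono (show S ≤ Submodule.span F {a} from hc)
    rw [hS2, finrank_span_singleton (fun e => ha (by simp [e]))] at this
    omega
  set b := s - (f a s / f a a) • a
  have hbS : b ∈ S := S.sub_mem hsS (S.smul_mem _ haS)
  have hab : f a b = 0 := by simp [b, div_mul_cancel₀ _ ha]
  have hb0 : b ≠ 0 := fun h => hs (Submodule.mem_span_singleton.2 ⟨_, (sub_eq_zero.1 h).symm⟩)
  have hsp : Submodule.span F {a, b} = S := by
    refine Submodule.eq_of_le_of_finrank_eq (Submodule.span_le.2 (by rintro _ (rfl | rfl) <;> assumption)) ?_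
    rw [hS2, show Submodule.span F ({a, b} : Set (Ud F k)) = Submodule.span F (Set.range ![a, b]) by
      simp [Set.pair_comm]]
    refine (finrank_span_eq_card (LinearIndependent.pair_iff.2 fun x y h => ?_)).trans (by simp)
    have h1 := congrArg (f a) h
    simp only [map_add, map_smul, hab, map_zero, smul_eq_mul, mul_zero, add_zero] at h1
    have hx := (mul_eq_zero.1 h1).resolve_right ha
    rw [hx, zero_smul, zero_add] at h
    exact ⟨hx, (smul_eq_zero.1 h).resolve_right hb0⟩
  have dec : ∀ q, (2 : F) • q = (q - (v : Ud F k ≃ₗ[F] Ud F k) q) + (q + (v : Ud F k ≃ₗ[F] Ud F k) q) := fun q => by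
    module
  have hm : ∀ q, q - (v : Ud F k ≃ₗ[F] Ud F k) q ∈ S := fun q => (hS _).2 (by rw [map_sub, invol_apply hf hv, neg_sub])
  have hp : ∀ q, (v : Ud F k ≃ₗ[F] Ud F k) (q + (v : Ud F k ≃ₗ[F] Ud F k) q) = q + (v : Ud F k ≃ₗ[F] Ud F k) q :=
    fun q => by rw [map_add, invol_apply hf hv, add_comm]
  have hperp : ∀ m ∈ S, ∀ p, (v : Ud F k ≃ₗ[F] Ud F k) p = p → f m p = 0 := fun m hm p hp => by
    rw [hf.symm]
    exact eigen_orth hf (v := v) (e := 1) (one_mul 1) (by rw [one_smul, hp]) (by rw [neg_one_smul, (hS m).1 hm])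
  have hb : f b b ≠ 0 := fun h0 => hb0 (hf.nd.1 b fun q => by
    obtain ⟨x, y, hxy⟩ := Submodule.mem_span_pair.1 (hsp ▸ hm q)
    have h4 : (2 : F) * f b q = 0 := by
      rw [← smul_eq_mul, ← map_smul, dec q, map_add, hperp b hbS _ (hp q), ← hxy, map_add, map_smul, map_smul, h0,
        hf.symm a b, hab]
      simp
    exact (mul_eq_zero.1 h4).resolve_left hf.two)
  refine ⟨a, b, ha, hb, hab, qU_ext hf fun q => smul_right_injective (Ud F k) hf.two ?_⟩
  show (2 : F) • (v : Ud F k ≃ₗ[F] Ud F k) q = (2 : F) • _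
  rw [← map_smul, ← map_smul, dec q, map_add, hp, map_add]
  congr 1
  · obtain ⟨x, y, hxy⟩ := Submodule.mem_span_pair.1 (hsp ▸ hm q)
    have hba : f b a = 0 := by rw [hf.symm]; exact hab
    rw [← hxy]
    simp only [map_add, map_smul, (hS a).1 haS, (hS b).1 hbS, Subgroup.coe_mul, LinearEquiv.mul_apply,
      rfU_perp hf hb hba, rfU_self hf hb, map_neg, rfU_self hf ha, rfU_perp hf ha hab]
  · rw [Subgroup.coe_mul, LinearEquiv.mul_apply, rfU_perp hf hb (hperp b hbS _ (hp q)),
      rfU_perp hf ha (hperp a haS _ (hp q))]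

/-- The involutions of one factor used as test elements: reflections, or planes for two factors. -/
def Typ (t : ℕ) (v : OQ (qU f)) : Prop := v * v = 1 ∧ dd (lm v) = (k : ℤ) - (if 2 ≤ t then 2 else 4)

theorem typ_refl (h2 : 2 ≤ t) {c : Ud F k} (hc : f c c ≠ 0) : Typ t (rfU hf hc) := by
  refine ⟨rfU_sq hf hc, ?_⟩
  rw [dd_rfU, if_pos h2]

theorem typ_rr (h2 : ¬ 2 ≤ t) {a b : Ud F k} (ha : f a a ≠ 0) (hb : f b b ≠ 0) (hab : f a b = 0) :
    Typ t (rfU hf ha * rfU hf hb) := by
  refine ⟨(dd_rr hf ha hb hab).1, ?_⟩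
  rw [(dd_rr hf ha hb hab).2, if_neg h2]

/-- Elements fixing an anisotropic line of pure tensors pointwise act on one factor. -/
def FixSlot (hf : SymForm f) (X : Subgroup (OQ (qT f (t + 1)))) : Prop :=
  ∀ {i : Fin (t + 1)} {c : Ud F k}, f c c ≠ 0 → ∀ {x : OQ (qT f (t + 1))}, x ∈ X →
    (∀ w, (x : Vt F k (t + 1) ≃ₗ[F] Vt F k (t + 1)) (Tm i c w) = Tm i c w) →
    ∃ u : OQ (qU f), x = slot hf i u ∧ (u : Ud F k ≃ₗ[F] Ud F k) c = c

namespace EvenCtx

variable {hf} {X : Subgroup (OQ (qT f (t + 1)))} (C : EvenCtx hf X)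
include C

/-- An element carrying an involution of one factor to an element of one factor. -/
theorem std_of_eigen' (hfs : FixSlot hf X) {x : OQ (qT f (t + 1))} (hx : x ∈ X) {i j : Fin (t + 1)} {v v' : OQ (qU f)} (hv : v * v = 1)
    {e : F} (he : e * e = 1) (h3 : 3 ≤ finrank F (fixS (e • lm v)))
    (hv' : ∃ w, (v' : Ud F k ≃ₗ[F] Ud F k) w ≠ e • w) (h : x * slot hf i v * x⁻¹ = slot hf j v') : IsStd x := by
  have hk1 := C.toCore.k1
  obtain ⟨d, z, hd, hdz, hd0, hzz, hfix⟩ := exists_eigen_siegel hf hv he h3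
  have hv'2 : v' * v' = 1 := slot_injective hf hk1 j (by
    rw [map_mul, map_one, ← h]
    calc _ = x * (slot hf i v * slot hf i v) * x⁻¹ := by group
      _ = 1 := by rw [← map_mul, hv, map_one, mul_one, mul_inv_cancel])
  obtain ⟨c, hc, hvc⟩ := exists_eigen_aniso hf hv'2 he hv'
  set σ := slot hf i (sU hf hd hdz)
  obtain ⟨u, hu, -⟩ := hfs (x := x * σ * x⁻¹) (i := j) hc
    (X.mul_mem (X.mul_mem hx (C.slot_sU_X i hd hdz)) (X.inv_mem hx)) fun w => by
      simp only [Subgroup.coe_mul, LinearEquiv.mul_apply]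
      rw [slot_fix_of_eigen hf (u := sU hf hd hdz) (w := v) (l := -e) ?_ hfix]
      · exact (x : Vt F k (t + 1) ≃ₗ[F] Vt F k (t + 1)).apply_symm_apply _
      · refine (x : Vt F k (t + 1) ≃ₗ[F] Vt F k (t + 1)).injective ?_
        rw [map_smul]
        have h1 := congrArg (fun g : OQ (qT f (t + 1)) => (g : Vt F k (t + 1) ≃ₗ[F] Vt F k (t + 1)) (Tm j c w)) h
        simp only [Subgroup.coe_mul, LinearEquiv.mul_apply, slot_Tm_self, hvc] at h1
        rw [h1, map_smul, LinearMap.smul_apply]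
        congr 1
        exact ((x : Vt F k (t + 1) ≃ₗ[F] Vt F k (t + 1)).apply_symm_apply _).symm
  exact C.conj_std hx hd0 hd hdz hzz hu

end EvenCtx

namespace EvenCtx

variable {hf} {X : Subgroup (OQ (qT f (t + 1)))} (C : EvenCtx hf X) (h4 : k = 4 → 2 ≤ t)
include C h4

theorem typ_range : (2 : ℤ) ≤ (k : ℤ) - (if 2 ≤ t then 2 else 4) ∧ (k : ℤ) - (if 2 ≤ t then 2 else 4) < k := by
  have := C.k4
  obtain ⟨n, hn⟩ := C.ke
  split
  · omega
  · next h => have : k ≠ 4 := fun e => h (h4 e); omega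

theorem typ_eigen {v : OQ (qU f)} (hv : Typ t v) : (∃ w, (v : Ud F k ≃ₗ[F] Ud F k) w ≠ w) ∧
    3 ≤ finrank F (fixS ((1 : F) • lm v)) := by
  obtain ⟨h1, h2⟩ := C.typ_range h4
  have hk := C.k4
  have hsum := fixS_add hf.two (L := lm v) (by rw [← lm_mul, hv.1, lm_one])
  rw [finrank_fin_fun] at hsum
  have hd := hv.2
  simp only [dd] at hd
  refine ⟨?_, ?_⟩
  · by_contra! hall
    have : v = 1 := qU_ext hf fun w => by rw [hall w]; rfl
    rw [this, lm_one] at hd
    have e := hv.2
    rw [this, dd_one hf] at e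
    omega
  · rw [one_smul]
    obtain ⟨n, hn⟩ := C.ke
    by_cases ht : 2 ≤ t
    · rw [if_pos ht] at hd; omega
    · rw [if_neg ht] at hd
      have : k ≠ 4 := fun e => ht (h4 e)
      omega

theorem typ_mem {v : OQ (qU f)} (hv : Typ t v) (l : Fin (t + 1)) : slot hf l v ∈ X := by
  by_cases ht : 2 ≤ t
  · exact C.slot_mem ht l v
  obtain ⟨a, b, ha, hb, -, rfl⟩ := eq_rr_of_dd hf hv.1 (by rw [hv.2, if_neg ht])
  exact C.slot_rr_X l ha hb

theorem exists_typ : ∃ v : OQ (qU f), Typ t v := by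
  have := C.k4
  obtain ⟨a, ha, -⟩ := (orth_nil (f := f)).exists_aniso hf (by omega)
  obtain ⟨b, hb, g⟩ := (orth_one (f := f) ha).exists_aniso hf (by omega)
  by_cases ht : 2 ≤ t
  · exact ⟨_, typ_refl hf ht ha⟩
  · exact ⟨_, typ_rr hf ht ha hb (by simpa using g 0)⟩

/-- A commuting companion. -/
theorem exists_other {v : OQ (qU f)} (hv : Typ t v) : ∃ e, Typ t e ∧ Commute v e ∧ e ≠ v := by
  have hk := C.k4
  have h2 := hf.two
  have hneg : ∀ {p : Ud F k}, f p p ≠ 0 → p ≠ -p := fun {p} hp e => hp (by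
    have e0 : (2 : F) • p = 0 := by rw [two_smul]; nth_rw 1 [e]; exact neg_add_cancel p
    rw [(smul_eq_zero.1 e0).resolve_left h2]; simp)
  by_cases ht : 2 ≤ t
  · obtain ⟨c, hc, rfl⟩ := eq_rfU_of_dd hf hv.1 (by rw [hv.2, if_pos ht])
    obtain ⟨a, ha, g⟩ := (orth_one (f := f) hc).exists_aniso hf (by omega)
    have hca : f c a = 0 := by simpa using g 0
    refine ⟨_, typ_refl hf ht ha, rfU_comm hf hc ha hca, fun e => hneg ha ?_⟩
    have h1 := rfU_self hf ha
    rw [e, rfU_perp hf hc hca] at h1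
    exact h1
  · obtain ⟨c, b, hc, hb, hcb, rfl⟩ := eq_rr_of_dd hf hv.1 (by rw [hv.2, if_neg ht])
    obtain ⟨a, ha, g⟩ := (orth_two hf hc hb hcb).exists_aniso hf (by omega)
    have hca : f c a = 0 := by simpa using g 0
    have hba : f b a = 0 := by simpa using g 1
    have o3 := (orth_two hf hc hb hcb).cons hf ha g
    obtain ⟨p, hp, g'⟩ := o3.exists_aniso hf (by omega)
    have hap : f a p = 0 := by simpa using g' 0
    have hcp : f c p = 0 := by simpa using g' 1
    have hbp : f b p = 0 := by simpa using g' 2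
    refine ⟨_, typ_rr hf ht ha hp hap, ?_, fun e => hneg hc ?_⟩
    · exact ((rfU_comm hf hc ha hca).mul_right (rfU_comm hf hc hp hcp)).mul_left
        ((rfU_comm hf hb ha hba).mul_right (rfU_comm hf hb hp hbp))
    · have h1 := congrArg (fun u : OQ (qU f) => (u : Ud F k ≃ₗ[F] Ud F k) c) e
      simp only [Subgroup.coe_mul, LinearEquiv.mul_apply, rfU_perp hf hp (show f p c = 0 by rw [hf.symm, hcp]),
        rfU_perp hf ha (show f a c = 0 by rw [hf.symm, hca]), rfU_perp hf hb (show f b c = 0 by rw [hf.symm, hcb]),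
        rfU_self hf hc] at h1
      exact h1

/-- An element carrying an involution of one factor to an element of one factor. -/
theorem std_of_eigen {x : OQ (qT f (t + 1))} (hx : x ∈ X) {i j : Fin (t + 1)} {v v' : OQ (qU f)} (hv : v * v = 1)
    {e : F} (he : e * e = 1) (h3 : 3 ≤ finrank F (fixS (e • lm v)))
    (hv' : ∃ w, (v' : Ud F k ≃ₗ[F] Ud F k) w ≠ e • w) (h : x * slot hf i v * x⁻¹ = slot hf j v') : IsStd x :=
  C.std_of_eigen' (by intro l c hc y hy hw; exact C.fix_slot h4 hc hy hw) hx hv he h3 hv' h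

/-- An element carrying a test involution to an element of one factor. -/
theorem std_of_slot {x : OQ (qT f (t + 1))} (hx : x ∈ X) {i j : Fin (t + 1)} {v v' : OQ (qU f)} (hv : Typ t v)
    (h : x * slot hf i v * x⁻¹ = slot hf j v') : IsStd x := by
  obtain ⟨⟨w, hw⟩, h3⟩ := C.typ_eigen h4 hv
  refine C.std_of_eigen h4 hx hv.1 (one_mul 1) h3 ?_ h
  by_contra! hall
  refine hw ?_
  have h1 : v' = 1 := qU_ext hf fun q => by rw [hall q, one_smul]; rfl
  rw [h1, map_one] at h
  have h2 : slot hf i v = 1 := by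
    calc slot hf i v = x⁻¹ * (x * slot hf i v * x⁻¹) * x := by group
      _ = 1 := by rw [h]; group
  rw [slot_injective hf C.toCore.k1 i (h2.trans (map_one _).symm)]
  rfl

/-- A standard involution of the type of a test involution is one. -/
theorem typ_class {y : OQ (qT f (t + 1))} (hy : IsStd y) (hyy : y * y = 1)
    (hd : dd (lm y) = ((k : ℤ) - (if 2 ≤ t then 2 else 4)) * (k : ℤ) ^ t) :
    ∃ (l : Fin (t + 1)) (v : OQ (qU f)), Typ t v ∧ y = slot hf l v := by
  by_cases ht : 2 ≤ t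
  · rw [if_pos ht] at hd
    obtain ⟨l, c, hc, rfl⟩ := single_refl hf C.k4 C.ke hy hyy hd
    exact ⟨l, _, typ_refl hf ht hc, rfl⟩
  · rw [if_neg ht] at hd
    obtain rfl : t = 1 := by have := C.t1; omega
    rw [pow_one] at hd
    obtain ⟨l, u, rfl, huu, hdu⟩ := single_plane hf C.k4 C.ke (by
      have := C.k4
      obtain ⟨n, hn⟩ := C.ke
      have : k ≠ 4 := fun e => ht (h4 e)
      omega) hy hyy hd
    exact ⟨l, u, ⟨huu, by rw [hdu, if_neg ht]⟩, rfl⟩

/-- A standard conjugate of a test involution is one. -/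
theorem typ_conj {x : OQ (qT f (t + 1))} {i : Fin (t + 1)} {v : OQ (qU f)} (hv : Typ t v)
    (hy : IsStd (x * slot hf i v * x⁻¹)) :
    ∃ (l : Fin (t + 1)) (v' : OQ (qU f)), Typ t v' ∧ x * slot hf i v * x⁻¹ = slot hf l v' := by
  refine C.typ_class h4 hy ?_ (by rw [dd_conj, dd_slot hf hv.1, hv.2])
  calc _ = x * (slot hf i v * slot hf i v) * x⁻¹ := by group
    _ = 1 := by rw [← map_mul, hv.1, map_one, mul_one, mul_inv_cancel]

/-- An element with a standard conjugate of a test involution is standard. -/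
theorem std_of_typ {x : OQ (qT f (t + 1))} (hx : x ∈ X) {i : Fin (t + 1)} {v : OQ (qU f)} (hv : Typ t v)
    (hy : IsStd (x * slot hf i v * x⁻¹)) : IsStd x := by
  obtain ⟨l, v', -, e⟩ := C.typ_conj h4 hv hy
  exact C.std_of_slot h4 hx hv e

/-- **The centraliser of an involution of one factor is standard.** -/
theorem centr_slot {x : OQ (qT f (t + 1))} (hx : x ∈ X) {i : Fin (t + 1)} {v : OQ (qU f)} (hv : v * v = 1)
    (h1 : ∃ w, (v : Ud F k ≃ₗ[F] Ud F k) w ≠ w) (h1' : ∃ w, (v : Ud F k ≃ₗ[F] Ud F k) w ≠ -w)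
    (h : Commute x (slot hf i v)) : IsStd x := by
  have hk := C.k4
  have ec : x * slot hf i v * x⁻¹ = slot hf i v := mul_inv_eq_of_eq_mul h.eq
  by_cases ht : 2 ≤ t
  · obtain ⟨c, hc, hvc⟩ := exists_eigen_aniso hf hv (e := 1) (one_mul 1) (by simpa using h1)
    obtain ⟨a, ha, hva⟩ := exists_eigen_aniso hf hv (e := -1) (by norm_num) (by simpa using h1')
    rw [neg_neg] at hva
    refine C.std_of_typ h4 hx (i := i) (typ_refl hf ht hc) ?_
    obtain ⟨u, hu, -⟩ := C.fix_slot h4 (x := x * slot hf i (rfU hf hc) * x⁻¹) (i := i) ha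
      (X.mul_mem (X.mul_mem hx (C.slot_mem ht i _)) (X.inv_mem hx)) fun w => by
        simp only [Subgroup.coe_mul, LinearEquiv.mul_apply]
        rw [slot_fix_of_eigen hf (u := rfU hf hc) (w := v) (l := 1) ?_ fun q hq => rfU_perp hf hc ?_]
        · exact (x : Vt F k (t + 1) ≃ₗ[F] Vt F k (t + 1)).apply_symm_apply _
        · rw [← LinearEquiv.mul_apply, ← Subgroup.coe_mul, ← h.inv_left.eq, Subgroup.coe_mul, LinearEquiv.mul_apply,
            slot_Tm_self, hva, one_smul, one_smul]
        · rw [hf.symm]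
          exact eigen_orth hf (v := v) (e := 1) (one_mul 1) hq hvc
    rw [hu]
    exact isStd_slot hf i u
  have hsum := fixS_add hf.two (L := lm v) (by rw [← lm_mul, hv, lm_one])
  rw [finrank_fin_fun] at hsum
  have hk6 : 6 ≤ k := by
    obtain ⟨n, hn⟩ := C.ke
    have : k ≠ 4 := fun e => ht (h4 e)
    omega
  rcases (show 3 ≤ finrank F (fixS (lm v)) ∨ 3 ≤ finrank F (fixS (-lm v)) by omega) with e | e
  · exact C.std_of_eigen h4 hx hv (e := 1) (one_mul 1) (by rwa [one_smul]) (by simpa using h1) ec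
  · exact C.std_of_eigen h4 hx hv (e := -1) (by norm_num) ((neg_one_smul F (lm v)).symm ▸ e) (by simpa using h1') ec

theorem centr_typ {x : OQ (qT f (t + 1))} (hx : x ∈ X) {i : Fin (t + 1)} {v : OQ (qU f)} (hv : Typ t v)
    (h : Commute x (slot hf i v)) : IsStd x :=
  C.std_of_slot h4 hx hv (mul_inv_eq_of_eq_mul h.eq)

end EvenCtx

end CfsgLib.Geo.OrthWreath
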