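/-
A standard involution with the dimensions of a pair of test involutions commutes with a test involution of one
factor.
-/
import Cfsg.Agent.Lib.Geo.OrthWreath.Even.Invol

set_option autoImplicit false
set_option linter.unusedSectionVars false

namespace CfsgLib.Geo.OrthWreath

open CfsgLib.Classical CfsgLib.Classical.Quad Module
open CfsgLib.Geo.MixTensor (SymForm)
open CfsgLib.Geo.TensorWreath (pvec)
open LinearMap (BilinForm)

variable {F : Type*} [Field F] {k t : ℕ} {f : BilinForm F (Ud F k)}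

/-- An involution inverting the form has eigenspaces of equal dimensions. -/
theorem dd_eq_zero_of_anti (hf : SymForm f) {T : Module.End F (Ud F k)} (hT : T * T = 1)
    (h : ∀ a b, f (T a) (T b) = -f a b) : dd T = 0 := by
  have hT2 : ∀ v, T (T v) = v := fun v => LinearMap.congr_fun hT v
  have key : ∀ S : Module.End F (Ud F k), (S = T ∨ S = -T) →
      finrank F (fixS S) ≤ finrank F (fixS (-S)) := by
    intro S hS
    have hSS : ∀ v, S (S v) = v := fun v => by rcases hS with rfl | rfl <;> simp [hT2]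
    have hSf : ∀ a b, f (S a) (S b) = -f a b := fun a b => by rcases hS with rfl | rfl <;> simp [h]
    have iso : ∀ a ∈ fixS S, ∀ b ∈ fixS S, f a b = 0 := fun a ha b hb => by
      have h1 := hSf a b
      rw [mem_fixS.1 ha, mem_fixS.1 hb] at h1
      exact (mul_eq_zero.1 (show (2 : F) * f a b = 0 by linear_combination h1)).resolve_left hf.two
    let Φ : fixS S →ₗ[F] (fixS (-S) →ₗ[F] F) := (f.domRestrict₁₂ (fixS S) (fixS (-S)))
    refine (LinearMap.finrank_le_finrank_of_injective (f := Φ) ((injective_iff_map_eq_zero Φ).2 ?_)).trans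
      (le_of_eq Subspace.dual_finrank_eq)
    rintro ⟨a, ha⟩ h0
    refine Subtype.ext (hf.nd.1 a fun q => ?_)
    have h1 : f a (q + S q) = 0 := iso a ha _ (mem_fixS.2 (by rw [map_add, hSS, add_comm]))
    have hm : q - S q ∈ fixS (-S) := mem_fixS.2 (by rw [LinearMap.neg_apply, map_sub, hSS, neg_sub])
    have h2 : f a (q - S q) = 0 := LinearMap.congr_fun h0 ⟨_, hm⟩
    have h3 : (2 : F) * f a q = 0 := by
      rw [map_add] at h1
      rw [map_sub] at h2
      linear_combination h1 + h2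
    exact (mul_eq_zero.1 h3).resolve_left hf.two
  have h1 := key T (Or.inl rfl)
  have h2 := key (-T) (Or.inr rfl)
  rw [neg_neg] at h2
  rw [dd]
  omega

/-- An involution with eigenspaces of equal dimensions exchanges a projection with its complement. -/
theorem exists_proj_of_dd {V : Type*} [AddCommGroup V] [Module F V] [FiniteDimensional F V] (h2 : (2 : F) ≠ 0)
    {T : Module.End F V} (hT : T * T = 1) (h : dd T = 0) :
    ∃ P : Module.End F V, P * P = P ∧ T * P = (1 - P) * T := by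
  have hT2 : ∀ v, T (T v) = v := fun v => LinearMap.congr_fun hT v
  have he : finrank F (fixS T) = finrank F (fixS (-T)) := by rw [dd] at h; omega
  let θ := LinearEquiv.ofFinrankEq (R := F) (fixS T) (fixS (-T)) he
  have m1 : ∀ v, (2 : F)⁻¹ • (v + T v) ∈ fixS T := fun v => mem_fixS.2 (by rw [map_smul, map_add, hT2, add_comm])
  have m2 : ∀ v, (2 : F)⁻¹ • (v - T v) ∈ fixS (-T) := fun v => mem_fixS.2 (by
    rw [LinearMap.neg_apply, map_smul, map_sub, hT2, ← smul_neg, neg_sub])
  let π₁ : V →ₗ[F] fixS T := LinearMap.codRestrict (fixS T) ((2 : F)⁻¹ • (1 + T)) m1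
  let π₂ : V →ₗ[F] fixS (-T) := LinearMap.codRestrict (fixS (-T)) ((2 : F)⁻¹ • (1 - T)) m2
  let Θ : Module.End F V := (fixS (-T)).subtype ∘ₗ θ.toLinearMap ∘ₗ π₁ + (fixS T).subtype ∘ₗ θ.symm.toLinearMap ∘ₗ π₂
  have a1 : ∀ v (hv : v ∈ fixS T), π₁ v = ⟨v, hv⟩ ∧ π₂ v = 0 := fun v hv => by
    have := mem_fixS.1 hv
    refine ⟨Subtype.ext ?_, Subtype.ext ?_⟩
    · show (2 : F)⁻¹ • (v + T v) = v
      rw [this, ← two_smul F v, inv_smul_smul₀ h2]
    · show (2 : F)⁻¹ • (v - T v) = 0
      rw [this, sub_self, smul_zero]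
  have a2 : ∀ v (hv : v ∈ fixS (-T)), π₂ v = ⟨v, hv⟩ ∧ π₁ v = 0 := fun v hv => by
    have := mem_fixS.1 hv
    rw [LinearMap.neg_apply, neg_eq_iff_eq_neg] at this
    refine ⟨Subtype.ext ?_, Subtype.ext ?_⟩
    · show (2 : F)⁻¹ • (v - T v) = v
      rw [this, sub_neg_eq_add, ← two_smul F v, inv_smul_smul₀ h2]
    · show (2 : F)⁻¹ • (v + T v) = 0
      rw [this, add_neg_cancel, smul_zero]
  have hΘ : ∀ v, Θ v = (θ (π₁ v) : V) + (θ.symm (π₂ v) : V) := fun v => rfl
  have h11 : ∀ p : fixS T, Θ p = θ p := fun p => by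
    rw [hΘ, (a1 p p.2).1, (a1 p p.2).2]; simp
  have h22 : ∀ p : fixS (-T), Θ p = θ.symm p := fun p => by
    rw [hΘ, (a2 p p.2).1, (a2 p p.2).2]; simp
  have dec : ∀ v, v = (π₁ v : V) + (π₂ v : V) := fun v => by
    show v = (2 : F)⁻¹ • (v + T v) + (2 : F)⁻¹ • (v - T v)
    rw [← smul_add, show v + T v + (v - T v) = (2 : F) • v by module, inv_smul_smul₀ h2]
  have hΘΘ : ∀ v, Θ (Θ v) = v := fun v => by
    rw [hΘ v, map_add, h22, h11]
    simp only [LinearEquiv.symm_apply_apply, LinearEquiv.apply_symm_apply]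
    exact (dec v).symm
  have hTΘ : ∀ v, T (Θ v) = -Θ (T v) := fun v => by
    have e1 : ∀ p : fixS T, T p = p := fun p => mem_fixS.1 p.2
    have e2 : ∀ p : fixS (-T), T p = -(p : V) := fun p => by
      have := mem_fixS.1 p.2
      rwa [LinearMap.neg_apply, neg_eq_iff_eq_neg] at this
    conv_rhs => rw [dec v, map_add, e1, e2, map_add, map_neg, h11, h22]
    rw [hΘ v, map_add, e2, e1]
    abel
  refine ⟨(2 : F)⁻¹ • (1 + Θ), LinearMap.ext fun v => ?_, LinearMap.ext fun v => ?_⟩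
  · simp only [Module.End.mul_apply, LinearMap.smul_apply, LinearMap.add_apply, Module.End.one_apply, map_smul,
      map_add, hΘΘ]
    match_scalars <;> field_simp <;> ring
  · simp only [Module.End.mul_apply, LinearMap.smul_apply, LinearMap.add_apply, Module.End.one_apply, map_smul,
      map_add, LinearMap.sub_apply, hTΘ]
    match_scalars <;> field_simp <;> ring

/-- A fixed factor with an exchanged projection gives equal eigenspaces. -/
theorem Acts.dd_eq_zero (h2 : (2 : F) ≠ 0) {L : Module.End F (Vt F k t)} {π : Equiv.Perm (Fin t)}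
    {gs : Fin t → Ud F k ≃ₗ[F] Ud F k} (h : Acts L π gs) (hL : L * L = 1) {l : Fin t} (hl : π⁻¹ l = l)
    {P : Module.End F (Ud F k)} (hP : P * P = P) (hgP : ∀ u, gs l (P u) = gs l u - P (gs l u)) : dd L = 0 := by
  classical
  refine dd_eq_zero_of_proj h2 (P := emb l P) (by rw [← map_mul, hP]) (pvec_ext fun ξ => ?_) hL
  simp only [Module.End.mul_apply, LinearMap.sub_apply, Module.End.one_apply, emb_pvec, h _]
  set η := fun j => gs j (ξ (π⁻¹ j))
  have e1 : (fun j => gs j (Function.update ξ l (P (ξ l)) (π⁻¹ j))) = Function.update η l (η l - P (η l)) := by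
    funext j
    by_cases hj : j = l
    · subst hj
      rw [Function.update_self, hl, Function.update_self, hgP]
      simp only [η, hl]
    · rw [Function.update_of_ne hj, Function.update_of_ne fun e => hj ((π⁻¹).injective (e.trans hl.symm))]
  rw [e1, sub_eq_add_neg, pvec_update_add, ← neg_one_smul F (P (η l)), pvec_update_smul, neg_one_smul,
    Function.update_eq_self, ← sub_eq_add_neg]

/-- An involution moving all the factors. -/
theorem Acts.dd_moved (h2 : (2 : F) ≠ 0) {L : Module.End F (Vt F k t)} {π : Equiv.Perm (Fin t)}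
    {gs : Fin t → Ud F k ≃ₗ[F] Ud F k} (h : Acts L π gs) (hL : L * L = 1) (hππ : ∀ l, π⁻¹ (π⁻¹ l) = l)
    (hπ : ∀ l, π⁻¹ l ≠ l) {s : Fin t → F} (hs1 : ∏ l, s l = 1) (hs : ∀ l u, gs l (gs (π⁻¹ l) u) = s l • u)
    (hk : 1 ≤ k) :
    (dd L).natAbs = (Finset.univ.filter fun c : Fin t → Fin k => c ∘ ⇑π⁻¹ = c).card := by
  classical
  set e := Pi.basisFun F (Fin k)
  set B : Fin t → Basis (Fin k) F (Ud F k) := fun l => if l < π⁻¹ l then e else e.map (gs l)
  set a : Fin t → F := fun l => if l < π⁻¹ l then s l else 1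
  have key : ∀ l m, gs l (B (π⁻¹ l) m) = a l • B l m := fun l m => by
    rcases lt_or_gt_of_ne (hπ l) with hlt | hlt
    · simp only [B, a, if_neg (not_lt.2 hlt.le), hππ, if_pos hlt, one_smul, Basis.map_apply]
    · simp only [B, a, if_pos hlt, hππ, if_neg (not_lt.2 hlt.le), Basis.map_apply]
      exact hs l _
  obtain ⟨b, hb⟩ := exists_pbasis B
  have hsym : ∀ l, s (π⁻¹ l) = s l := fun l => by
    have hz : e ⟨0, hk⟩ ≠ 0 := e.ne_zero _
    refine smul_left_injective F (show gs (π⁻¹ l) (e ⟨0, hk⟩) ≠ 0 by simpa using hz) ?_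
    have h1 := hs (π⁻¹ l) (gs (π⁻¹ l) (e ⟨0, hk⟩))
    rw [hππ, hs l, map_smul] at h1
    exact h1.symm
  set E := ∏ l, a l
  have hEE : E * E = 1 := by
    have e2 : (∏ l, if l < π⁻¹ l then 1 else s l) = E := by
      refine Fintype.prod_equiv (π⁻¹) _ _ fun l => ?_
      simp only [a, hππ, hsym]
      rcases lt_or_gt_of_ne (hπ l) with hlt | hlt
      · rw [if_neg (not_lt.2 hlt.le), if_pos hlt]
      · rw [if_pos hlt, if_neg (not_lt.2 hlt.le)]
    calc E * E = E * ∏ l, (if l < π⁻¹ l then 1 else s l) := by rw [e2]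
      _ = ∏ l, a l * (if l < π⁻¹ l then 1 else s l) := (Finset.prod_mul_distrib).symm
      _ = 1 := by
        refine (Finset.prod_congr rfl fun l _ => ?_).trans hs1
        by_cases hl : l < π⁻¹ l
        · simp only [a, if_pos hl, mul_one]
        · simp only [a, if_neg hl, one_mul]
  obtain ⟨ε, hε, hεF⟩ : ∃ ε : ℤ, (ε = 1 ∨ ε = -1) ∧ (ε : F) = E := by
    rcases mul_self_eq_one_iff.1 hEE with h | h
    · exact ⟨1, Or.inl rfl, by simp [h]⟩
    · exact ⟨-1, Or.inr rfl, by simp [h]⟩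
  rw [dd_monomial h2 b (σ := fun c => c ∘ ⇑π⁻¹) (ε := fun _ => ε) (fun _ => hε)
    (fun c => funext fun l => congrArg c (hππ l)) hL fun c => by
      rw [hb, hb, h, ← hεF.symm, ← pvec_smul_all]
      exact congrArg pvec (funext fun l => key l _)]
  rw [Finset.sum_const, nsmul_eq_mul]
  rcases hε with rfl | rfl <;> simp

variable [Finite F] {hf : SymForm f}

theorem comm_rfU (hf : SymForm f) {v : OQ (qU f)} {c : Ud F k} (hc : f c c ≠ 0) {e : F} (he : e * e = 1)
    (hvc : (v : Ud F k ≃ₗ[F] Ud F k) c = e • c) : Commute v (rfU hf hc) := qU_ext hf fun q => by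
  have h1 := map_f hf v c q
  rw [hvc, map_smul, LinearMap.smul_apply, smul_eq_mul] at h1
  simp only [Subgroup.coe_mul, LinearEquiv.mul_apply, rfU_apply, MixTensor.refl_apply, map_sub, map_smul, hvc,
    smul_smul]
  congr 2
  linear_combination e * (2 / f c c) * h1 * (-1) + (2 / f c c) * f c ((v : Ud F k ≃ₗ[F] Ud F k) q) * he

/-- A test involution commuting with an involution of one factor. -/
theorem exists_typ_comm (hf : SymForm f) (hk : 4 ≤ k) {v : OQ (qU f)} (hv : v * v = 1) :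
    ∃ w : OQ (qU f), Typ t w ∧ Commute v w := by
  obtain ⟨c, hc, e, he, hvc⟩ : ∃ (c : Ud F k) (_ : f c c ≠ 0) (e : F), e * e = 1 ∧
      (v : Ud F k ≃ₗ[F] Ud F k) c = e • c := by
    by_cases h1 : ∃ q, (v : Ud F k ≃ₗ[F] Ud F k) q ≠ q
    · obtain ⟨c, hc, hvc⟩ := exists_eigen_aniso hf hv (e := 1) (one_mul 1) (by simpa using h1)
      exact ⟨c, hc, -1, by norm_num, hvc⟩
    · push Not at h1
      obtain ⟨c, hc, -⟩ := (orth_nil (f := f)).exists_aniso hf (by omega)
      exact ⟨c, hc, 1, one_mul 1, by rw [h1, one_smul]⟩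
  by_cases h2 : 2 ≤ t
  · exact ⟨_, typ_refl hf h2 hc, comm_rfU hf hc he hvc⟩
  obtain ⟨b, hb, hcb, e', he', hvb⟩ : ∃ (b : Ud F k) (_ : f b b ≠ 0), f c b = 0 ∧ ∃ e' : F, e' * e' = 1 ∧
      (v : Ud F k ≃ₗ[F] Ud F k) b = e' • b := by
    by_cases h1 : ∀ q, f c q = 0 → (v : Ud F k ≃ₗ[F] Ud F k) q = q
    · obtain ⟨b, hb, g⟩ := (orth_one (f := f) hc).exists_aniso hf (by omega)
      have hcb : f c b = 0 := by simpa using g 0
      exact ⟨b, hb, hcb, 1, one_mul 1, by rw [h1 b hcb, one_smul]⟩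
    push Not at h1
    obtain ⟨q, hcq, hq⟩ := h1
    -- remove the first vector
    obtain ⟨w, hw, hwc, hwq⟩ : ∃ w : OQ (qU f), w * w = 1 ∧ (w : Ud F k ≃ₗ[F] Ud F k) c = c ∧
        ∀ q, f c q = 0 → (w : Ud F k ≃ₗ[F] Ud F k) q = (v : Ud F k ≃ₗ[F] Ud F k) q := by
      rcases mul_self_eq_one_iff.1 he with h | h
      · exact ⟨v, hv, by rw [hvc, h, one_smul], fun _ _ => rfl⟩
      refine ⟨v * rfU hf hc, ?_, ?_, fun q hq => ?_⟩
      · rw [← sq, (comm_rfU hf hc he hvc).mul_pow, sq, sq, hv, rfU_sq, one_mul]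
      · rw [Subgroup.coe_mul, LinearEquiv.mul_apply, rfU_self hf hc, map_neg, hvc, h, neg_one_smul, neg_neg]
      · rw [Subgroup.coe_mul, LinearEquiv.mul_apply, rfU_perp hf hc hq]
    obtain ⟨b, hb, hwb⟩ := exists_eigen_aniso hf hw (e := 1) (one_mul 1) ⟨q, by rw [one_smul, hwq q hcq]; exact hq⟩
    have hcb : f c b = 0 := eigen_orth hf (v := w) (e := 1) (one_mul 1) (by rw [hwc, one_smul]) hwb
    exact ⟨b, hb, hcb, -1, by norm_num, by rw [← hwq b hcb, hwb]⟩
  exact ⟨_, typ_rr hf h2 hc hb hcb, (comm_rfU hf hc he hvc).mul_right (comm_rfU hf hb he' hvb)⟩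

namespace EvenCtx

variable {X : Subgroup (OQ (qT f (t + 1)))} (C : EvenCtx hf X) (h4 : k = 4 → 2 ≤ t)
include C h4

/-- A standard involution of the type of a pair commutes with a test involution of one factor. -/
theorem exists_commuting {y : OQ (qT f (t + 1))} (hy : IsStd y) (hyy : y * y = 1)
    (hd : dd (lm y) * k =
      ((k : ℤ) - (if 2 ≤ t then 2 else 4)) * ((k : ℤ) - (if 2 ≤ t then 2 else 4)) * (k : ℤ) ^ t) :
    ∃ (l : Fin (t + 1)) (v : OQ (qU f)), Typ t v ∧ Commute y (slot hf l v) := by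
  classical
  have hk := C.k4
  obtain ⟨hD2, -⟩ := C.typ_range h4
  obtain ⟨π, gs, m, e, hm0, -, hsim⟩ := hy.acts hf (by omega)
  have hL : lm y * lm y = 1 := by rw [← lm_mul, hyy, lm_one]
  obtain ⟨hππ, s, hs1, hs⟩ := e.sq (by omega) hL
  have hpos : (0 : ℤ) < (k : ℤ) ^ t := pow_pos (by omega) t
  have hne0 : dd (lm y) ≠ 0 := fun h0 => by
    rw [h0, zero_mul, eq_comm] at hd
    have : (0 : ℤ) < ((k : ℤ) - (if 2 ≤ t then 2 else 4)) * ((k : ℤ) - (if 2 ≤ t then 2 else 4)) * (k : ℤ) ^ t :=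
      mul_pos (mul_pos (by omega) (by omega)) hpos
    omega
  by_cases hfix : ∃ l, π⁻¹ l = l
  · obtain ⟨l, hl⟩ := hfix
    have hgg : ∀ u, gs l (gs l u) = s l • u := fun u => by
      conv_lhs => arg 2; rw [← hl]
      exact hs l u
    by_cases hsq : IsSquare (s l)
    swap
    · obtain ⟨P, hPP, hP⟩ := exists_half (u := (gs l : Ud F k →ₗ[F] Ud F k)) hgg hsq
      exact absurd (e.dd_eq_zero hf.two hL hl hPP fun u => by simpa using LinearMap.congr_fun hP u) hne0
    obtain ⟨r, hr⟩ := hsq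
    obtain ⟨z, hz⟩ := exists_aniso_vec hf (k := k) (by omega)
    have hr0 : r ≠ 0 := fun h0 => hz (by
      have h1 : gs l (gs l z) = 0 := by rw [hgg, hr, h0]; simp
      simp only [LinearEquiv.map_eq_zero_iff] at h1
      simp [h1])
    set T : Module.End F (Ud F k) := r⁻¹ • (gs l : Ud F k →ₗ[F] Ud F k)
    have hTT : ∀ u, T (T u) = u := fun u => by
      simp only [T, LinearMap.smul_apply, LinearEquiv.coe_coe, map_smul, hgg, hr, smul_smul]
      rw [show r⁻¹ * (r⁻¹ * (r * r)) = 1 by field_simp, one_smul]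
    have hTg : ∀ u, gs l u = r • T u := fun u => by simp [T, smul_smul, mul_inv_cancel₀ hr0]
    have hTs : ∀ a b, f (T a) (T b) = m l / (r * r) * f a b := fun a b => by
      simp only [T, LinearMap.smul_apply, LinearEquiv.coe_coe, map_smul, smul_eq_mul, hsim]
      field_simp
    have hmu : m l / (r * r) = 1 ∨ m l / (r * r) = -1 := mul_self_eq_one_iff.1 (mul_right_cancel₀ hz (by
      rw [one_mul, mul_assoc, ← hTs, ← hTs, hTT]))
    rcases hmu with hmu | hmu
    swap
    · obtain ⟨P, hPP, hP⟩ := exists_proj_of_dd hf.two (T := T) (LinearMap.ext hTT)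
        (dd_eq_zero_of_anti hf (LinearMap.ext hTT) fun a b => by rw [hTs, hmu, neg_one_mul])
      refine absurd (e.dd_eq_zero hf.two hL hl hPP fun u => ?_) hne0
      have h1 := LinearMap.congr_fun hP u
      simp only [Module.End.mul_apply, LinearMap.sub_apply, Module.End.one_apply] at h1
      rw [hTg, hTg, map_smul, h1, smul_sub]
    have hTi : ∀ a b, f (T a) (T b) = f a b := fun a b => by rw [hTs, hmu, one_mul]
    obtain ⟨w, hw, hwc⟩ := exists_typ_comm (t := t) hf hk (v := mkU hf hTi) (qU_ext hf fun u => by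
      rw [Subgroup.coe_mul, LinearEquiv.mul_apply, mkU_apply, mkU_apply, hTT]; rfl)
    refine ⟨l, w, hw, ?_⟩
    obtain ⟨v, hv, he⟩ := conj_slot_sim hf e hm0 hsim l w
    have hπl : π l = l := by conv_lhs => rw [← hl]; rw [← Equiv.Perm.mul_apply, mul_inv_cancel, Equiv.Perm.one_apply]
    rw [hπl] at he hv
    have hvw : v = w := qU_ext hf fun q => by
      obtain ⟨a, rfl⟩ := (gs l).surjective q
      have h1 := congrArg (fun g : OQ (qU f) => (g : Ud F k ≃ₗ[F] Ud F k) a) hwc.eq
      simp only [Subgroup.coe_mul, LinearEquiv.mul_apply, mkU_apply] at h1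
      rw [hv, hTg, hTg, map_smul, h1]
    rw [hvw] at he
    exact mul_inv_eq_iff_eq_mul.1 he
  -- all factors move
  exfalso
  push Not at hfix
  have hcard := e.dd_moved hf.two hL hππ hfix hs1 hs (by omega)
  set N := (Finset.univ.filter fun c : Fin (t + 1) → Fin k => c ∘ ⇑π⁻¹ = c).card
  have hdpos : 0 < dd (lm y) := by
    by_contra hle
    have h1 : dd (lm y) * k ≤ 0 := mul_nonpos_of_nonpos_of_nonneg (not_lt.1 hle) (by omega)
    rw [hd] at h1
    have : (0 : ℤ) < ((k : ℤ) - (if 2 ≤ t then 2 else 4)) * ((k : ℤ) - (if 2 ≤ t then 2 else 4)) * (k : ℤ) ^ t :=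
      mul_pos (mul_pos (by omega) (by omega)) hpos
    omega
  rw [show dd (lm y) = (N : ℤ) by omega] at hd
  set b := π⁻¹ (0 : Fin (t + 1))
  have hb0 : (0 : Fin (t + 1)) ≠ b := fun h => hfix 0 h.symm
  have hsub : (Finset.univ.filter fun c : Fin (t + 1) → Fin k => c ∘ ⇑π⁻¹ = c) ⊆
      Finset.univ.filter fun c : Fin (t + 1) → Fin k => c 0 = c b := fun c hc => by
    rw [Finset.mem_filter] at hc ⊢
    exact ⟨hc.1, (congrFun hc.2 0).symm⟩
  by_cases ht : 2 ≤ t
  · obtain ⟨p, hp⟩ := Finset.exists_mem_notMem_of_card_lt_card (s := ({0, b} : Finset (Fin (t + 1))))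
      (t := Finset.univ) (by rw [Finset.card_pair hb0, Finset.card_univ, Fintype.card_fin]; omega)
    simp only [Finset.mem_insert, Finset.mem_singleton, not_or] at hp
    obtain ⟨-, hp0, hpb⟩ := hp
    have hlt : N < k ^ t := by
      rw [← card_diag (k := k) hb0]
      refine Finset.card_lt_card ⟨hsub, fun hss => ?_⟩
      set c : Fin (t + 1) → Fin k := Function.update (fun _ => ⟨0, by omega⟩) p ⟨1, by omega⟩
      have h1 : c ∈ Finset.univ.filter fun c : Fin (t + 1) → Fin k => c 0 = c b := by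
        rw [Finset.mem_filter]
        exact ⟨Finset.mem_univ _, by simp [c, Function.update_of_ne (Ne.symm hp0), Function.update_of_ne (Ne.symm hpb)]⟩
      have h2 : c (π⁻¹ p) = c p := congrFun (Finset.mem_filter.1 (hss h1)).2 p
      simp only [c] at h2
      rw [Function.update_of_ne (hfix p), Function.update_self] at h2
      simp [Fin.ext_iff] at h2
    rw [if_pos ht] at hd hD2
    have h1 : (N : ℤ) < (k : ℤ) ^ t := by exact_mod_cast hlt
    have h2 : (k : ℤ) ≤ ((k : ℤ) - 2) * ((k : ℤ) - 2) := by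
      nlinarith [mul_nonneg (show (0 : ℤ) ≤ (k : ℤ) - 1 by omega) (show (0 : ℤ) ≤ (k : ℤ) - 4 by omega)]
    nlinarith [mul_lt_mul_of_pos_right h1 (show (0 : ℤ) < k by omega), mul_le_mul_of_nonneg_right h2 hpos.le]
  · obtain rfl : t = 1 := by have := C.t1; omega
    have hN : N = k := by
      refine (congrArg Finset.card (hsub.antisymm fun c hc => ?_)).trans ((card_diag hb0).trans (pow_one k))
      rw [Finset.mem_filter] at hc ⊢
      refine ⟨hc.1, funext fun l => ?_⟩
      have hb1 : b = 1 := by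
        rcases Fin.exists_fin_two.1 ⟨b, rfl⟩ with h | h
        · exact absurd h.symm hb0
        · exact h
      have hb1' : π⁻¹ 1 = 0 := by rw [← hb1]; exact hππ 0
      fin_cases l
      · exact hc.2.symm
      · show c (π⁻¹ 1) = c 1
        rw [hb1', hc.2, hb1]
    rw [hN, if_neg ht, pow_one] at hd
    have h1 := mul_right_cancel₀ (show (k : ℤ) ≠ 0 by omega) hd
    obtain ⟨n, hn⟩ := C.ke
    have hk6 : k ≠ 4 := fun h => ht (h4 h)
    rcases (show k = 6 ∨ 8 ≤ k by omega) with rfl | h8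
    · norm_num at h1
    · nlinarith [mul_le_mul_of_nonneg_right (show (4 : ℤ) ≤ (k : ℤ) - 4 by omega) (show (0 : ℤ) ≤ (k : ℤ) - 4 by omega)]

end EvenCtx

end CfsgLib.Geo.OrthWreath
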