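/-
In even dimension, outside two factors of dimension four, a proper overgroup consists of standard elements.
-/
import Cfsg.Agent.Lib.Geo.OrthWreath.Even.Pair
import Cfsg.Agent.Lib.Geo.OrthWreath.Even.Finder

set_option autoImplicit false
set_option linter.unusedSectionVars false

namespace CfsgLib.Geo.OrthWreath

open CfsgLib.Classical CfsgLib.Classical.Quad Module
open CfsgLib.Geo.MixTensor (SymForm)
open CfsgLib.Geo.TensorWreath (pvec)
open LinearMap (BilinForm)

variable {F : Type*} [Field F] [Finite F] {k t : ℕ} {f : BilinForm F (Ud F k)} {hf : SymForm f}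

/-- The difference of dimensions of a product of involutions of two factors. -/
theorem dd_slot_pair (hf : SymForm f) {i j : Fin (t + 1)} (hij : i ≠ j) {p q : OQ (qU f)} (hp : p * p = 1)
    (hq : q * q = 1) :
    dd (lm (slot hf i p * slot hf j q)) * k = dd (lm p) * dd (lm q) * (k : ℤ) ^ t := by
  classical
  rw [dd_slots hf (us := Function.update (Function.update (fun _ => 1) j q) i p)
    (fun ξ => by rw [hasNf_pair hf hij p q ξ]; rfl) (fun l => by
      by_cases hl : l = i
      · subst hl; simp [hp]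
      by_cases hl' : l = j
      · subst hl'; simp [hq, Function.update_of_ne hl]
      · simp [Function.update_of_ne hl, Function.update_of_ne hl'])]
  rw [← Finset.mul_prod_erase Finset.univ _ (Finset.mem_univ i),
    ← Finset.mul_prod_erase _ _ (Finset.mem_erase.2 ⟨hij.symm, Finset.mem_univ j⟩),
    Function.update_self, Function.update_of_ne hij.symm, Function.update_self,
    Finset.prod_congr rfl (g := fun _ => (k : ℤ)) fun l hl => by
      obtain ⟨h1, h2⟩ := Finset.mem_erase.1 hl
      rw [Function.update_of_ne (Finset.mem_erase.1 h2).1, Function.update_of_ne h1, dd_one hf],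
    Finset.prod_const, Finset.card_erase_of_mem (Finset.mem_erase.2 ⟨hij.symm, Finset.mem_univ j⟩),
    Finset.card_erase_of_mem (Finset.mem_univ i), Finset.card_univ, Fintype.card_fin]
  obtain ⟨s, rfl⟩ : ∃ s, t = s + 1 := ⟨t - 1, by
    rcases Nat.eq_zero_or_pos t with rfl | h
    · exact absurd (Subsingleton.elim (α := Fin 1) i j) hij
    · omega⟩
  rw [show s + 1 + 1 - 1 - 1 = s by omega, pow_succ]
  ring

namespace EvenCtx

variable {X : Subgroup (OQ (qT f (t + 1)))} (C : EvenCtx hf X) (h4 : k = 4 → 2 ≤ t)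
include C h4

/-- **A proper overgroup consists of standard elements.** -/
theorem all_std {g : OQ (qT f (t + 1))} (hg : g ∈ X) : IsStd g := by
  classical
  haveI := C.toCore.finiteX
  have hk := C.k4
  have hk1 := C.toCore.k1
  obtain ⟨hD2, hDk⟩ := C.typ_range h4
  obtain ⟨i₀, i₁, hi⟩ : ∃ i₀ i₁ : Fin (t + 1), i₀ ≠ i₁ :=
    ⟨0, ⟨1, by have := C.t1; omega⟩, fun e => by simpa using congrArg Fin.val e⟩
  obtain ⟨v, hv⟩ := C.exists_typ h4
  set va := slot hf i₀ v
  set B := va * slot hf i₁ v with hB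
  set y := g * B * g⁻¹ with hy
  have hBX : B ∈ X := X.mul_mem (C.typ_mem h4 hv i₀) (C.typ_mem h4 hv i₁)
  have hyX : y ∈ X := X.mul_mem (X.mul_mem hg hBX) (X.inv_mem hg)
  have hD : Subgroup.closure ({va, y} : Set (OQ (qT f (t + 1)))) ≤ X := by
    refine (Subgroup.closure_le _).2 ?_
    rintro d (rfl | rfl)
    · exact C.typ_mem h4 hv i₀
    · exact hyX
  have hBd : dd (lm B) * k =
      ((k : ℤ) - (if 2 ≤ t then 2 else 4)) * ((k : ℤ) - (if 2 ≤ t then 2 else 4)) * (k : ℤ) ^ t := by
    rw [hB, dd_slot_pair hf hi hv.1 hv.1, hv.2]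
  have hne : ∀ d : OQ (qT f (t + 1)), d * va * d⁻¹ ≠ y := fun d q => by
    have h1 := congrArg (fun u => dd (lm u) * (k : ℤ)) q
    simp only [hy, dd_conj, hBd, va, dd_slot hf hv.1, hv.2] at h1
    have hpos : (0 : ℤ) < (k : ℤ) ^ t := pow_pos (by omega) t
    set D := (k : ℤ) - (if 2 ≤ t then 2 else 4)
    have h2 : D * ((k : ℤ) ^ t * ((k : ℤ) - D)) = 0 := by linear_combination h1
    rcases mul_eq_zero.1 h2 with h | h
    · omega
    rcases mul_eq_zero.1 h with h | h <;> omega
  have h11 : va * va = 1 := by rw [← map_mul, hv.1, map_one]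
  have hva1 : va ≠ 1 := fun e => (C.typ_not_one h4 hv).1 (by
    rw [slot_injective hf hk1 i₀ (e.trans (map_one _).symm), lm_one])
  have hBB : B * B = 1 := by
    rw [hB, mul_assoc, ← mul_assoc (slot hf i₁ v), (slot_comm hf hi v v).symm.eq, mul_assoc va (slot hf i₁ v),
      ← map_mul, hv.1, map_one, mul_one, h11]
  have hB1 : B ≠ 1 := fun e => by
    have h1 := hBd
    rw [e] at h1
    obtain ⟨c, hc⟩ := slot_eq_slot hf hk1 hi
      ((eq_inv_of_mul_eq_one_left e).trans (inv_eq_of_mul_eq_one_right (by rw [← map_mul, hv.1, map_one])))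
    exact C.typ_not_scalar h4 hv c hc
  obtain ⟨z, hzD, hzo, hza, hzy, d, hd, hdz⟩ := exists_central (Signalizer.orderOf_eq_two_of hva1 h11)
    (show orderOf y = 2 by rw [hy, Signalizer.orderOf_conj]; exact Signalizer.orderOf_eq_two_of hB1 hBB)
    fun d _ => hne d
  have hzX : z ∈ X := hD hzD
  have hdX : d ∈ X := hD hd
  have hys : IsStd y := by
    rcases hdz with q | q
    · exact C.centr_central h4 hv hv hzX hzo hza q hyX hzy
    set g' := d * g
    have hg' : g' ∈ X := X.mul_mem hdX hg
    have q' : va * z = g' * B * g'⁻¹ := q.trans (by simp only [g', y]; group)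
    have h1 : Commute va (g' * B * g'⁻¹) := q' ▸ (Commute.refl va).mul_right hza.symm
    have h2 : Commute (g'⁻¹ * va * g') B := by
      show _ = _
      calc g'⁻¹ * va * g' * B = g'⁻¹ * (va * (g' * B * g'⁻¹)) * g' := by group
        _ = g'⁻¹ * (g' * B * g'⁻¹ * va) * g' := by rw [h1.eq]
        _ = _ := by group
    have h3 := C.centr_pair h4 hi hv hv
      (X.mul_mem (X.mul_mem (X.inv_mem hg') (C.typ_mem h4 hv i₀)) hg') h2
    have hg's : IsStd g' := by
      have := C.toCore.isStd_inv (C.std_of_typ h4 (X.inv_mem hg') (i := i₀) hv (by rwa [inv_inv]))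
      rwa [inv_inv] at this
    obtain ⟨π, hπ⟩ := exists_conj (hf := hf) hk1 hg's
    obtain ⟨p, hp⟩ := hπ i₀ v
    obtain ⟨r, hr⟩ := hπ i₁ v
    have hz : z = va * (slot hf (π i₀) p * slot hf (π i₁) r) := by
      rw [← hp, ← hr, show g' * slot hf i₀ v * g'⁻¹ * (g' * slot hf i₁ v * g'⁻¹) = g' * B * g'⁻¹ by
        rw [hB]; simp only [va]; group, ← q', ← mul_assoc, h11, one_mul]
    have hab : π i₀ ≠ π i₁ := fun e => hi (π.injective e)
    by_cases ha : π i₀ = i₀
    · have hb : π i₁ ≠ i₀ := fun e => hab (ha.trans e.symm)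
      refine C.fuse h4 (m := π i₁) (C.typ_of_conj h4 hv hr) (w := va * slot hf (π i₀) p)
        (fun s => (slot_comm hf hb.symm _ s).mul_left (slot_comm hf hab _ s)) hyX ?_
      have e : z = slot hf (π i₁) r * (va * slot hf (π i₀) p) := by
        rw [hz, ← mul_assoc, (((slot_comm hf hb.symm v r).mul_left (slot_comm hf hab p r))).eq]
      exact e ▸ hzy.symm
    · refine C.fuse h4 (m := π i₀) (C.typ_of_conj h4 hv hp) (w := va * slot hf (π i₁) r)
        (fun s => (slot_comm hf (Ne.symm ha) _ s).mul_left (slot_comm hf hab.symm _ s)) hyX ?_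
      have e : z = slot hf (π i₀) p * (va * slot hf (π i₁) r) := by
        rw [hz, ← mul_assoc, ← mul_assoc, (slot_comm hf (Ne.symm ha) v p).eq]
      exact e ▸ hzy.symm
  obtain ⟨l, w, hw, hc⟩ := C.exists_commuting h4 hys (by
      rw [hy]
      calc g * B * g⁻¹ * (g * B * g⁻¹) = g * (B * B) * g⁻¹ := by group
        _ = 1 := by rw [hBB, mul_one, mul_inv_cancel]) (by rw [hy, dd_conj, hBd])
  have h2 : Commute (g⁻¹ * slot hf l w * g) B := by
    show _ = _
    calc g⁻¹ * slot hf l w * g * B = g⁻¹ * (slot hf l w * y) * g := by rw [hy]; group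
      _ = g⁻¹ * (y * slot hf l w) * g := by rw [hc.eq]
      _ = _ := by rw [hy]; group
  have h3 := C.centr_pair h4 hi hv hv (X.mul_mem (X.mul_mem (X.inv_mem hg) (C.typ_mem h4 hw l)) hg) h2
  have := C.toCore.isStd_inv (C.std_of_typ h4 (X.inv_mem hg) (i := l) hw (by rwa [inv_inv]))
  rwa [inv_inv] at this

end EvenCtx

end CfsgLib.Geo.OrthWreath
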