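/-
A class of involutions of one factor with standard centralisers, closed under standard conjugation: the
centralisers of pairs and fused elements, and the whole overgroup, consist of standard elements.
-/
import Cfsg.Agent.Lib.Geo.OrthWreath.Even.Invol
import Cfsg.Agent.Lib.Geo.OrthWreath.Grp
import Cfsg.Agent.Lib.ZStar.Main

set_option autoImplicit false
set_option linter.unusedSectionVars false

namespace CfsgLib.Geo.OrthWreath

open CfsgLib.Classical CfsgLib.Classical.Quad Module
open CfsgLib.Geo.MixTensor (SymForm)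
open CfsgLib.Geo.TensorWreath (pvec)
open LinearMap (BilinForm)

variable {F : Type*} [Field F] [Finite F] {k t : ℕ} {f : BilinForm F (Ud F k)} {hf : SymForm f}

theorem slot_central (hf : SymForm f) (hk : 3 ≤ k) {a : Fin t} {u : OQ (qU f)}
    (h : ∀ s, Commute (slot hf a u) (slot hf a s)) : lm u = 1 ∨ lm u = -1 := by
  obtain ⟨c, hc⟩ := scalar_of_comm_one hf hk (M := lm u) fun d z hd hz _ _ => by
    have h1 : Commute u (sU hf hd hz) := slot_injective hf (by omega) a (by
      rw [map_mul, map_mul]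
      exact (h _).eq)
    rw [← lm_mul, ← lm_mul, h1.eq]
  obtain ⟨z, hz⟩ := exists_aniso_vec hf (k := k) (by omega)
  have h1 := map_f hf u z z
  have h2 : (u : Ud F k ≃ₗ[F] Ud F k) z = c • z := LinearMap.congr_fun hc z
  rw [h2, map_smul, map_smul, LinearMap.smul_apply, smul_eq_mul, smul_eq_mul, ← mul_assoc] at h1
  rcases mul_self_eq_one_iff.1 (mul_right_cancel₀ hz (h1.trans (one_mul _).symm)) with h | h
  · exact Or.inl (by rw [hc, h, one_smul])
  · exact Or.inr (LinearMap.ext fun q => by simp [hc, h])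

/-- The factor of a product with elements of the other factors, up to sign. -/
theorem slot_comp (hf : SymForm f) (hk : 3 ≤ k) {a : Fin t} {p v : OQ (qU f)} {w w' : OQ (qT f t)}
    (hw : ∀ s, Commute w (slot hf a s)) (hw' : ∀ s, Commute w' (slot hf a s))
    (h : slot hf a p * w = slot hf a v * w') : lm p = lm v ∨ lm p = -lm v := by
  have e : slot hf a (v⁻¹ * p) = w' * w⁻¹ := by
    rw [map_mul, map_inv, eq_mul_inv_iff_mul_eq, mul_assoc, h, inv_mul_cancel_left]
  have hp : lm p = lm v * lm (v⁻¹ * p) := by rw [← lm_mul, mul_inv_cancel_left]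
  rcases slot_central hf hk (a := a) (u := v⁻¹ * p) fun s => e ▸ (hw' s).mul_left (hw s).inv_left with h1 | h1 <;>
    rw [hp, h1]
  · exact Or.inl (mul_one _)
  · exact Or.inr (LinearMap.ext fun q => by simp)

/-- The permutation of the factors by a standard element. -/
theorem exists_conj (hk : 1 ≤ k) {g : OQ (qT f (t + 1))} (hg : IsStd g) :
    ∃ π : Equiv.Perm (Fin (t + 1)), ∀ i u, ∃ u', g * slot hf i u * g⁻¹ = slot hf (π i) u' := by
  obtain ⟨π, gs, m, e, hm, -, hs⟩ := hg.acts hf hk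
  exact ⟨π, fun i u => by
    obtain ⟨v, -, hv⟩ := conj_slot_sim hf e hm hs i u
    exact ⟨v, hv⟩⟩

/-- A class of test involutions of one factor. -/
structure Test (hf : SymForm f) (X : Subgroup (OQ (qT f (t + 1)))) (P : OQ (qU f) → Prop) : Prop
    extends EvenCtx hf X where
  sq : ∀ {v}, P v → v * v = 1
  mem : ∀ {v}, P v → ∀ l, slot hf l v ∈ X
  one : ∃ v, P v
  other : ∀ {v}, P v → ∃ e, P e ∧ Commute v e ∧ e ≠ v
  eq_of : ∀ {p v}, P p → P v → lm p = lm v ∨ lm p = -lm v → p = v
  not_scalar : ∀ {v}, P v → ∀ c : F, ¬ ∀ q, (v : Ud F k ≃ₗ[F] Ud F k) q = c • q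
  of_slot : ∀ {x : OQ (qT f (t + 1))}, x ∈ X → ∀ {i j : Fin (t + 1)} {v v' : OQ (qU f)}, P v →
    x * slot hf i v * x⁻¹ = slot hf j v' → IsStd x
  conj : ∀ {x : OQ (qT f (t + 1))}, x ∈ X → ∀ {i : Fin (t + 1)} {v : OQ (qU f)}, P v →
    IsStd (x * slot hf i v * x⁻¹) → ∃ l v', P v' ∧ x * slot hf i v * x⁻¹ = slot hf l v'
  centr : ∀ {x : OQ (qT f (t + 1))}, x ∈ X → ∀ {i : Fin (t + 1)} {v : OQ (qU f)}, v * v = 1 →
    (∃ w, (v : Ud F k ≃ₗ[F] Ud F k) w ≠ w) → (∃ w, (v : Ud F k ≃ₗ[F] Ud F k) w ≠ -w) →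
    Commute x (slot hf i v) → IsStd x
  finder : ∀ {x : OQ (qT f (t + 1))}, x ∈ X → ∀ {i j : Fin (t + 1)}, i ≠ j → ∀ {p q : OQ (qU f)}, P p → P q →
    IsStd (x * (slot hf i p * slot hf j q) * x⁻¹) →
    ∃ (l : Fin (t + 1)) (v : OQ (qU f)), P v ∧ Commute (x * (slot hf i p * slot hf j q) * x⁻¹) (slot hf l v)

namespace Test

variable {X : Subgroup (OQ (qT f (t + 1)))} {P : OQ (qU f) → Prop} (C : Test hf X P)
include C

theorem not_one {v : OQ (qU f)} (hv : P v) : lm v ≠ 1 ∧ lm v ≠ -1 :=
  ⟨fun e => C.not_scalar hv 1 fun q => by rw [one_smul]; exact LinearMap.congr_fun e q,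
    fun e => C.not_scalar hv (-1) fun q => by rw [neg_one_smul]; exact LinearMap.congr_fun e q⟩

theorem centr_p {x : OQ (qT f (t + 1))} (hx : x ∈ X) {i : Fin (t + 1)} {v : OQ (qU f)} (hv : P v)
    (h : Commute x (slot hf i v)) : IsStd x :=
  C.of_slot hx hv (mul_inv_eq_of_eq_mul h.eq)

theorem std_of_conj {x : OQ (qT f (t + 1))} (hx : x ∈ X) {i : Fin (t + 1)} {v : OQ (qU f)} (hv : P v)
    (hy : IsStd (x * slot hf i v * x⁻¹)) : IsStd x := by
  obtain ⟨l, v', -, e⟩ := C.conj hx hv hy
  exact C.of_slot hx hv e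

theorem p_of_conj {g : OQ (qT f (t + 1))} (hg : g ∈ X) {i j : Fin (t + 1)} {v v' : OQ (qU f)} (hv : P v)
    (e : g * slot hf i v * g⁻¹ = slot hf j v') : P v' := by
  obtain ⟨l, w, hw, e'⟩ := C.conj hg hv (e ▸ isStd_slot hf j v')
  rw [e] at e'
  by_cases hjl : j = l
  · subst hjl
    rwa [slot_injective hf C.toCore.k1 j e']
  · obtain ⟨c, hc⟩ := slot_eq_slot hf C.toCore.k1 (Ne.symm hjl) e'.symm
    exact absurd hc (C.not_scalar hw c)

/-- Two commuting test involutions have a non-scalar product. -/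
theorem p_mul_ne {p v : OQ (qU f)} (hp : P p) (hv : P v) (hne : p ≠ v) :
    (∃ q, ((p * v : OQ (qU f)) : Ud F k ≃ₗ[F] Ud F k) q ≠ q) ∧
      ∃ q, ((p * v : OQ (qU f)) : Ud F k ≃ₗ[F] Ud F k) q ≠ -q := by
  refine ⟨?_, ?_⟩ <;> by_contra! hall <;> refine hne (C.eq_of hp hv ?_)
  · exact Or.inl (LinearMap.ext fun q => by
      have h1 := hall ((v : Ud F k ≃ₗ[F] Ud F k) q)
      rw [Subgroup.coe_mul, LinearEquiv.mul_apply, invol_apply hf (C.sq hv)] at h1
      exact h1)
  · exact Or.inr (LinearMap.ext fun q => by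
      have h1 := hall ((v : Ud F k ≃ₗ[F] Ud F k) q)
      rw [Subgroup.coe_mul, LinearEquiv.mul_apply, invol_apply hf (C.sq hv)] at h1
      exact h1)

theorem p_pair_eq {a b i j : Fin (t + 1)} (hab : a ≠ b) (hij : i ≠ j) {p q v₁ v₂ : OQ (qU f)}
    (hp : P p) (h1 : P v₁) (h2 : P v₂)
    (h : slot hf a p * slot hf b q = slot hf i v₁ * slot hf j v₂) : (a = i ∧ p = v₁) ∨ (a = j ∧ p = v₂) := by
  have hk3 := C.toCore.k3
  by_cases hai : a = i
  · subst hai
    exact Or.inl ⟨rfl, C.eq_of hp h1 (slot_comp hf hk3 (fun s => slot_comm hf hab.symm _ s)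
      (fun s => slot_comm hf hij.symm _ s) h)⟩
  by_cases haj : a = j
  · subst haj
    rw [(slot_comm hf hij v₁ v₂).eq] at h
    exact Or.inr ⟨rfl, C.eq_of hp h2 (slot_comp hf hk3 (fun s => slot_comm hf hab.symm _ s)
      (fun s => slot_comm hf hij _ s) h)⟩
  exfalso
  rcases slot_comp hf hk3 (a := a) (p := p) (v := 1) (w := slot hf b q) (fun s => slot_comm hf hab.symm _ s)
      (w' := slot hf i v₁ * slot hf j v₂)
      (fun s => (slot_comm hf (Ne.symm hai) _ s).mul_left (slot_comm hf (Ne.symm haj) _ s))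
      (by rw [map_one, one_mul]; exact h) with e | e
  · exact (C.not_one hp).1 (by rw [e, lm_one])
  · exact (C.not_one hp).2 (by rw [e, lm_one])

/-- **The centraliser of a pair of test involutions of two factors is standard.** -/
theorem centr_pair {i j : Fin (t + 1)} (hij : i ≠ j) {p₁ p₂ : OQ (qU f)} (hp₁ : P p₁) (hp₂ : P p₂)
    {x : OQ (qT f (t + 1))} (hx : x ∈ X) (h : Commute x (slot hf i p₁ * slot hf j p₂)) : IsStd x := by
  classical
  haveI := C.toCore.finiteX
  have hk1 := C.toCore.k1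
  set v₁ := slot hf i p₁ with hv₁
  set v₂ := slot hf j p₂ with hv₂
  set B := v₁ * v₂ with hB
  have h11 : v₁ * v₁ = 1 := by rw [hv₁, ← map_mul, (C.sq hp₁), map_one]
  have h22 : v₂ * v₂ = 1 := by rw [hv₂, ← map_mul, (C.sq hp₂), map_one]
  have h12 : Commute v₁ v₂ := slot_comm hf hij _ _
  have hBB : B * B = 1 := by rw [hB, mul_assoc, ← mul_assoc v₂, h12.symm.eq, mul_assoc v₁ v₂, h22, mul_one, h11]
  have hv₁B : Commute v₁ B := (Commute.refl v₁).mul_right h12
  have hne1 : ∀ {l : Fin (t + 1)} {p : OQ (qU f)}, P p → slot hf l p ≠ 1 := fun {l p} hp e => by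
    have := slot_injective hf hk1 l (e.trans (map_one _).symm)
    exact (C.not_one hp).1 (by rw [this, lm_one])
  have hdiff : ∀ {l l' : Fin (t + 1)} {p p' : OQ (qU f)}, l ≠ l' → P p → slot hf l p ≠ slot hf l' p' :=
    fun {l l' p p'} hl hp e => by
      obtain ⟨c, hc⟩ := slot_eq_slot hf hk1 hl e
      exact C.not_scalar hp c hc
  set K : Subgroup (OQ (qT f (t + 1))) := X ⊓ Subgroup.centralizer {B} with hK
  have hmemK : ∀ {y}, y ∈ K ↔ y ∈ X ∧ Commute y B := fun {y} => by
    rw [hK, Subgroup.mem_inf, Subgroup.mem_centralizer_singleton_iff]; rfl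
  have hBK : B ∈ K := hmemK.2 ⟨X.mul_mem (C.mem hp₁ i) (C.mem hp₂ j), Commute.refl B⟩
  set Bk : K := ⟨B, hBK⟩
  set N : Subgroup K := Subgroup.zpowers Bk
  have hcentral : Bk ∈ Subgroup.center K := Subgroup.mem_center_iff.2 fun y => Subtype.ext (hmemK.1 y.2).2.eq
  haveI hN : N.Normal := ⟨fun n hn g => by
    have h1 : n ∈ Subgroup.center K := (Subgroup.zpowers_le.2 hcentral) hn
    rwa [Subgroup.mem_center_iff.1 h1 g, mul_inv_cancel_right]⟩
  have hmemN : ∀ {y : K}, y ∈ N → (y : OQ (qT f (t + 1))) = 1 ∨ (y : OQ (qT f (t + 1))) = B := by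
    intro y hy
    obtain ⟨n, rfl⟩ := hy
    have h2 : Bk ^ (2 : ℤ) = 1 := Subtype.ext (by simp [pow_two, zpow_two, Bk, hBB])
    rcases Int.even_or_odd' n with ⟨q, rfl | rfl⟩
    · exact Or.inl (by simp [zpow_mul, h2])
    · exact Or.inr (by simp [zpow_add, zpow_mul, h2, Bk])
  let φ := QuotientGroup.mk' N
  let H : Subgroup K := C.toCore.stdIn.comap K.subtype
  let Y := H.map φ
  let w₁ : K := ⟨v₁, hmemK.2 ⟨C.mem hp₁ i, hv₁B⟩⟩
  have hφ : ∀ {y z : K}, φ y = φ z → (z : OQ (qT f (t + 1))) = y ∨ (z : OQ (qT f (t + 1))) = y * B := by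
    intro y z e
    rcases hmemN (QuotientGroup.eq.1 e) with h | h
    · left
      rw [Subgroup.coe_mul, Subgroup.coe_inv, inv_mul_eq_one] at h
      exact h.symm
    · right
      rw [Subgroup.coe_mul, Subgroup.coe_inv, inv_mul_eq_iff_eq_mul] at h
      exact h
  have hwit : ∀ g : K, Commute (φ w₁) (φ g * φ w₁ * (φ g)⁻¹) → IsStd (g : OQ (qT f (t + 1))) := by
    intro g hg
    let v' : K := g * w₁ * g⁻¹
    have h1 : φ (w₁ * v') = φ (v' * w₁) := by simpa [v'] using hg.eq
    have hd := hφ h1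
    have hv : (v' : OQ (qT f (t + 1))) = (g : OQ (qT f (t + 1))) * v₁ * (g : OQ (qT f (t + 1)))⁻¹ := rfl
    have hvK := hmemK.1 v'.2
    simp only [Subgroup.coe_mul, hv] at hd hvK
    rw [show ((w₁ : K) : OQ (qT f (t + 1))) = v₁ from rfl] at hd
    refine C.std_of_conj (hmemK.1 g.2).1 (i := i) hp₁ ?_
    rw [← hv₁]
    have huu : (g : OQ (qT f (t + 1))) * v₁ * (g : OQ (qT f (t + 1)))⁻¹ *
        ((g : OQ (qT f (t + 1))) * v₁ * (g : OQ (qT f (t + 1)))⁻¹) = 1 := by
      calc _ = (g : OQ (qT f (t + 1))) * (v₁ * v₁) * (g : OQ (qT f (t + 1)))⁻¹ := by group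
        _ = 1 := by rw [h11, mul_one, mul_inv_cancel]
    revert huu hd hvK
    generalize (g : OQ (qT f (t + 1))) * v₁ * (g : OQ (qT f (t + 1)))⁻¹ = u
    intro hd hvK huu
    rcases hd with h | h
    · exact C.centr_p hvK.1 hp₁ (show _ = _ from h)
    · refine C.of_slot hvK.1 (i := i) (j := j) (v' := p₂) hp₁ ?_
      rw [← hv₁, ← hv₂, inv_eq_of_mul_eq_one_right huu, h, mul_assoc (v₁ * u), ← hvK.2.eq, ← mul_assoc,
        mul_assoc v₁ u u, huu, mul_one, hB, ← mul_assoc, h11, one_mul]
  have hperm : ∀ g : K, IsStd (g : OQ (qT f (t + 1))) →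
      (g : OQ (qT f (t + 1))) * v₁ * (g : OQ (qT f (t + 1)))⁻¹ = v₁ ∨
      (g : OQ (qT f (t + 1))) * v₁ * (g : OQ (qT f (t + 1)))⁻¹ = v₂ := by
    intro g hg
    obtain ⟨π, hπ⟩ := exists_conj (hf := hf) hk1 hg
    obtain ⟨a, ha⟩ := hπ i p₁
    obtain ⟨b, hb⟩ := hπ j p₂
    rw [← hv₁] at ha
    rw [← hv₂] at hb
    have hp : slot hf (π i) a * slot hf (π j) b = slot hf i p₁ * slot hf j p₂ := by
      rw [← ha, ← hb, ← hv₁, ← hv₂, ← hB]
      calc _ = (g : OQ (qT f (t + 1))) * B * (g : OQ (qT f (t + 1)))⁻¹ := by rw [hB]; group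
        _ = B := by rw [(hmemK.1 g.2).2.eq, mul_inv_cancel_right]
    rcases C.p_pair_eq (fun e => hij (π.injective e)) hij (C.p_of_conj (hmemK.1 g.2).1 hp₁ ha) hp₁ hp₂ hp with
      ⟨e1, e2⟩ | ⟨e1, e2⟩
    · exact Or.inl (by rw [ha, e1, e2])
    · exact Or.inr (by rw [ha, e1, e2])
  have hiso : Cfsg.IsIsolatedInvolution (φ w₁) := by
    refine ⟨Signalizer.orderOf_eq_two_of (fun e1 => ?_) (by rw [← map_mul, show w₁ * w₁ = 1 from Subtype.ext h11, map_one]),
      fun g hg => ?_⟩
    · rcases hmemN ((QuotientGroup.eq_one_iff (N := N) w₁).1 e1) with h | h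
      · exact hne1 hp₁ h
      · exact hne1 hp₂ (mul_eq_left.1 h.symm)
    · obtain ⟨g, rfl⟩ := QuotientGroup.mk'_surjective N g
      rcases hperm g (hwit g hg) with h | h
      · rw [← map_inv, ← map_mul, ← map_mul]
        exact congrArg φ (Subtype.ext h)
      · rw [← map_inv, ← map_mul, ← map_mul]
        refine QuotientGroup.eq.2 ?_
        have : (g * w₁ * g⁻¹)⁻¹ * w₁ = Bk := Subtype.ext (by
          show ((g : OQ (qT f (t + 1))) * v₁ * (g : OQ (qT f (t + 1)))⁻¹)⁻¹ * v₁ = B
          rw [h, inv_eq_of_mul_eq_one_right h22, hB]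
          exact h12.eq.symm)
        exact this ▸ Subgroup.mem_zpowers Bk
  have hY : ∀ y : K ⧸ N, Commute y (φ w₁) → y ∈ Y := by
    intro y hy
    obtain ⟨g, rfl⟩ := QuotientGroup.mk'_surjective N y
    refine Subgroup.mem_map_of_mem φ ⟨(hmemK.1 g.2).1, hwit g ?_⟩
    rw [show φ g * φ w₁ * (φ g)⁻¹ = φ w₁ by rw [hy.eq, mul_inv_cancel_right]]
  have hO : Cfsg.oddCore (K ⧸ N) ≤ Y := by
    obtain ⟨p, hp, hpc, hpne⟩ := C.other hp₁
    set e₁ := slot hf i p
    have hce : Commute v₁ e₁ := hpc.map _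
    have he₁B : Commute e₁ B := hce.symm.mul_right (slot_comm hf hij _ _)
    let w₂ : K := ⟨e₁, hmemK.2 ⟨C.mem hp i, he₁B⟩⟩
    refine le_of_four (ZStar.odd_card_oddCore _) hiso.1 (b := φ w₂) ?_ ?_ ?_ ?_ ?_ ?_
    · refine Signalizer.orderOf_eq_two_of (fun e1 => ?_) (by
        rw [← map_mul, show w₂ * w₂ = 1 from Subtype.ext (show e₁ * e₁ = 1 by rw [← map_mul, (C.sq hp), map_one]), map_one])
      rcases hmemN ((QuotientGroup.eq_one_iff (N := N) w₂).1 e1) with h | h
      · exact hne1 hp h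
      · change slot hf i p = v₁ * v₂ at h
        have h' : slot hf i (p₁ * p) = slot hf j p₂ := by
          rw [map_mul, h, ← mul_assoc, ← hv₁, h11, one_mul]
        exact hdiff hij.symm hp₂ h'.symm
    · exact (show Commute w₁ w₂ from Subtype.ext hce.eq).map φ
    · intro e1
      rcases hφ e1 with h | h
      · exact hpne (slot_injective hf hk1 i h)
      · change e₁ = v₁ * B at h
        rw [hB, ← mul_assoc, h11, one_mul] at h
        exact hdiff hij hp h
    · rw [Subgroup.normalizer_eq_top]; trivial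
    · rw [Subgroup.normalizer_eq_top]; trivial
    · intro y hyO hy
      rcases hy with hy | hy | hy
      · exact hY y hy
      all_goals
        obtain ⟨g, rfl⟩ := QuotientGroup.mk'_surjective N y
        obtain ⟨n, hn⟩ : Odd (orderOf (φ g)) := Odd.of_dvd_nat (ZStar.odd_card_oddCore _)
          (Subgroup.orderOf_dvd_natCard _ hyO)
        have hgn : φ (g ^ orderOf (φ g)) = 1 := by rw [map_pow, pow_orderOf_eq_one]
        have hgX := (hmemK.1 g.2).1
        have odd_fix : ∀ w : K, φ g * φ w = φ w * φ g →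
            Commute (g : OQ (qT f (t + 1))) (w : OQ (qT f (t + 1))) := by
          intro w hw
          rcases hφ (show φ (w * g) = φ (g * w) by rw [map_mul, map_mul]; exact hw.symm) with h | h
          · exact h
          exfalso
          have h' : g * w = w * g * Bk := Subtype.ext h
          have hcen : ∀ q : K, Commute Bk q := fun q => (Subgroup.mem_center_iff.1 hcentral q).symm
          have hstep : ∀ r : ℕ, g ^ r * w = w * g ^ r * Bk ^ r := by
            intro r
            induction r with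
            | zero => simp
            | succ r ih =>
              rw [pow_succ', pow_succ Bk, mul_assoc, ih, ← mul_assoc, ← mul_assoc, h', mul_assoc (w * g),
                ((hcen (g ^ r))).eq]
              simp only [mul_assoc]
              rw [((hcen _).pow_right r).eq]
          have h2 : Bk ^ orderOf (φ g) = Bk := by
            rw [hn, pow_succ, pow_mul, show Bk ^ 2 = 1 from Subtype.ext (by simp [pow_two, Bk, hBB]), one_pow, one_mul]
          have h3 := hstep (orderOf (φ g))
          rw [h2] at h3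
          have h4' : g ^ orderOf (φ g) * w = w * g ^ orderOf (φ g) := by
            rcases hmemN ((QuotientGroup.eq_one_iff (N := N) _).1 hgn) with q | q
            · rw [show g ^ orderOf (φ g) = 1 from Subtype.ext q, one_mul, mul_one]
            · rw [show g ^ orderOf (φ g) = Bk from Subtype.ext q]; exact (hcen w).eq
          rw [h4'] at h3
          have hB1 : B = 1 := congrArg Subtype.val (mul_eq_left.1 h3.symm)
          exact hdiff hij hp₁ ((eq_inv_of_mul_eq_one_left hB1).trans (inv_eq_of_mul_eq_one_right h22))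
        refine Subgroup.mem_map_of_mem φ (x := g) ⟨hgX, ?_⟩
      · exact C.centr_p hgX hp (odd_fix w₂ hy.eq)
      · obtain ⟨q1, q2⟩ := C.p_mul_ne hp₁ hp (Ne.symm hpne)
        refine C.centr hgX (i := i) (v := p₁ * p) ?_ q1 q2 ?_
        · rw [← pow_two, hpc.mul_pow, pow_two, pow_two, (C.sq hp₁), (C.sq hp), one_mul]
        · rw [map_mul]
          exact odd_fix (w₁ * w₂) (by rw [map_mul]; exact hy.eq)
  obtain ⟨y, hy, hy'⟩ := Subgroup.mem_map.1
    (le_of_isolated hiso hY hO (φ ⟨x, hmemK.2 ⟨hx, h⟩⟩))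
  have hys : IsStd (y : OQ (qT f (t + 1))) := hy.2
  rcases hφ hy' with q | q
  · rw [show x = (y : OQ (qT f (t + 1))) from q]; exact hys
  · rw [show x = (y : OQ (qT f (t + 1))) * B from q]; exact hys.mul ((isStd_slot hf i _).mul (isStd_slot hf j _))

/-- The centraliser of a product of a test involution with another one. -/
theorem centr_product {m l : Fin (t + 1)} {e v : OQ (qU f)} (he : P e) (hv : P v)
    (hc : Commute (slot hf m e) (slot hf l v)) (hne : slot hf m e ≠ slot hf l v)
    {y : OQ (qT f (t + 1))} (hy : y ∈ X) (h : Commute y (slot hf m e * slot hf l v)) : IsStd y := by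
  by_cases hml : m = l
  · subst hml
    have hev : Commute e v := slot_injective hf C.toCore.k1 m (by rw [map_mul, map_mul]; exact hc.eq)
    obtain ⟨q1, q2⟩ := C.p_mul_ne he hv fun q => hne (by rw [q])
    exact C.centr hy (i := m) (v := e * v) (by rw [← pow_two, hev.mul_pow, pow_two, pow_two, (C.sq he), (C.sq hv), one_mul]) q1 q2
      (by rwa [map_mul])
  · exact C.centr_pair hml he hv hy h

/-- A central involution of a dihedral group containing a test involution. -/
theorem centr_central {m i : Fin (t + 1)} {e v : OQ (qU f)} (he : P e) (hv : P v)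
    {z : OQ (qT f (t + 1))} (hzX : z ∈ X) (hzo : orderOf z = 2) (hze : Commute z (slot hf m e))
    {x : OQ (qT f (t + 1))} (hxX : x ∈ X) (hx : slot hf m e * z = x * slot hf i v * x⁻¹)
    {y : OQ (qT f (t + 1))} (hy : y ∈ X) (h : Commute z y) : IsStd y := by
  have hzs : IsStd z := C.centr_p hzX he hze
  obtain ⟨l, v', hv', e'⟩ := C.conj hxX hv (hx ▸ (isStd_slot hf m e).mul hzs)
  rw [← hx] at e'
  have hee : slot hf m e * slot hf m e = 1 := by rw [← map_mul, (C.sq he), map_one]
  have hz : z = slot hf m e * slot hf l v' := by rw [← e', ← mul_assoc, hee, one_mul]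
  refine C.centr_product he hv' ?_ (fun q => Signalizer.involution_ne_one hzo (by rw [hz, ← q, hee])) hy
    (hz ▸ h.symm)
  rw [← e']
  exact (Commute.refl _).mul_right hze.symm

/-- **The centraliser of a standard element with a test involution as one factor is standard.** -/
theorem fuse {m : Fin (t + 1)} {v : OQ (qU f)} (hv : P v) {w : OQ (qT f (t + 1))}
    (hw : ∀ s, Commute w (slot hf m s)) {g : OQ (qT f (t + 1))} (hg : g ∈ X)
    (h : Commute g (slot hf m v * w)) : IsStd g := by
  classical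
  haveI := C.toCore.finiteX
  haveI : Finite (OQ (qU f)) := OrthTensor.finite_OQ _
  have hk1 := C.toCore.k1
  obtain ⟨e, he, hce, hne⟩ := C.other hv
  set va := slot hf m e
  set vb := slot hf m v
  have hca : Commute va (vb * w) := (hce.symm.map (slot hf m)).mul_right (hw e).symm
  set y := g * vb * g⁻¹ with hy
  have hvb : Commute vb (vb * w) := (Commute.refl vb).mul_right (hw v).symm
  have hcy : Commute y (vb * w) := (h.mul_left hvb).mul_left h.inv_left
  have hyX : y ∈ X := X.mul_mem (X.mul_mem hg (C.mem hv m)) (X.inv_mem hg)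
  have hD : Subgroup.closure ({va, y} : Set (OQ (qT f (t + 1)))) ≤ X ⊓ Subgroup.centralizer {vb * w} := by
    refine (Subgroup.closure_le _).2 ?_
    rintro d (rfl | rfl)
    · exact ⟨C.mem he m, Subgroup.mem_centralizer_singleton_iff.2 hca⟩
    · exact ⟨hyX, Subgroup.mem_centralizer_singleton_iff.2 hcy⟩
  have ord : ∀ {p : OQ (qU f)}, P p → orderOf (slot hf m p) = 2 := fun {p} hp =>
    Signalizer.orderOf_eq_two_of (fun q => (C.not_one hp).1 (by
      rw [slot_injective hf hk1 m (q.trans (map_one _).symm), lm_one])) (by rw [← map_mul, (C.sq hp), map_one])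
  obtain ⟨z, hzD, hzo, hze, hzy, d, hd, hdz⟩ := exists_central (ord he)
    (show orderOf y = 2 by rw [hy, Signalizer.orderOf_conj]; exact ord hv) fun d hd q => by
      obtain ⟨hdX, hdc⟩ := hD hd
      have hdc' : Commute d (vb * w) := Subgroup.mem_centralizer_singleton_iff.1 hdc
      set k₀ := g⁻¹ * d
      have hh : k₀ * va * k₀⁻¹ = vb := by
        calc k₀ * va * k₀⁻¹ = g⁻¹ * (d * va * d⁻¹) * g := by simp only [k₀, mul_inv_rev, inv_inv, mul_assoc]
          _ = g⁻¹ * (g * vb * g⁻¹) * g := by rw [q, hy]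
          _ = vb := by group
      have hhs : IsStd k₀ := C.of_slot (X.mul_mem (X.inv_mem hg) hdX) he hh
      obtain ⟨π, hπ⟩ := exists_conj (hf := hf) hk1 hhs
      choose S hS using hπ m
      have hm : π m = m := by
        by_contra hne'
        obtain ⟨c, hc⟩ := slot_eq_slot hf hk1 (Ne.symm hne') ((hh.symm.trans (hS e)) : slot hf m v = slot hf (π m) (S e))
        exact C.not_scalar hv c hc
      rw [hm] at hS
      have hSi : Function.Injective S := fun a b hab => slot_injective hf hk1 m (by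
        have := (hS a).trans ((congrArg (slot hf m) hab).trans (hS b).symm)
        exact mul_left_cancel (mul_right_cancel this))
      have hw' : ∀ s, Commute (k₀ * w * k₀⁻¹) (slot hf m s) := fun s => by
        obtain ⟨a, rfl⟩ := Finite.surjective_of_injective hSi s
        rw [← hS]
        show _ = _
        calc k₀ * w * k₀⁻¹ * (k₀ * slot hf m a * k₀⁻¹) = k₀ * (w * slot hf m a) * k₀⁻¹ := by group
          _ = k₀ * (slot hf m a * w) * k₀⁻¹ := by rw [(hw a).eq]
          _ = _ := by group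
      have hk₀ : Commute k₀ (vb * w) := h.inv_left.mul_left hdc'
      have e1 : slot hf m (S v) * (k₀ * w * k₀⁻¹) = slot hf m v * w := by
        rw [← hS]
        calc _ = k₀ * (vb * w) * k₀⁻¹ := by simp only [vb]; group
          _ = vb * w := by rw [hk₀.eq, mul_inv_cancel_right]
      have e2 : S v = v := C.eq_of (C.p_of_conj (X.mul_mem (X.inv_mem hg) hdX) hv (hS v)) hv (slot_comp hf C.toCore.k3 hw' hw e1)
      have e3 : slot hf m (S e) = slot hf m v := (hS e).symm.trans hh
      exact hne (hSi ((slot_injective hf hk1 m e3).trans e2.symm))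
  have hzX : z ∈ X := (hD hzD).1
  have hdX : d ∈ X := (hD hd).1
  rcases hdz with q | q
  · exact C.std_of_conj hg hv (C.centr_central he he hzX hzo hze hdX q hyX hzy)
  · exact C.std_of_conj hg hv (C.centr_central he hv hzX hzo hze (i := m) (x := d * g) (X.mul_mem hdX hg)
      (q.trans (by simp only [y, vb]; group)) hyX hzy)

/-- **A proper overgroup consists of standard elements.** -/
theorem all_std {g : OQ (qT f (t + 1))} (hg : g ∈ X) : IsStd g := by
  classical
  haveI := C.toCore.finiteX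
  have hk := C.k4
  have hk1 := C.toCore.k1
  obtain ⟨i₀, i₁, hi⟩ : ∃ i₀ i₁ : Fin (t + 1), i₀ ≠ i₁ :=
    ⟨0, ⟨1, by have := C.t1; omega⟩, fun e => by simpa using congrArg Fin.val e⟩
  obtain ⟨v, hv⟩ := C.one
  set va := slot hf i₀ v
  set B := va * slot hf i₁ v with hB
  set y := g * B * g⁻¹ with hy
  have hBX : B ∈ X := X.mul_mem (C.mem hv i₀) (C.mem hv i₁)
  have hyX : y ∈ X := X.mul_mem (X.mul_mem hg hBX) (X.inv_mem hg)
  have hD : Subgroup.closure ({va, y} : Set (OQ (qT f (t + 1)))) ≤ X := by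
    refine (Subgroup.closure_le _).2 ?_
    rintro d (rfl | rfl)
    · exact C.mem hv i₀
    · exact hyX
  have hne : ∀ d ∈ Subgroup.closure ({va, y} : Set (OQ (qT f (t + 1)))), d * va * d⁻¹ ≠ y := fun d hd q => by
    have hb : g⁻¹ * d * va * (g⁻¹ * d)⁻¹ = B := by
      calc _ = g⁻¹ * (d * va * d⁻¹) * g := by group
        _ = B := by rw [q, hy]; group
    obtain ⟨l, v', -, e⟩ := C.conj (X.mul_mem (X.inv_mem hg) (hD hd)) (i := i₀) hv
      (hb ▸ (isStd_slot hf i₀ v).mul (isStd_slot hf i₁ v))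
    change g⁻¹ * d * va * (g⁻¹ * d)⁻¹ = slot hf l v' at e
    rw [hb, hB] at e
    have hk3 := C.toCore.k3
    by_cases hl : l = i₀
    · subst hl
      rcases slot_comp hf hk3 (a := i₁) (p := v) (v := 1) (w := va) (w' := slot hf l v')
          (fun s => slot_comm hf hi _ s) (fun s => slot_comm hf hi _ s)
          (by rw [map_one, one_mul, ← (slot_comm hf hi v v).eq]; exact e) with h | h
      · exact (C.not_one hv).1 (by rw [h, lm_one])
      · exact (C.not_one hv).2 (by rw [h, lm_one])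
    · rcases slot_comp hf hk3 (a := i₀) (p := v) (v := 1) (w := slot hf i₁ v) (w' := slot hf l v')
          (fun s => slot_comm hf hi.symm _ s) (fun s => slot_comm hf hl _ s)
          (by rw [map_one, one_mul]; exact e) with h | h
      · exact (C.not_one hv).1 (by rw [h, lm_one])
      · exact (C.not_one hv).2 (by rw [h, lm_one])
  have h11 : va * va = 1 := by rw [← map_mul, (C.sq hv), map_one]
  have hva1 : va ≠ 1 := fun e => (C.not_one hv).1 (by
    rw [slot_injective hf hk1 i₀ (e.trans (map_one _).symm), lm_one])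
  have hBB : B * B = 1 := by
    rw [hB, mul_assoc, ← mul_assoc (slot hf i₁ v), (slot_comm hf hi v v).symm.eq, mul_assoc va (slot hf i₁ v),
      ← map_mul, (C.sq hv), map_one, mul_one, h11]
  have hB1 : B ≠ 1 := fun e => by
    obtain ⟨c, hc⟩ := slot_eq_slot hf hk1 hi
      ((eq_inv_of_mul_eq_one_left e).trans (inv_eq_of_mul_eq_one_right (by rw [← map_mul, (C.sq hv), map_one])))
    exact C.not_scalar hv c hc
  obtain ⟨z, hzD, hzo, hza, hzy, d, hd, hdz⟩ := exists_central (Signalizer.orderOf_eq_two_of hva1 h11)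
    (show orderOf y = 2 by rw [hy, Signalizer.orderOf_conj]; exact Signalizer.orderOf_eq_two_of hB1 hBB)
    hne
  have hzX : z ∈ X := hD hzD
  have hdX : d ∈ X := hD hd
  have hys : IsStd y := by
    rcases hdz with q | q
    · exact C.centr_central hv hv hzX hzo hza hdX q hyX hzy
    set g' := d * g
    have hg' : g' ∈ X := X.mul_mem hdX hg
    have q' : va * z = g' * B * g'⁻¹ := q.trans (by simp only [g', y]; group)
    have h1 : Commute va (g' * B * g'⁻¹) := q' ▸ (Commute.refl va).mul_right hza.symm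
    have h2 : Commute (g'⁻¹ * va * g') B := by
      show _ = _
      calc g'⁻¹ * va * g' * B = g'⁻¹ * (va * (g' * B * g'⁻¹)) * g' := by group
        _ = g'⁻¹ * (g' * B * g'⁻¹ * va) * g' := by rw [h1.eq]
        _ = _ := by group
    have h3 := C.centr_pair hi hv hv
      (X.mul_mem (X.mul_mem (X.inv_mem hg') (C.mem hv i₀)) hg') h2
    have hg's : IsStd g' := by
      have := C.toCore.isStd_inv (C.std_of_conj (X.inv_mem hg') (i := i₀) hv (by rwa [inv_inv]))
      rwa [inv_inv] at this
    obtain ⟨π, hπ⟩ := exists_conj (hf := hf) hk1 hg's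
    obtain ⟨p, hp⟩ := hπ i₀ v
    obtain ⟨r, hr⟩ := hπ i₁ v
    have hz : z = va * (slot hf (π i₀) p * slot hf (π i₁) r) := by
      rw [← hp, ← hr, show g' * slot hf i₀ v * g'⁻¹ * (g' * slot hf i₁ v * g'⁻¹) = g' * B * g'⁻¹ by
        rw [hB]; simp only [va]; group, ← q', ← mul_assoc, h11, one_mul]
    have hab : π i₀ ≠ π i₁ := fun e => hi (π.injective e)
    by_cases ha : π i₀ = i₀
    · have hb : π i₁ ≠ i₀ := fun e => hab (ha.trans e.symm)
      refine C.fuse (m := π i₁) (C.p_of_conj hg' hv hr) (w := va * slot hf (π i₀) p)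
        (fun s => (slot_comm hf hb.symm _ s).mul_left (slot_comm hf hab _ s)) hyX ?_
      have e : z = slot hf (π i₁) r * (va * slot hf (π i₀) p) := by
        rw [hz, ← mul_assoc, (((slot_comm hf hb.symm v r).mul_left (slot_comm hf hab p r))).eq]
      exact e ▸ hzy.symm
    · refine C.fuse (m := π i₀) (C.p_of_conj hg' hv hp) (w := va * slot hf (π i₁) r)
        (fun s => (slot_comm hf (Ne.symm ha) _ s).mul_left (slot_comm hf hab.symm _ s)) hyX ?_
      have e : z = slot hf (π i₀) p * (va * slot hf (π i₁) r) := by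
        rw [hz, ← mul_assoc, ← mul_assoc, (slot_comm hf (Ne.symm ha) v p).eq]
      exact e ▸ hzy.symm
  obtain ⟨l, w, hw, hc⟩ := C.finder hg hi hv hv (by rw [hy, hB] at hys; exact hys)
  change Commute y (slot hf l w) at hc
  have h2 : Commute (g⁻¹ * slot hf l w * g) B := by
    show _ = _
    calc g⁻¹ * slot hf l w * g * B = g⁻¹ * (slot hf l w * y) * g := by rw [hy]; group
      _ = g⁻¹ * (y * slot hf l w) * g := by rw [hc.eq]
      _ = _ := by rw [hy]; group
  have h3 := C.centr_pair hi hv hv (X.mul_mem (X.mul_mem (X.inv_mem hg) (C.mem hw l)) hg) h2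
  have := C.toCore.isStd_inv (C.std_of_conj (X.inv_mem hg) (i := l) hw (by rwa [inv_inv]))
  rwa [inv_inv] at this

end Test

end CfsgLib.Geo.OrthWreath
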