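/-
The overgroups of the standard elements of `Ω` of an even-dimensional tensor power.
-/
import Cfsg.Agent.Lib.Geo.OrthWreath.Level
import Cfsg.Agent.Lib.Geo.OrthWreath.Even.Main
import Cfsg.Agent.Lib.Geo.OrthWreath.Four.Std

set_option autoImplicit false
set_option linter.unusedSectionVars false

namespace CfsgLib.Geo.OrthWreath

open CfsgLib.Classical CfsgLib.Classical.Quad Module
open CfsgLib.Geo.MixTensor (SymForm)
open LinearMap (BilinForm)

variable {F : Type*} [Field F] [Finite F] {k : ℕ} {f : BilinForm F (Ud F k)}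

/-- **An overgroup of the standard elements of `Ω` is `Ω` or consists of standard elements, in even dimension.** -/
theorem dichotomy_even (hf : SymForm f) (hk : 4 ≤ k) (hke : Even k) (thin : k = 4 → OrthTensorFour.Thin f)
    (L1 : ∀ (f : BilinForm F (Ud F 4)) (hf : SymForm f) (X : Subgroup (OQ (qT f (1 + 1)))),
      EvenCtx hf X → PlaneStd hf X) :
    ∀ (t : ℕ) (X : Subgroup (OQ (qT f (t + 1)))), X ≤ commutator (OQ (qT f (t + 1))) →
      (∀ x ∈ commutator (OQ (qT f (t + 1))), IsStd x → x ∈ X) →
      commutator (OQ (qT f (t + 1))) ≤ X ∨ ∀ x ∈ X, IsStd x := by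
  intro t
  induction t with
  | zero => exact fun X _ _ => Or.inr fun x _ => isStd_level_one x
  | succ t ih =>
    intro X hle hbase
    by_cases hp : commutator (OQ (qT f (t + 1 + 1))) ≤ X
    · exact Or.inl hp
    have C : EvenCtx hf X :=
      { core_even hf hk hke thin (Nat.le_add_left 1 t) hbase hle hp ih with k4 := hk, ke := hke, ih := ih }
    by_cases h4 : k = 4 → 2 ≤ t + 1
    · exact Or.inr fun x hx => C.all_std h4 hx
    obtain ⟨hk4, ht⟩ := Classical.not_imp.1 h4
    subst hk4
    obtain rfl : t = 0 := by omega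
    exact Or.inr fun x hx => all_std_four C (L1 f hf X C) hx

end CfsgLib.Geo.OrthWreath
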